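import Mathlib

/-!
# Frobenius' theorem on the number of solutions of `x ^ n = c`
-/

set_option autoImplicit false

namespace Cfsg.Agent.H70

open Subgroup

variable {G : Type*} [Group G]

/-- `p`-elements. -/
def Pel (p : ℕ) (x : G) : Prop := ∃ k : ℕ, x ^ (p ^ k) = 1

theorem Pel.pow {p : ℕ} {x : G} (h : Pel p x) (n : ℕ) : Pel p (x ^ n) := by
  obtain ⟨k, hk⟩ := h
  exact ⟨k, by rw [← pow_mul, mul_comm, pow_mul, hk, one_pow]⟩

theorem Pel.orderOf {p : ℕ} [Fact p.Prime] {x : G} (h : Pel p x) : ∃ k : ℕ, orderOf x = p ^ k := by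
  obtain ⟨k, hk⟩ := h
  obtain ⟨j, _, hj⟩ := (Nat.dvd_prime_pow Fact.out).mp (orderOf_dvd_of_pow_eq_one hk)
  exact ⟨j, hj⟩

theorem pel_of_orderOf {p : ℕ} {x : G} {k : ℕ} (h : _root_.orderOf x = p ^ k) : Pel p x :=
  ⟨k, by rw [← h, pow_orderOf_eq_one]⟩

/-- Counting with fibres. -/
theorem dvd_card_of_fibers {α β : Type*} [Finite α] (f : α → β) (N : ℕ)
    (h : ∀ a : α, N ∣ Nat.card {b : α // f b = f a}) : N ∣ Nat.card α := by
  classical
  haveI : Fintype α := Fintype.ofFinite α
  rw [Nat.card_eq_fintype_card, ← Finset.card_univ, Finset.card_eq_sum_card_image f]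
  apply Finset.dvd_sum
  intro b hb
  obtain ⟨a, -, rfl⟩ := Finset.mem_image.mp hb
  have := h a
  rwa [Nat.card_eq_fintype_card, Fintype.card_subtype] at this

theorem solset_aux {p : ℕ} [Fact p.Prime] {n : ℕ} {d z : G} (hd : d ≠ 1) (hz : Pel p z)
    (hzn : z ^ n = d) : ∃ K s : ℕ, 0 < s ∧ s ≤ K ∧ orderOf z = p ^ K ∧ orderOf d = p ^ s ∧
      Nat.gcd (p ^ K) n = p ^ (K - s) := by
  obtain ⟨K, hK⟩ := hz.orderOf
  have hp := (Fact.out : p.Prime)
  have h1 : orderOf d = p ^ K / Nat.gcd (p ^ K) n := by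
    rw [← hzn, ← hK]
    apply orderOf_pow' z
    rintro rfl
    rw [pow_zero] at hzn
    exact hd hzn.symm
  obtain ⟨j, hj, hj'⟩ := (Nat.dvd_prime_pow hp).mp (Nat.gcd_dvd_left (p ^ K) n)
  rw [hj', Nat.pow_div hj hp.pos] at h1
  refine ⟨K, K - j, ?_, Nat.sub_le _ _, hK, h1, ?_⟩
  · apply Nat.pos_of_ne_zero
    intro h2
    rw [h2, pow_zero, orderOf_eq_one_iff] at h1
    exact hd h1
  · rw [hj']
    congr 1
    omega

/-- The number of `p`-elements `z` with `z ^ n = d`, `d ≠ 1`, is divisible by `p ^ k` if `n` is. -/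
theorem dvd_card_pel_pow_eq_of_ne_one [Finite G] {p : ℕ} [Fact p.Prime] {n k : ℕ} (hk : p ^ k ∣ n) {d : G}
    (hd : d ≠ 1) : p ^ k ∣ Nat.card {z : G // Pel p z ∧ z ^ n = d} := by
  have hp := (Fact.out : p.Prime)
  set s := (orderOf d) with hs
  -- the coset map
  apply dvd_card_of_fibers (fun z => ({x | z.1⁻¹ * x ∈ zpowers (z.1 ^ s)} : Set G))
  rintro ⟨z, hz, hzn⟩
  obtain ⟨K, t, ht0, htK, hK, hd', hgcd⟩ := solset_aux hd hz hzn
  rw [← hs] at hd'
  have hcommz : ∀ w ∈ zpowers (z ^ s), ∃ m : ℕ, w = z ^ (s * m) := by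
    intro w hw
    rw [← mem_powers_iff_mem_zpowers] at hw
    obtain ⟨m, hm⟩ := hw
    exact ⟨m, by rw [← hm, pow_mul]⟩
  have hw1 : ∀ w ∈ zpowers (z ^ s), Pel p (z * w) ∧ (z * w) ^ n = d ∧
      zpowers ((z * w) ^ s) = zpowers (z ^ s) := by
    intro w hw
    obtain ⟨m, rfl⟩ := hcommz w hw
    have h1 : z * z ^ (s * m) = z ^ (1 + s * m) := by rw [pow_add, pow_one]
    rw [h1]
    refine ⟨hz.pow _, ?_, ?_⟩
    · rw [← pow_mul, mul_comm, pow_mul, hzn, pow_add, pow_one, pow_mul, hs, pow_orderOf_eq_one,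
        one_pow, mul_one]
    · have hcop : (orderOf z).Coprime (1 + s * m) := by
        rw [hK]
        apply Nat.Coprime.pow_left
        rw [Nat.Prime.coprime_iff_not_dvd hp]
        intro h2
        have h3 : p ∣ s * m := Dvd.dvd.mul_right (hd' ▸ dvd_pow_self p ht0.ne') m
        have h4 := (Nat.dvd_add_left h3).mp h2
        exact hp.one_lt.ne' (Nat.dvd_one.mp h4)
      have h5 : zpowers ((z ^ (1 + s * m)) ^ s) ≤ zpowers (z ^ s) := by
        rw [zpowers_le, ← pow_mul, mul_comm, pow_mul]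
        exact pow_mem (mem_zpowers _) _
      apply Subgroup.eq_of_le_of_card_ge h5
      rw [Nat.card_zpowers, Nat.card_zpowers]
      apply le_of_eq
      have h6 : orderOf (z ^ (1 + s * m)) = orderOf z := Nat.Coprime.orderOf_pow hcop
      rw [orderOf_pow, orderOf_pow, h6]
  have hfib : ∀ z' : {z : G // Pel p z ∧ z ^ n = d},
      ({x | z'.1⁻¹ * x ∈ zpowers (z'.1 ^ s)} : Set G) = {x | z⁻¹ * x ∈ zpowers (z ^ s)} ↔
      z⁻¹ * z'.1 ∈ zpowers (z ^ s) := by
    intro z'
    constructor
    · intro h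
      have h1 : z'.1 ∈ ({x | z'.1⁻¹ * x ∈ zpowers (z'.1 ^ s)} : Set G) := by
        simp [one_mem]
      rw [h] at h1
      exact h1
    · intro h
      obtain ⟨-, -, h3⟩ := hw1 _ h
      rw [mul_inv_cancel_left] at h3
      ext x
      simp only [Set.mem_setOf_eq, h3]
      have h4 : z⁻¹ * x = (z⁻¹ * z'.1) * (z'.1⁻¹ * x) := by group
      rw [h4]
      exact (Subgroup.mul_mem_cancel_left _ h).symm
  have e : {z' : {z : G // Pel p z ∧ z ^ n = d} //
      ({x | z'.1⁻¹ * x ∈ zpowers (z'.1 ^ s)} : Set G) = {x | z⁻¹ * x ∈ zpowers (z ^ s)}} ≃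
      zpowers (z ^ s) :=
    { toFun := fun y => ⟨z⁻¹ * y.1.1, (hfib y.1).mp y.2⟩
      invFun := fun w => ⟨⟨z * w.1, (hw1 w.1 w.2).1, (hw1 w.1 w.2).2.1⟩, (hfib _).mpr (by
        simp)⟩
      left_inv := fun y => by
        apply Subtype.ext; apply Subtype.ext; simp
      right_inv := fun w => by
        apply Subtype.ext; simp }
  rw [Nat.card_congr e, Nat.card_zpowers, orderOf_pow, hK, hd']
  have h1 : Nat.gcd (p ^ K) (p ^ t) = p ^ t := Nat.gcd_eq_right (pow_dvd_pow p htK)
  rw [h1, Nat.pow_div htK hp.pos]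
  apply pow_dvd_pow
  by_contra hlt
  push Not at hlt
  have h2 : p ^ (K - t + 1) ∣ Nat.gcd (p ^ K) n :=
    Nat.dvd_gcd (pow_dvd_pow p (by omega)) ((pow_dvd_pow p (by omega)).trans hk)
  rw [hgcd] at h2
  have h3 := (Nat.pow_dvd_pow_iff_le_right hp.one_lt).mp h2
  omega

theorem index_centralizer_eq (y : G) :
    (centralizer ({y} : Set G)).index = Nat.card {x : G // IsConj y x} := by
  have h1 : (MulAction.stabilizer (ConjAct G) y).comap (ConjAct.toConjAct (G := G)).toMonoidHom =
      centralizer ({y} : Set G) := by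
    ext g
    rw [mem_comap, MulAction.mem_stabilizer_iff, mem_centralizer_singleton_iff]
    change g * y * g⁻¹ = y ↔ _
    exact mul_inv_eq_iff_eq_mul
  rw [← h1, index_comap_of_surjective _ (ConjAct.toConjAct (G := G)).surjective,
    MulAction.index_stabilizer, ← Nat.card_coe_set_eq]
  apply Nat.card_congr
  refine Equiv.subtypeEquivRight ?_
  intro x
  rw [ConjAct.mem_orbit_conjAct, isConj_comm]

/-- Class functions: divisibility of sums. -/
theorem dvd_sum_of_classFun [Finite G] [Fintype G] (r : G → ℕ) (N : ℕ)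
    (hr : ∀ g y, r (g * y * g⁻¹) = r y)
    (h : ∀ y, N ∣ (centralizer {y}).index * r y) : N ∣ ∑ y : G, r y := by
  classical
  rw [← Finset.sum_fiberwise Finset.univ (fun y : G => ConjClasses.mk y)]
  apply Finset.dvd_sum
  intro C _
  obtain ⟨y, rfl⟩ := ConjClasses.exists_rep C
  have h1 : ∀ x ∈ Finset.univ.filter (fun x : G => ConjClasses.mk x = ConjClasses.mk y), r x = r y := by
    intro x hx
    rw [Finset.mem_filter, ConjClasses.mk_eq_mk_iff_isConj] at hx
    obtain ⟨g, hg⟩ := isConj_iff.mp hx.2.symm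
    rw [← hg, hr]
  rw [Finset.sum_congr rfl h1, Finset.sum_const, smul_eq_mul]
  have h2 : (Finset.univ.filter (fun x : G => ConjClasses.mk x = ConjClasses.mk y)).card =
      (centralizer {y}).index := by
    rw [index_centralizer_eq, Nat.card_eq_fintype_card, Fintype.card_subtype]
    congr 1
    ext x
    rw [Finset.mem_filter, Finset.mem_filter, ConjClasses.mk_eq_mk_iff_isConj, isConj_comm]
  rw [h2]
  exact h y

/-- The exponents extracting the `p'`-part and the `p`-part. -/
theorem exists_decomp_exponents (G : Type*) [Group G] [Finite G] (p : ℕ) [Fact p.Prime] :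
    ∃ e f : ℕ, (∀ x : G, x ^ e * x ^ f = x) ∧ (∀ x : G, (orderOf (x ^ e)).Coprime p) ∧
      (∀ x : G, Pel p (x ^ f)) ∧
      (∀ y z : G, Commute y z → (orderOf y).Coprime p → Pel p z →
        (y * z) ^ e = y ∧ (y * z) ^ f = z) := by
  have hp := (Fact.out : p.Prime)
  obtain ⟨a, m, hm, ham⟩ := Nat.exists_eq_pow_mul_and_not_dvd (Nat.card_pos (α := G)).ne' p hp.ne_one
  have hcop : m.Coprime (p ^ a) := (Nat.Coprime.pow_left a ((Nat.Prime.coprime_iff_not_dvd hp).mpr hm)).symm
  obtain ⟨e, he1, he2⟩ := Nat.chineseRemainder hcop 1 0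
  obtain ⟨f, hf1, hf2⟩ := Nat.chineseRemainder hcop 0 1
  have hx : ∀ x : G, x ^ (p ^ a * m) = 1 := fun x => by rw [← ham]; exact pow_card_eq_one'
  have hem : p ^ a ∣ e := (Nat.modEq_zero_iff_dvd).mp he2
  have hfm : m ∣ f := (Nat.modEq_zero_iff_dvd).mp hf1
  have hmcop : ∀ y : G, y ^ m = 1 → (orderOf y).Coprime p := by
    intro y hy
    exact Nat.Coprime.coprime_dvd_left (orderOf_dvd_of_pow_eq_one hy)
      ((Nat.Prime.coprime_iff_not_dvd hp).mpr hm).symm
  have hcopm : ∀ y : G, (orderOf y).Coprime p → y ^ m = 1 := by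
    intro y hy
    apply orderOf_dvd_iff_pow_eq_one.mp
    have h1 : orderOf y ∣ p ^ a * m := orderOf_dvd_of_pow_eq_one (hx y)
    exact Nat.Coprime.dvd_of_dvd_mul_left (Nat.Coprime.pow_right a hy) h1
  have hpela : ∀ z : G, Pel p z → z ^ (p ^ a) = 1 := by
    intro z hz
    obtain ⟨k, hk⟩ := hz.orderOf
    apply orderOf_dvd_iff_pow_eq_one.mp
    have h1 : orderOf z ∣ p ^ a * m := orderOf_dvd_of_pow_eq_one (hx z)
    rw [hk] at h1 ⊢
    exact Nat.Coprime.dvd_of_dvd_mul_right
      (Nat.Coprime.pow_left k ((Nat.Prime.coprime_iff_not_dvd hp).mpr hm)) h1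
  refine ⟨e, f, ?_, ?_, ?_, ?_⟩
  · intro x
    rw [← pow_add]
    conv_rhs => rw [← pow_one x]
    rw [pow_eq_pow_iff_modEq]
    have h1 : e + f ≡ 1 [MOD (m * p ^ a)] := by
      apply (Nat.modEq_and_modEq_iff_modEq_mul hcop).mp
      exact ⟨by simpa using he1.add hf1, by simpa using he2.add hf2⟩
    apply h1.of_dvd
    rw [mul_comm]
    exact orderOf_dvd_of_pow_eq_one (hx x)
  · intro x
    apply hmcop
    obtain ⟨t, rfl⟩ := hem
    rw [← pow_mul, show p ^ a * t * m = (p ^ a * m) * t by ring, pow_mul, hx, one_pow]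
  · intro x
    refine ⟨a, ?_⟩
    obtain ⟨t, rfl⟩ := hfm
    rw [← pow_mul, show m * t * p ^ a = (p ^ a * m) * t by ring, pow_mul, hx, one_pow]
  · intro y z hyz hy hz
    have hy' := hcopm y hy
    have hz' := hpela z hz
    have hye : y ^ e = y := by
      conv_rhs => rw [← pow_one y]
      rw [pow_eq_pow_iff_modEq]
      exact he1.of_dvd (orderOf_dvd_of_pow_eq_one hy')
    have hze : z ^ e = 1 := by
      obtain ⟨t, rfl⟩ := hem
      rw [pow_mul, hz', one_pow]
    have hyf : y ^ f = 1 := by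
      obtain ⟨t, rfl⟩ := hfm
      rw [pow_mul, hy', one_pow]
    have hzf : z ^ f = z := by
      conv_rhs => rw [← pow_one z]
      rw [pow_eq_pow_iff_modEq]
      exact hf2.of_dvd (orderOf_dvd_of_pow_eq_one hz')
    rw [hyz.mul_pow, hyz.mul_pow, hye, hze, hyf, hzf, mul_one, one_mul]
    exact ⟨rfl, rfl⟩

open Classical in
/-- the counting function. -/
noncomputable def rfun (p : ℕ) (Q R : G → Prop) (y : G) : ℕ :=
  if (orderOf y).Coprime p ∧ Q y then Nat.card {z : G // Commute y z ∧ Pel p z ∧ R z} else 0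

theorem card_eq_sum_rfun [Finite G] [Fintype G] (p : ℕ) (Q R : G → Prop) (e f : ℕ)
    (h1 : ∀ x : G, x ^ e * x ^ f = x) (h2 : ∀ x : G, (orderOf (x ^ e)).Coprime p)
    (h3 : ∀ x : G, Pel p (x ^ f))
    (h4 : ∀ y z : G, Commute y z → (orderOf y).Coprime p → Pel p z →
        (y * z) ^ e = y ∧ (y * z) ^ f = z) :
    Nat.card {x : G // Q (x ^ e) ∧ R (x ^ f)} = ∑ y : G, rfun p Q R y := by
  classical
  have hr : ∀ y : G, rfun p Q R y = Nat.card {x : {x : G // Q (x ^ e) ∧ R (x ^ f)} // x.1 ^ e = y} := by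
    intro y
    unfold rfun
    split_ifs with hy
    · apply Nat.card_congr
      exact
        { toFun := fun z => ⟨⟨y * z.1, by
            obtain ⟨h5, h6⟩ := h4 y z.1 z.2.1 hy.1 z.2.2.1
            rw [h5, h6]
            exact ⟨hy.2, z.2.2.2⟩⟩, (h4 y z.1 z.2.1 hy.1 z.2.2.1).1⟩
          invFun := fun x => ⟨x.1.1 ^ f, by
            refine ⟨?_, h3 _, x.1.2.2⟩
            have hx2 : x.1.1 ^ e = y := x.2
            exact (congrArg (fun t => Commute t (x.1.1 ^ f)) hx2).mp
              ((Commute.refl x.1.1).pow_pow e f)⟩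
          left_inv := fun z => by
            apply Subtype.ext
            exact (h4 y z.1 z.2.1 hy.1 z.2.2.1).2
          right_inv := fun x => by
            apply Subtype.ext; apply Subtype.ext
            change y * x.1.1 ^ f = x.1.1
            have hx2 : x.1.1 ^ e = y := x.2
            exact (congrArg (fun t => t * x.1.1 ^ f = x.1.1) hx2).mp (h1 x.1.1) }
    · symm
      rw [Nat.card_eq_zero]
      left
      refine ⟨fun x => hy ?_⟩
      rw [← x.2]
      exact ⟨h2 _, x.1.2.1⟩
  rw [Finset.sum_congr rfl (fun y _ => hr y), ← Nat.card_sigma]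
  exact Nat.card_congr (Equiv.sigmaFiberEquiv _).symm

theorem rfun_conj (p : ℕ) (Q R : G → Prop) (hQ : ∀ g y, Q (g * y * g⁻¹) ↔ Q y)
    (hR : ∀ g y, R (g * y * g⁻¹) ↔ R y) (g y : G) : rfun p Q R (g * y * g⁻¹) = rfun p Q R y := by
  unfold rfun
  have h1 : orderOf (g * y * g⁻¹) = orderOf y := by
    have := orderOf_injective (MulAut.conj g).toMonoidHom (MulAut.conj g).injective y
    rw [← this]; rfl
  rw [h1, hQ]
  congr 1
  apply Nat.card_congr
  refine (Equiv.subtypeEquiv (MulAut.conj g).toEquiv ?_).symm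
  intro z
  change _ ↔ Commute (g * y * g⁻¹) (g * z * g⁻¹) ∧ Pel p (g * z * g⁻¹) ∧ R (g * z * g⁻¹)
  rw [hR, Commute.conj_iff]
  have h2 : Pel p (g * z * g⁻¹) ↔ Pel p z := by
    unfold Pel
    apply exists_congr
    intro k
    rw [conj_pow]
    constructor
    · intro h
      have := congrArg (fun t => g⁻¹ * t * g) h
      simpa [mul_assoc] using this
    · intro h
      rw [h]; simp
  rw [h2]

theorem pow_dvd_mul_of_forall {p : ℕ} [Fact p.Prime] {k I h N : ℕ} (hh : h ≠ 0) (h1 : p ^ k ∣ I * h)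
    (h2 : ∀ j ≤ k, p ^ j ∣ h → p ^ j ∣ N) : p ^ k ∣ I * N := by
  have hp := (Fact.out : p.Prime)
  obtain ⟨a, m, hm, rfl⟩ := Nat.exists_eq_pow_mul_and_not_dvd hh p hp.ne_one
  by_cases hka : k ≤ a
  · exact Dvd.dvd.mul_left (h2 k le_rfl ((pow_dvd_pow p hka).trans (Dvd.intro _ rfl))) I
  · push Not at hka
    have h3 := h2 a hka.le (Dvd.intro _ rfl)
    have h4 : p ^ k ∣ I * p ^ a := by
      rw [← mul_assoc] at h1
      exact Nat.Coprime.dvd_of_dvd_mul_right
        (Nat.Coprime.pow_left k ((Nat.Prime.coprime_iff_not_dvd hp).mpr hm)) h1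
    exact h4.trans (Nat.mul_dvd_mul_left I h3)

theorem card_centralizer_pel (p : ℕ) (y : G) (R : G → Prop) :
    Nat.card {z : G // Commute y z ∧ Pel p z ∧ R z} =
      Nat.card {z : centralizer ({y} : Set G) // Pel p z ∧ R (z : G)} := by
  apply Nat.card_congr
  exact
    { toFun := fun z => ⟨⟨z.1, mem_centralizer_singleton_iff.mpr z.2.1.symm.eq⟩, by
        obtain ⟨k, hk⟩ := z.2.2.1
        exact ⟨k, Subtype.ext hk⟩, z.2.2.2⟩
      invFun := fun z => ⟨z.1.1, (mem_centralizer_singleton_iff.mp z.1.2).symm, by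
        obtain ⟨k, hk⟩ := z.2.1
        exact ⟨k, congrArg Subtype.val hk⟩, z.2.2⟩
      left_inv := fun z => rfl
      right_inv := fun z => rfl }

/-- `|G|_p` divides the number of `p`-elements. -/
theorem dvd_card_pel (p : ℕ) [Fact p.Prime] (N : ℕ) : ∀ {G : Type*} [Group G] [Finite G],
    Nat.card G = N → ∀ k, p ^ k ∣ N → p ^ k ∣ Nat.card {z : G // Pel p z} := by
  induction N using Nat.strong_induction_on with
  | _ N ih =>
  intro G _ _ hN k hk
  classical
  haveI : Fintype G := Fintype.ofFinite G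
  have hp := (Fact.out : p.Prime)
  obtain ⟨e, f, h1, h2, h3, h4⟩ := exists_decomp_exponents G p
  have hsum := card_eq_sum_rfun p (fun _ : G => True) (fun _ : G => True) e f h1 h2 h3 h4
  have hG : Nat.card {x : G // True ∧ True} = Nat.card G :=
    Nat.card_congr (Equiv.subtypeUnivEquiv (fun x => ⟨trivial, trivial⟩))
  rw [hG, hN] at hsum
  set r := rfun p (fun _ : G => True) (fun _ : G => True) with hr
  have hsplit : ∑ y : G, r y = (∑ y : G, if y ∈ center G then r y else 0) +
      ∑ y : G, if y ∈ center G then 0 else r y := by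
    rw [← Finset.sum_add_distrib]
    apply Finset.sum_congr rfl
    intro y _
    split_ifs <;> simp
  have hsecond : p ^ k ∣ ∑ y : G, if y ∈ center G then 0 else r y := by
    apply dvd_sum_of_classFun
    · intro g y
      have h5 : g * y * g⁻¹ ∈ center G ↔ y ∈ center G := by
        constructor
        · intro h
          have := (inferInstance : (center G).Normal).conj_mem _ h g⁻¹
          simpa [mul_assoc] using this
        · intro h
          exact (inferInstance : (center G).Normal).conj_mem _ h g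
      rw [hr, rfun_conj p _ _ (fun _ _ => Iff.rfl) (fun _ _ => Iff.rfl)]
      simp only [h5]
    · intro y
      split_ifs with hy
      · simp
      · have hlt : Nat.card (centralizer ({y} : Set G)) < N := by
          rw [← hN]
          apply lt_of_le_of_ne (Subgroup.card_le_card_group _)
          intro h5
          apply hy
          have h6 := Subgroup.eq_top_of_card_eq _ h5
          rw [mem_center_iff]
          intro g
          have h7 : g ∈ centralizer ({y} : Set G) := by rw [h6]; trivial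
          exact mem_centralizer_singleton_iff.mp h7
        have h5 : p ^ k ∣ (centralizer ({y} : Set G)).index * Nat.card (centralizer ({y} : Set G)) := by
          rw [index_mul_card, hN]; exact hk
        apply pow_dvd_mul_of_forall Nat.card_pos.ne' h5
        intro j _ hj
        rw [hr]
        unfold rfun
        split_ifs with hy2
        · rw [card_centralizer_pel]
          have h6 := ih _ hlt (G := centralizer ({y} : Set G)) rfl j hj
          have h7 : Nat.card {z : centralizer ({y} : Set G) // Pel p z ∧ True} =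
            Nat.card {z : centralizer ({y} : Set G) // Pel p z} := by simp
          rw [h7]
          exact h6
        · exact dvd_zero _
  have hfirst : ∑ y : G, (if y ∈ center G then r y else 0) =
      Nat.card {y : G // y ∈ center G ∧ (orderOf y).Coprime p} * Nat.card {z : G // Pel p z} := by
    have h5 : ∀ y : G, (if y ∈ center G then r y else 0) =
        if y ∈ center G ∧ (orderOf y).Coprime p then Nat.card {z : G // Pel p z} else 0 := by
      intro y
      rw [hr]
      unfold rfun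
      by_cases hy : y ∈ center G
      · have h6 : Nat.card {z : G // Commute y z ∧ Pel p z ∧ True} = Nat.card {z : G // Pel p z} := by
          apply Nat.card_congr
          apply Equiv.subtypeEquivRight
          intro z
          constructor
          · rintro ⟨-, h, -⟩; exact h
          · intro h
            exact ⟨(mem_center_iff.mp hy z).symm, h, trivial⟩
        by_cases hy2 : (orderOf y).Coprime p
        · rw [if_pos hy, if_pos ⟨hy2, trivial⟩, if_pos ⟨hy, hy2⟩, h6]
        · rw [if_pos hy, if_neg (fun h => hy2 h.1), if_neg (fun h => hy2 h.2)]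
      · rw [if_neg hy, if_neg (fun h => hy h.1)]
    rw [Finset.sum_congr rfl (fun y _ => h5 y), ← Finset.sum_filter, Finset.sum_const, smul_eq_mul]
    congr 1
    rw [Nat.card_eq_fintype_card, Fintype.card_subtype]
  rw [hsplit] at hsum
  have h5 : p ^ k ∣ Nat.card {y : G // y ∈ center G ∧ (orderOf y).Coprime p} *
      Nat.card {z : G // Pel p z} := by
    rw [← hfirst]
    exact (Nat.dvd_add_left hsecond).mp (hsum ▸ hk)
  refine Nat.Coprime.dvd_of_dvd_mul_left ?_ h5
  -- the central p'-elements form a subgroup of order prime to p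
  let Z : Subgroup G :=
    { carrier := {y | y ∈ center G ∧ (orderOf y).Coprime p}
      one_mem' := ⟨one_mem _, by simp⟩
      mul_mem' := by
        rintro a b ⟨ha, ha'⟩ ⟨hb, hb'⟩
        refine ⟨mul_mem ha hb, ?_⟩
        have hc : Commute a b := (mem_center_iff.mp ha b).symm
        exact Nat.Coprime.coprime_dvd_left (hc.orderOf_mul_dvd_mul_orderOf) (Nat.Coprime.mul_left ha' hb')
      inv_mem' := by
        rintro a ⟨ha, ha'⟩
        exact ⟨inv_mem ha, by rwa [orderOf_inv]⟩ }
  apply Nat.Coprime.pow_left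
  rw [Nat.Prime.coprime_iff_not_dvd hp]
  intro h6
  obtain ⟨x, hx⟩ := exists_prime_orderOf_dvd_card' (G := Z) p h6
  have h7 := x.2.2
  rw [Subgroup.orderOf_coe, hx, Nat.coprime_self] at h7
  exact hp.one_lt.ne' h7

/-- `p`-elements with `z ^ n = d`. -/
theorem dvd_card_pel_pow_eq {G : Type*} [Group G] [Finite G] {p : ℕ} [Fact p.Prime] {n k : ℕ}
    (hk : p ^ k ∣ n) (hG : p ^ k ∣ Nat.card G) (d : G) :
    p ^ k ∣ Nat.card {z : G // Pel p z ∧ z ^ n = d} := by
  classical
  haveI : Fintype G := Fintype.ofFinite G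
  by_cases hd : d = 1
  · have h1 : Nat.card {z : G // Pel p z} = ∑ e : G, Nat.card {z : G // Pel p z ∧ z ^ n = e} := by
      have h2 : ∀ e : G, Nat.card {z : G // Pel p z ∧ z ^ n = e} =
          Nat.card {z : {z : G // Pel p z} // z.1 ^ n = e} := by
        intro e
        exact Nat.card_congr (Equiv.subtypeSubtypeEquivSubtypeInter _ _).symm
      rw [Finset.sum_congr rfl (fun e _ => h2 e), ← Nat.card_sigma]
      exact Nat.card_congr (Equiv.sigmaFiberEquiv _).symm
    have h2 := dvd_card_pel p (Nat.card G) (G := G) rfl k hG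
    rw [h1, ← Finset.add_sum_erase _ _ (Finset.mem_univ d)] at h2
    refine (Nat.dvd_add_left ?_).mp h2
    apply Finset.dvd_sum
    intro e he
    apply dvd_card_pel_pow_eq_of_ne_one hk
    rw [← hd]
    exact Finset.ne_of_mem_erase he
  · exact dvd_card_pel_pow_eq_of_ne_one hk hd

/-- **Frobenius' theorem**: `gcd (n, |G|)` divides the number of solutions of `x ^ n = c`, `c` central. -/
theorem frobenius_dvd {G : Type*} [Group G] [Finite G] (n : ℕ) (c : G) (hc : c ∈ center G) :
    Nat.gcd n (Nat.card G) ∣ Nat.card {x : G // x ^ n = c} := by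
  classical
  haveI : Fintype G := Fintype.ofFinite G
  rw [Nat.dvd_iff_prime_pow_dvd_dvd]
  intro p k hp hpk
  haveI := Fact.mk hp
  have hkn : p ^ k ∣ n := hpk.trans (Nat.gcd_dvd_left _ _)
  have hkG : p ^ k ∣ Nat.card G := hpk.trans (Nat.gcd_dvd_right _ _)
  obtain ⟨e, f, h1, h2, h3, h4⟩ := exists_decomp_exponents G p
  have hsum := card_eq_sum_rfun p (fun y : G => y ^ n = c ^ e) (fun z : G => z ^ n = c ^ f) e f h1 h2 h3 h4
  have h5 : Nat.card {x : G // x ^ n = c} = Nat.card {x : G // (x ^ e) ^ n = c ^ e ∧ (x ^ f) ^ n = c ^ f} := by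
    apply Nat.card_congr
    apply Equiv.subtypeEquivRight
    intro x
    constructor
    · intro h
      constructor
      · rw [← pow_mul, mul_comm, pow_mul, h]
      · rw [← pow_mul, mul_comm, pow_mul, h]
    · rintro ⟨h6, h7⟩
      rw [← h1 x, ((Commute.refl x).pow_pow e f).mul_pow, h6, h7, h1 c]
  rw [h5, hsum]
  have hcc : ∀ (i : ℕ) (g : G), g * c ^ i * g⁻¹ = c ^ i := by
    intro i g
    rw [mul_inv_eq_iff_eq_mul]
    exact mem_center_iff.mp (pow_mem hc i) g
  have hconj : ∀ (i : ℕ) (g w : G), g * w * g⁻¹ = c ^ i ↔ w = c ^ i := by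
    intro i g w
    constructor
    · intro h
      have h6 : w = g⁻¹ * (c ^ i) * g⁻¹⁻¹ := by rw [← h]; group
      rw [h6, hcc]
    · rintro rfl
      exact hcc i g
  apply dvd_sum_of_classFun
  · apply rfun_conj
    · intro g y
      rw [conj_pow, hconj]
    · intro g y
      rw [conj_pow, hconj]
  · intro y
    have h6 : p ^ k ∣ (centralizer ({y} : Set G)).index * Nat.card (centralizer ({y} : Set G)) := by
      rw [index_mul_card]; exact hkG
    apply pow_dvd_mul_of_forall Nat.card_pos.ne' h6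
    intro j hjk hj
    unfold rfun
    split_ifs with hy
    · rw [card_centralizer_pel]
      have hcf : c ^ f ∈ centralizer ({y} : Set G) := by
        rw [mem_centralizer_singleton_iff]
        exact (mem_center_iff.mp (pow_mem hc f) y).symm
      have h7 := dvd_card_pel_pow_eq (G := centralizer ({y} : Set G))
        ((pow_dvd_pow p hjk).trans hkn) hj ⟨c ^ f, hcf⟩
      have h8 : Nat.card {z : centralizer ({y} : Set G) // Pel p z ∧ z ^ n = ⟨c ^ f, hcf⟩} =
          Nat.card {z : centralizer ({y} : Set G) // Pel p z ∧ (z : G) ^ n = c ^ f} := by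
        apply Nat.card_congr
        apply Equiv.subtypeEquivRight
        intro z
        rw [← Subtype.val_inj, Subgroup.coe_pow]
      rw [← h8]
      exact h7
    · exact dvd_zero _

end Cfsg.Agent.H70
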