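import Mathlib
import Cfsg.Agent.SigF.Trans
import Cfsg.Agent.H23.Uniq91
import Cfsg.Agent.H25.PLenOne
import Cfsg.Agent.S0635
import Cfsg.Agent.ZJ.SolvFact
import Cfsg.Agent.Transfer.Fusion
import Cfsg.Agent.Transfer.SmallSylow
import Cfsg.Agent.H72.ClassSize

/-!
Finite groups in which all `p'`-subgroups are abelian: 2-local analysis of a minimal simple group of this kind
(used for S1936 and S4016).
-/

set_option autoImplicit false
set_option linter.all false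

namespace Cfsg.Agent.H70.AbPP

open Subgroup
open Cfsg.Agent.SigF
open Cfsg.Agent.BG (pCoreOf)
open Cfsg.Agent.H23 (opc)
open scoped commutatorElement

universe u

variable {G : Type u} [Group G]

/-- all `p'`-subgroups are abelian -/
def AbP (p : ℕ) (G : Type u) [Group G] : Prop :=
  ∀ H : Subgroup G, ¬ p ∣ Nat.card H → IsMulCommutative H

theorem AbP.comm {p : ℕ} (h : AbP p G) {H : Subgroup G} (hH : ¬ p ∣ Nat.card H) {x y : G} (hx : x ∈ H)
    (hy : y ∈ H) : x * y = y * x := by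
  have := h H hH
  exact congrArg Subtype.val (this.is_comm.comm ⟨x, hx⟩ ⟨y, hy⟩)

variable [Finite G] {p : ℕ} [hpf : Fact p.Prime]

theorem not_dvd_of_pgroup {q : ℕ} [hq : Fact q.Prime] (hqp : q ≠ p) {S : Subgroup G} (hS : IsPGroup q S) :
    ¬ p ∣ Nat.card S := by
  obtain ⟨n, hn⟩ := IsPGroup.iff_card.1 hS
  rw [hn]
  intro hd
  exact hqp ((Nat.prime_dvd_prime_iff_eq hpf.out hq.out).1 (hpf.out.dvd_of_dvd_pow hd)).symm

/-- an `S`-invariant `r`-subgroup is centralised by the 2-group `S` -/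
theorem comm_of_inv (h : AbP p G) {S L : Subgroup G} (hS : ¬ p ∣ Nat.card S) (hL : ¬ p ∣ Nat.card L)
    (hSL : S ≤ normalizer (L : Set G)) {s l : G} (hs : s ∈ S) (hl : l ∈ L) : s * l = l * s := by
  have h1 : ¬ p ∣ Nat.card ↥(L ⊔ S) := not_dvd_sup hL hS hSL
  exact h.comm h1 ((le_sup_right : S ≤ L ⊔ S) hs) ((le_sup_left : L ≤ L ⊔ S) hl)

/-- The key structure: a 2-group `S` acting on an odd order group `L`. -/
theorem exists_pl (h : AbP p G) (hp2 : p ≠ 2) {S L : Subgroup G} (hS : IsPGroup 2 S) (hL : ¬ 2 ∣ Nat.card L)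
    (hSL : S ≤ normalizer (L : Set G)) :
    ∃ P : Subgroup G, IsSyl p P L ∧ S ≤ normalizer (P : Set G) ∧ ∀ g ∈ L, ∀ s ∈ S, g⁻¹ * (s * g * s⁻¹) ∈ P := by
  have hSp : ¬ p ∣ Nat.card S := not_dvd_of_pgroup hp2.symm hS
  obtain ⟨P, hP, hSP⟩ := exists_inv_isSyl hS hL hSL p
  refine ⟨P, hP, hSP, ?_⟩
  set C : Subgroup G := L ⊓ centralizer (S : Set G) with hC
  have h1 : ∀ r : ℕ, r.Prime → r ∣ C.relIndex L → r = p := by
    intro r hr hd
    by_contra hne
    have : Fact r.Prime := ⟨hr⟩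
    obtain ⟨Q, hQ, hSQ⟩ := exists_inv_isSyl hS hL hSL r
    have hQC : Q ≤ C := by
      refine le_inf hQ.le fun x hx => mem_centralizer_iff.2 fun s hs => ?_
      exact comm_of_inv h hSp (not_dvd_of_pgroup hne hQ.isPGroup) hSQ hs hx
    apply hQ.not_dvd_relIndex
    rw [← relIndex_mul_relIndex Q C L hQC inf_le_left]
    exact hd.mul_left _
  have h2 : ((C.subgroupOf L).index).Coprime (P.subgroupOf L).index := by
    rw [Nat.coprime_iff_gcd_eq_one]
    by_contra hne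
    obtain ⟨r, hr, hd⟩ := Nat.exists_prime_and_dvd hne
    have h3 := h1 r hr (hd.trans (Nat.gcd_dvd_left _ _))
    subst h3
    exact hP.not_dvd_relIndex (hd.trans (Nat.gcd_dvd_right _ _))
  intro g hg s hs
  obtain ⟨a, ha, b, hb, hab⟩ := Cfsg.Agent.H72.exists_mul_of_coprime_index h2 (⟨g, hg⟩ : L)
  have ha' : (a : G) ∈ C := ha
  have hb' : (b : G) ∈ P := hb
  have hg' : g = (a : G) * b := congrArg Subtype.val hab
  have hc : s * (a : G) = a * s := mem_centralizer_iff.1 ha'.2 s hs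
  have e : g⁻¹ * (s * g * s⁻¹) = (b : G)⁻¹ * (s * b * s⁻¹) := by
    rw [hg']
    calc ((a : G) * b)⁻¹ * (s * (a * b) * s⁻¹) = (b : G)⁻¹ * (a : G)⁻¹ * ((s * a) * b * s⁻¹) := by group
      _ = (b : G)⁻¹ * (a : G)⁻¹ * ((a * s) * b * s⁻¹) := by rw [hc]
      _ = _ := by group
  rw [e]
  exact P.mul_mem (P.inv_mem hb') ((mem_normalizer_iff.1 (hSP hs) _).1 hb')

/-- `[L, S]` is a `p`-group. -/
theorem isPGroup_comm (h : AbP p G) (hp2 : p ≠ 2) {S L : Subgroup G} (hS : IsPGroup 2 S) (hL : ¬ 2 ∣ Nat.card L)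
    (hSL : S ≤ normalizer (L : Set G)) : IsPGroup p ↥(⁅L, S⁆ : Subgroup G) := by
  obtain ⟨P, hP, hSP, hc⟩ := exists_pl h hp2 hS hL hSL
  apply hP.isPGroup.to_le
  rw [commutator_le]
  intro g hg s hs
  have := hc g⁻¹ (L.inv_mem hg) s hs
  rw [inv_inv] at this
  rw [commutatorElement_def]
  rwa [show g * (s * g⁻¹ * s⁻¹) = g * s * g⁻¹ * s⁻¹ by group] at this

omit [Finite G] in
theorem commutator_le_of {S L : Subgroup G} (hSL : S ≤ normalizer (L : Set G)) : ⁅L, S⁆ ≤ L := by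
  rw [commutator_le]
  intro g hg s hs
  rw [commutatorElement_def]
  have := (mem_normalizer_iff.1 (hSL hs) g⁻¹).1 (L.inv_mem hg)
  rw [show g * s * g⁻¹ * s⁻¹ = g * (s * g⁻¹ * s⁻¹) by group]
  exact L.mul_mem hg this

omit [Finite G] in
theorem comm_inv {S L : Subgroup G} (hSL : S ≤ normalizer (L : Set G)) :
    S ≤ normalizer ((⁅L, S⁆ : Subgroup G) : Set G) := by
  intro s hs
  rw [mem_normalizer_iff_cj, cj_def, map_commutator]
  have h1 : L.map (MulAut.conj s).toMonoidHom = L := mem_normalizer_iff_cj.1 (hSL hs)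
  have h2 : S.map (MulAut.conj s).toMonoidHom = S := cj_eq_of_mem hs
  rw [h1, h2]

/-- `L = [L, S] C_L(S)` -/
theorem exists_decomp {S L : Subgroup G} (hS : IsPGroup 2 S) (hL : ¬ 2 ∣ Nat.card L)
    (hSL : S ≤ normalizer (L : Set G)) {g : G} (hg : g ∈ L) :
    ∃ r ∈ (⁅L, S⁆ : Subgroup G), ∃ c ∈ L ⊓ centralizer (S : Set G), g = r * c := by
  have hD : ¬ 2 ∣ Nat.card (⁅L, S⁆ : Subgroup G) := fun hd => hL (hd.trans (card_dvd_of_le (commutator_le_of hSL)))
  obtain ⟨y, hy, hyc⟩ := exists_fixed_coset hS hD (comm_inv hSL) (x := g⁻¹) (by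
    intro s hs
    rw [inv_inv]
    have : (⁅g, s⁆ : G) ∈ (⁅L, S⁆ : Subgroup G) := commutator_mem_commutator hg hs
    rwa [commutatorElement_def, show g * s * g⁻¹ * s⁻¹ = g * (s * g⁻¹ * s⁻¹) by group] at this)
  rw [inv_inv] at hy
  have hyL : y ∈ L := by
    have := L.mul_mem (L.inv_mem hg) (commutator_le_of hSL hy)
    rwa [show g⁻¹ * (g * y) = y by group] at this
  refine ⟨g * y, hy, y⁻¹, ⟨L.inv_mem hyL, mem_centralizer_iff.2 ?_⟩, by group⟩
  intro s hs
  have := hyc s hs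
  calc s * y⁻¹ = y⁻¹ * (y * s) * y⁻¹ := by group
    _ = y⁻¹ * (s * y) * y⁻¹ := by rw [this]
    _ = y⁻¹ * s := by group

/-! ### solvable overgroups of an abelian Sylow 2-subgroup -/

omit hpf in
theorem isSyl_top (S : Sylow 2 G) : IsSyl 2 (S : Subgroup G) ⊤ :=
  isSyl_of_forall S.2 le_top fun R hR _ h => (S.3 hR h)

omit hpf in
theorem isSyl_of_le_top (S : Sylow 2 G) {X : Subgroup G} (hX : (S : Subgroup G) ≤ X) : IsSyl 2 (S : Subgroup G) X :=
  (isSyl_top S).of_le hX le_top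

omit hpf in
theorem not_two_dvd_opc (X : Subgroup G) : ¬ 2 ∣ Nat.card (opc 2 X) := by
  intro h
  have h1 := H23.card_opc_coprime (p := 2) X
  rw [Nat.coprime_comm, Nat.Prime.coprime_iff_not_dvd Nat.prime_two] at h1
  exact h1 h

omit hpf in
theorem le_opc (S : Sylow 2 G) {X Y : Subgroup G} (hX : Group.IsSolvable X) (hSX : (S : Subgroup G) ≤ X)
    (hYX : Y ≤ X) (hY : ¬ 2 ∣ Nat.card Y) (hSY : (S : Subgroup G) ≤ normalizer (Y : Set G)) : Y ≤ opc 2 X :=
  H23.le_opc_of_syl hX (isSyl_of_le_top S hSX) hYX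
    (by rw [Nat.coprime_comm, Nat.Prime.coprime_iff_not_dvd Nat.prime_two]; exact hY) hSY

omit hpf in
/-- Frattini: `X = O(X) N_X(S)`. -/
theorem exists_frattini (S : Sylow 2 G) (hab : IsMulCommutative (S : Subgroup G)) {X : Subgroup G}
    (hX : Group.IsSolvable X) (hSX : (S : Subgroup G) ≤ X) {x : G} (hx : x ∈ X) :
    ∃ l ∈ opc 2 X, ∃ n ∈ X, n ∈ normalizer ((S : Subgroup G) : Set G) ∧ x = l * n := by
  let T : Sylow 2 X := S.subtype hSX
  have hT : (T : Subgroup X) = (S : Subgroup G).subgroupOf X := rfl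
  have hTab : Group.nilpotencyClass ↥(T : Subgroup X) ≤ 1 := by
    have h1 : ∀ a b : ↥(T : Subgroup X), a * b = b * a := by
      intro a b
      have h2 := congrArg Subtype.val (hab.is_comm.comm ⟨((a : X) : G), a.2⟩ ⟨((b : X) : G), b.2⟩)
      exact Subtype.ext (Subtype.ext h2)
    have hn : Group.IsNilpotent ↥(T : Subgroup X) := T.2.isNilpotent
    let inst : CommGroup ↥(T : Subgroup X) := { (inferInstance : Group ↥(T : Subgroup X)) with mul_comm := h1 }
    exact CommGroup.nilpotencyClass_le_one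
  have hpl := S0635.aux 1 X (ZJ.isPSolvable_of_isSolvable 2 hX) T hTab
  have h3 := H25.plen_one_frattini hpl T
  have h4 : (⟨x, hx⟩ : X) ∈ Cfsg.pPrimeCore 2 X ⊔ normalizer ((T : Subgroup X) : Set X) := by
    rw [h3]; trivial
  rw [mem_sup_of_normal_left] at h4
  obtain ⟨l, hl, n, hn, e⟩ := h4
  refine ⟨l, ⟨l, hl, rfl⟩, n, n.2, ?_, (congrArg Subtype.val e).symm⟩
  rw [mem_normalizer_iff] at hn ⊢
  intro y
  constructor
  · intro hy
    have := (hn ⟨y, hSX hy⟩).1 hy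
    exact this
  · intro hy
    have hyX : y ∈ X := by
      have := X.mul_mem (X.mul_mem (X.inv_mem n.2) (hSX hy)) n.2
      rwa [show (n : G)⁻¹ * (n * y * (n : G)⁻¹) * n = y by group] at this
    exact (hn ⟨y, hyX⟩).2 hy

end Cfsg.Agent.H70.AbPP
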