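import Cfsg.Agent.H70.AbPP

set_option autoImplicit false
set_option linter.all false

namespace Cfsg.Agent.H70.AbPP

open Subgroup
open Cfsg.Agent.SigF
open Cfsg.Agent.BG (pCoreOf)
open Cfsg.Agent.H23 (opc)
open scoped commutatorElement

universe u

variable {G : Type u} [Group G] [Finite G] {p : ℕ} [hpf : Fact p.Prime]

omit [Finite G] in
theorem solv_of_nilp {H : Subgroup G} (h : Group.IsNilpotent H) : Group.IsSolvable H := inferInstance

/-- `G` is minimal simple with abelian `p'`-subgroups. -/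
structure Ctx (p : ℕ) (G : Type u) [Group G] : Prop where
  abp : AbP p G
  p2 : p ≠ 2
  simple : IsSimpleGroup G
  nsol : ¬ Group.IsSolvable G
  psol : ∀ X : Subgroup G, X ≠ ⊤ → Group.IsSolvable X

namespace Ctx

variable (c : Ctx p G) (S : Sylow 2 G)
include c

theorem sab : IsMulCommutative (S : Subgroup G) :=
  c.abp _ (not_dvd_of_pgroup c.p2.symm S.2)

theorem scomm {x y : G} (hx : x ∈ S) (hy : y ∈ S) : x * y = y * x :=
  c.abp.comm (not_dvd_of_pgroup c.p2.symm S.2) hx hy

omit [Finite G] hpf in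
theorem cent_ne {a : G} (ha : a ≠ 1) : centralizer ({a} : Set G) ≠ ⊤ := by
  intro h
  have := c.simple
  have h1 : a ∈ center G := by
    rw [mem_center_iff]
    intro g
    have : g ∈ centralizer ({a} : Set G) := by rw [h]; trivial
    exact mem_centralizer_singleton_iff.1 this
  rcases (inferInstance : (center G).Normal).eq_bot_or_eq_top with h2 | h2
  · rw [h2, mem_bot] at h1
    exact ha h1
  · apply c.nsol
    exact Group.isSolvable_of_comm fun x y => (mem_center_iff.1 (by rw [h2]; trivial : y ∈ center G) x)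

omit [Finite G] hpf in
theorem norm_ne {H : Subgroup G} (hH : H ≠ ⊥) (hH' : H ≠ ⊤) : normalizer (H : Set G) ≠ ⊤ := by
  intro h
  have := c.simple
  have h1 : H.Normal := normalizer_eq_top_iff.1 h
  rcases h1.eq_bot_or_eq_top with h2 | h2
  · exact hH h2
  · exact hH' h2

theorem pgroup_ne_top {q : ℕ} [hq : Fact q.Prime] {H : Subgroup G} (hH : IsPGroup q H) : H ≠ ⊤ := by
  intro h
  apply c.nsol
  have h1 : IsPGroup q G := by
    have := hH
    rw [h] at this
    exact this.of_equiv Subgroup.topEquiv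
  have := h1.isNilpotent
  infer_instance

theorem S_le_cent {a : G} (ha : a ∈ S) : (S : Subgroup G) ≤ centralizer ({a} : Set G) := fun x hx =>
  mem_centralizer_singleton_iff.2 (c.scomm S hx ha)

theorem S_le_norm_of_cent {a : G} (ha : a ∈ S) {X : Subgroup G}
    (hX : centralizer ({a} : Set G) ≤ normalizer (X : Set G)) : (S : Subgroup G) ≤ normalizer (X : Set G) :=
  (c.S_le_cent S ha).trans hX

/-- `Ω₁(S)` -/
def om : Subgroup G where
  carrier := {x | x ∈ S ∧ x * x = 1}
  one_mem' := ⟨S.one_mem, one_mul 1⟩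
  mul_mem' := by
    rintro x y ⟨hx, hx2⟩ ⟨hy, hy2⟩
    refine ⟨(S : Subgroup G).mul_mem hx hy, ?_⟩
    calc x * y * (x * y) = x * (y * x) * y := by group
      _ = x * (x * y) * y := by rw [c.scomm S hy hx]
      _ = (x * x) * (y * y) := by group
      _ = 1 := by rw [hx2, hy2, one_mul]
  inv_mem' := by
    rintro x ⟨hx, hx2⟩
    refine ⟨(S : Subgroup G).inv_mem hx, ?_⟩
    rw [← mul_inv_rev, hx2, inv_one]

theorem mem_om {x : G} : x ∈ c.om S ↔ x ∈ S ∧ x * x = 1 := Iff.rfl

theorem om_le : c.om S ≤ S := fun _ h => h.1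

theorem om_elem : Cfsg.IsElementaryAbelian 2 (c.om S) := by
  refine ⟨⟨⟨fun a b => Subtype.ext (c.scomm S a.2.1 b.2.1)⟩⟩, fun a ha => ?_⟩
  rw [pow_two]; exact ha.2

omit [Finite G] hpf in
theorem cent_solv {a : G} (ha : a ≠ 1) : Group.IsSolvable (centralizer ({a} : Set G)) :=
  c.psol _ (c.cent_ne ha)

/-- `K_a = O(C_G(a))`. -/
theorem S_norm_K {a : G} (ha : a ∈ S) : (S : Subgroup G) ≤ normalizer (opc 2 (centralizer ({a} : Set G)) : Set G) :=
  c.S_le_norm_of_cent S ha (H23.le_normalizer_opc _)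

omit c hpf in
theorem cent_norm_th (a : G) : centralizer ({a} : Set G) ≤
    normalizer ((pCoreOf p (opc 2 (centralizer ({a} : Set G))) : Subgroup G) : Set G) :=
  (H23.le_normalizer_opc _).trans (BG.normalizer_le_normalizer_pCoreOf _ _)

theorem not_two_dvd_th (a : G) : ¬ 2 ∣ Nat.card (pCoreOf p (opc 2 (centralizer ({a} : Set G)))) := fun h =>
  not_two_dvd_opc (centralizer ({a} : Set G)) (h.trans (card_dvd_of_le (BG.pCoreOf_le _ _)))

/-- odd order `S`-invariant subgroups of `C(a)` lie in `K_a` -/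
theorem le_K {a : G} (ha : a ∈ S) (ha1 : a ≠ 1) {Y : Subgroup G} (hY : Y ≤ centralizer ({a} : Set G))
    (h2 : ¬ 2 ∣ Nat.card Y) (hS : (S : Subgroup G) ≤ normalizer (Y : Set G)) :
    Y ≤ opc 2 (centralizer ({a} : Set G)) :=
  le_opc S (c.cent_solv ha1) (c.S_le_cent S ha) hY h2 hS

/-- `[K_a, S] ≤ O_p(K_a)` -/
theorem comm_le_th {a : G} (ha : a ∈ S) :
    (⁅opc 2 (centralizer ({a} : Set G)), (S : Subgroup G)⁆ : Subgroup G) ≤
      pCoreOf p (opc 2 (centralizer ({a} : Set G))) := by
  have h1 := c.S_norm_K S ha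
  refine BG.le_pCoreOf (commutator_le_of h1) ?_ (isPGroup_comm c.abp c.p2 S.2 (not_two_dvd_opc _) h1)
  exact normalizer_commutator_ge_left _ _

/-- balance -/
theorem th_balance {a b : G} (ha : a ∈ S) (ha1 : a ≠ 1) (hb : b ∈ S) (hb1 : b ≠ 1) :
    pCoreOf p (opc 2 (centralizer ({a} : Set G))) ⊓ centralizer ({b} : Set G) ≤
      pCoreOf p (opc 2 (centralizer ({b} : Set G))) := by
  set Ka := opc 2 (centralizer ({a} : Set G)) with hKa
  set Kb := opc 2 (centralizer ({b} : Set G)) with hKb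
  set X : Subgroup G := pCoreOf p Ka ⊓ centralizer ({b} : Set G) with hX
  have hSX : (S : Subgroup G) ≤ normalizer (X : Set G) :=
    le_normalizer_inf (c.S_le_norm_of_cent S ha (cent_norm_th a))
      ((c.S_le_cent S hb).trans le_normalizer)
  have hX2 : ¬ 2 ∣ Nat.card X := fun h => not_two_dvd_opc (centralizer ({a} : Set G))
    (h.trans (card_dvd_of_le (inf_le_left.trans (BG.pCoreOf_le _ _))))
  have hXp : IsPGroup p X := (BG.pCoreOf_isPGroup p Ka).to_le inf_le_left
  have hXK : X ≤ Kb := c.le_K S hb hb1 inf_le_right hX2 hSX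
  -- the part centralised by `S`
  set Y : Subgroup G := pCoreOf p Ka ⊓ centralizer ((S : Subgroup G) : Set G) with hY
  have hcS : ∀ {d : G}, d ∈ S → centralizer ((S : Subgroup G) : Set G) ≤ centralizer ({d} : Set G) := by
    intro d hd
    exact centralizer_le (by simpa using hd)
  have hYb : Y ≤ Kb := by
    refine c.le_K S hb hb1 (inf_le_right.trans (hcS hb)) (fun h => c.not_two_dvd_th (p := p) a
      (h.trans (card_dvd_of_le inf_le_left))) ?_
    exact le_normalizer_inf (c.S_le_norm_of_cent S ha (cent_norm_th a))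
      (by
        intro s hs
        rw [mem_normalizer_iff_cj]
        refine cj_eq_of_mem (mem_centralizer_iff.2 fun t ht => c.scomm S ht hs) )
  have hR := c.comm_le_th S hb
  set R : Subgroup G := (⁅Kb, (S : Subgroup G)⁆ : Subgroup G) with hRdef
  have hSKb := c.S_norm_K S hb
  have hYR : Y ≤ pCoreOf p Kb := by
    -- `Y R` is a normal `p`-subgroup of `Kb`
    have hYn : centralizer ((S : Subgroup G) : Set G) ≤ normalizer (Y : Set G) :=
      le_normalizer_inf ((hcS ha).trans (cent_norm_th a)) le_normalizer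
    have hRn : Kb ≤ normalizer (R : Set G) := normalizer_commutator_ge_left _ _
    have hYRn : Kb ≤ normalizer ((Y ⊔ R : Subgroup G) : Set G) := by
      intro g hg
      obtain ⟨r, hr, d, hd, rfl⟩ := exists_decomp S.2 (not_two_dvd_opc _) hSKb hg
      refine (normalizer ((Y ⊔ R : Subgroup G) : Set G)).mul_mem
        (le_normalizer ((le_sup_right : R ≤ Y ⊔ R) hr)) ?_
      have h1 : d ∈ normalizer (Y : Set G) := hYn hd.2
      have h2 : d ∈ normalizer (R : Set G) := hRn hd.1
      rw [mem_normalizer_iff_cj] at h1 h2 ⊢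
      rw [cj_def, Subgroup.map_sup, ← cj_def, ← cj_def, h1, h2]
    have hRp : IsPGroup p R := (BG.pCoreOf_isPGroup p Kb).to_le hR
    have hYp : IsPGroup p Y := (BG.pCoreOf_isPGroup p Ka).to_le inf_le_left
    have hYRp : IsPGroup p ↥(Y ⊔ R : Subgroup G) :=
      hYp.to_sup_of_normal_right' hRp (hYb.trans hRn)
    exact le_sup_left.trans (BG.le_pCoreOf (sup_le hYb (hR.trans (BG.pCoreOf_le _ _))) hYRn hYRp)
  -- conclusion
  intro x hx
  obtain ⟨r, hr, d, hd, rfl⟩ := exists_decomp S.2 hX2 hSX hx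
  refine (pCoreOf p Kb).mul_mem (hR ?_) (hYR ⟨hd.1.1, hd.2⟩)
  exact commutator_mono hXK le_rfl hr

theorem th_functor : Cfsg.IsSolvableSignalizerFunctor 2 (c.om S)
    (fun a => pCoreOf p (opc 2 (centralizer ({a} : Set G)))) := by
  refine ⟨⟨?_, ?_, ?_, ?_⟩, ?_⟩
  · intro a ha ha1
    exact (BG.pCoreOf_le _ _).trans (H23.opc_le _)
  · intro a ha ha1
    exact c.not_two_dvd_th a
  · intro a ha ha1
    exact conj_of_le_normalizer ((c.om_le S).trans (c.S_le_norm_of_cent S ha.1 (cent_norm_th a)))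
  · intro a ha ha1 b hb hb1
    exact c.th_balance S ha.1 ha1 hb.1 hb1
  · intro a ha ha1
    have h1 := (BG.pCoreOf_isPGroup p (opc 2 (centralizer ({a} : Set G)))).isNilpotent
    exact Cfsg.Agent.H70.AbPP.solv_of_nilp h1

/-- the centralizer of an involution of `S` -/
theorem cent_decomp {a : G} (ha : a ∈ S) (ha1 : a ≠ 1) {g : G} (hg : g ∈ centralizer ({a} : Set G)) :
    ∃ r ∈ pCoreOf p (opc 2 (centralizer ({a} : Set G))), ∃ n ∈ normalizer ((S : Subgroup G) : Set G), g = r * n := by
  obtain ⟨l, hl, n, hnX, hn, rfl⟩ := exists_frattini S (c.sab S) (c.cent_solv ha1) (c.S_le_cent S ha) hg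
  obtain ⟨r, hr, d, hd, rfl⟩ := exists_decomp S.2 (not_two_dvd_opc _) (c.S_norm_K S ha) hl
  refine ⟨r, c.comm_le_th S ha hr, d * n, ?_, by group⟩
  refine (normalizer ((S : Subgroup G) : Set G)).mul_mem ?_ hn
  exact centralizer_le_normalizer _ hd.2

/-- conjugation by `N(S)` permutes the `O_p(K_a)` -/
theorem cj_th_le {a n : G} (ha : a ∈ S) (ha1 : a ≠ 1) (hn : n ∈ normalizer ((S : Subgroup G) : Set G)) :
    cj n (pCoreOf p (opc 2 (centralizer ({a} : Set G)))) ≤
      pCoreOf p (opc 2 (centralizer ({n * a * n⁻¹} : Set G))) := by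
  have key : ∀ {a n : G}, a ∈ S → a ≠ 1 → n ∈ normalizer ((S : Subgroup G) : Set G) →
      cj n (opc 2 (centralizer ({a} : Set G))) ≤ opc 2 (centralizer ({n * a * n⁻¹} : Set G)) := by
    intro a n ha ha1 hn
    have hb : n * a * n⁻¹ ∈ S := (mem_normalizer_iff.1 hn a).1 ha
    have hb1 : n * a * n⁻¹ ≠ 1 := fun h => ha1 (by simpa using h)
    refine c.le_K S hb hb1 ?_ ?_ ?_
    · rintro x hx
      rw [mem_cj] at hx
      have h1 := mem_centralizer_singleton_iff.1 (H23.opc_le _ hx)
      rw [mem_centralizer_singleton_iff]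
      calc x * (n * a * n⁻¹) = n * (n⁻¹ * x * n * a) * n⁻¹ := by group
        _ = n * (a * (n⁻¹ * x * n)) * n⁻¹ := by rw [h1]
        _ = n * a * n⁻¹ * x := by group
    · rw [card_cj]; exact not_two_dvd_opc _
    · intro s hs
      have h2 : n⁻¹ * s * n ∈ S := by
        have := (mem_normalizer_iff.1 ((normalizer ((S : Subgroup G) : Set G)).inv_mem hn) s).1 hs
        rwa [inv_inv] at this
      have h3 := mem_normalizer_iff_cj.1 (c.S_norm_K S ha h2)
      rw [mem_normalizer_iff_cj, ← cj_mul]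
      conv_rhs => rw [← h3, ← cj_mul]
      congr 1
      group
  have hb : n * a * n⁻¹ ∈ S := (mem_normalizer_iff.1 hn a).1 ha
  have hb1 : n * a * n⁻¹ ≠ 1 := fun h => ha1 (by simpa using h)
  have heq : cj n (opc 2 (centralizer ({a} : Set G))) = opc 2 (centralizer ({n * a * n⁻¹} : Set G)) := by
    apply le_antisymm (key ha ha1 hn)
    have h1 := key hb hb1 ((normalizer ((S : Subgroup G) : Set G)).inv_mem hn)
    have h2 := cj_mono (g := n) h1
    rw [← cj_mul, mul_inv_cancel] at h2
    have e : n⁻¹ * (n * a * n⁻¹) * n⁻¹⁻¹ = a := by group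
    rw [e] at h2
    simpa using h2
  have h1 : cj n (pCoreOf p (opc 2 (centralizer ({a} : Set G)))) = pCoreOf p (cj n (opc 2 (centralizer ({a} : Set G)))) :=
    BG.pCoreOf_conj p (opc 2 (centralizer ({a} : Set G))) n
  rw [h1, heq]

/-- Prop A -/
theorem exists_Q (h8 : 2 ^ 3 ≤ Nat.card (c.om S)) :
    ∃ Q : Subgroup G, IsPGroup p Q ∧ normalizer ((S : Subgroup G) : Set G) ≤ normalizer (Q : Set G) ∧
      (∀ a ∈ S, a ≠ 1 → a * a = 1 → centralizer ({a} : Set G) ≤ normalizer (Q : Set G)) ∧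
      (∀ a ∈ S, a ≠ 1 → a * a = 1 → pCoreOf p (opc 2 (centralizer ({a} : Set G))) ≤ Q) := by
  have hA := c.om_elem S
  have hθ := c.th_functor S
  obtain ⟨Q, hQ, -⟩ := exists_isMaxQ_ge (q := p) (bot_mem_family (p := 2) (A := c.om S)
    (θ := (fun a => pCoreOf p (opc 2 (centralizer ({a} : Set G)))))) IsPGroup.of_bot
  have hf := mem_family_iff.1 hQ.1
  have hθa : ∀ a ∈ c.om S, a ≠ 1 → Q ⊓ centralizer ({a} : Set G) = pCoreOf p (opc 2 (centralizer ({a} : Set G))) := by
    intro a ha ha1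
    have h1 := isSyl_inf_centralizer_singleton hA h8 hθ hQ ha ha1
    exact (h1.eq_of_le (BG.pCoreOf_isPGroup _ _) le_rfl h1.le).symm
  have hN : normalizer ((S : Subgroup G) : Set G) ≤ normalizer (Q : Set G) := by
    have key : ∀ n ∈ normalizer ((S : Subgroup G) : Set G), cj n Q ≤ Q := by
      intro n hn
      have h2 : Q ⊓ cj n Q = cj n Q := by
        refine eq_of_fixed_le hA (le_trans (by norm_num) h8) (by rw [card_cj]; exact hf.2.1) ?_ inf_le_right ?_
        · intro s hs
          have h3 : n⁻¹ * s * n ∈ c.om S := by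
            refine ⟨?_, ?_⟩
            · have := (mem_normalizer_iff.1 ((normalizer ((S : Subgroup G) : Set G)).inv_mem hn) s).1 hs.1
              rwa [inv_inv] at this
            · calc n⁻¹ * s * n * (n⁻¹ * s * n) = n⁻¹ * (s * s) * n := by group
                _ = 1 := by rw [hs.2]; group
          have h4 := mem_normalizer_iff_cj.1 (hf.2.2.1 h3)
          rw [mem_normalizer_iff_cj, ← cj_mul]
          conv_rhs => rw [← h4, ← cj_mul]
          congr 1
          group
        · intro b hb hb1 x hx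
          refine ⟨?_, hx.1⟩
          have h3 : n⁻¹ * b * n ∈ c.om S := by
            refine ⟨?_, ?_⟩
            · have := (mem_normalizer_iff.1 ((normalizer ((S : Subgroup G) : Set G)).inv_mem hn) b).1 hb.1
              rwa [inv_inv] at this
            · calc n⁻¹ * b * n * (n⁻¹ * b * n) = n⁻¹ * (b * b) * n := by group
                _ = 1 := by rw [hb.2]; group
          have h31 : n⁻¹ * b * n ≠ 1 := by
            intro h
            apply hb1
            calc b = n * (n⁻¹ * b * n) * n⁻¹ := by group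
              _ = 1 := by rw [h]; group
          have hx1 : n⁻¹ * x * n ∈ Q ⊓ centralizer ({n⁻¹ * b * n} : Set G) := by
            refine ⟨mem_cj.1 hx.1, ?_⟩
            have h5 := mem_centralizer_singleton_iff.1 hx.2
            show n⁻¹ * x * n ∈ centralizer ({n⁻¹ * b * n} : Set G)
            rw [mem_centralizer_singleton_iff]
            calc n⁻¹ * x * n * (n⁻¹ * b * n) = n⁻¹ * (x * b) * n := by group
              _ = n⁻¹ * (b * x) * n := by rw [h5]
              _ = _ := by group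
          rw [hθa _ h3 h31] at hx1
          have h6 := c.cj_th_le S h3.1 h31 hn (conj_mem_cj hx1 : n * (n⁻¹ * x * n) * n⁻¹ ∈ _)
          have e1 : n * (n⁻¹ * b * n) * n⁻¹ = b := by group
          have e2 : n * (n⁻¹ * x * n) * n⁻¹ = x := by group
          rw [e1, e2, ← hθa b hb hb1] at h6
          exact h6.1
      rw [← h2]; exact inf_le_left
    intro n hn
    rw [mem_normalizer_iff_cj]
    apply le_antisymm (key n hn)
    have := cj_mono (g := n) (key n⁻¹ (inv_mem hn))
    rw [← cj_mul, mul_inv_cancel] at this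
    simpa using this
  have hθQ : ∀ a ∈ S, a ≠ 1 → a * a = 1 → pCoreOf p (opc 2 (centralizer ({a} : Set G))) ≤ Q := by
    intro a ha ha1 ha2
    rw [← hθa a ⟨ha, ha2⟩ ha1]
    exact inf_le_left
  refine ⟨Q, hQ.2.1, hN, ?_, hθQ⟩
  intro a ha ha1 ha2 g hg
  obtain ⟨r, hr, n, hn, rfl⟩ := c.cent_decomp S ha ha1 hg
  exact (normalizer (Q : Set G)).mul_mem (le_normalizer (hθQ a ha ha1 ha2 hr)) (hN hn)

/-- Prop B -/
theorem cent_le_of_comm {Q : Subgroup G} (hQ : Q ≤ centralizer ((S : Subgroup G) : Set G)) {a : G}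
    (ha : a ∈ S) (ha1 : a ≠ 1) (hθ : pCoreOf p (opc 2 (centralizer ({a} : Set G))) ≤ Q) :
    centralizer ({a} : Set G) ≤ normalizer ((S : Subgroup G) : Set G) := by
  intro g hg
  obtain ⟨r, hr, n, hn, rfl⟩ := c.cent_decomp S ha ha1 hg
  exact (normalizer ((S : Subgroup G) : Set G)).mul_mem (centralizer_le_normalizer _ (hQ (hθ hr))) hn

end Ctx

end Cfsg.Agent.H70.AbPP
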