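import Cfsg.Agent.H70.AbPP2

set_option autoImplicit false
set_option linter.all false

namespace Cfsg.Agent.H70.AbPP

open Subgroup
open Cfsg.Agent.SigF
open Cfsg.Agent.BG (pCoreOf)
open Cfsg.Agent.H23 (opc)
open scoped commutatorElement

universe u

variable {G : Type u} [Group G] [Finite G] {p : ℕ} [hpf : Fact p.Prime]

omit hpf in
/-- two involutions are conjugate or commute with a common involution -/
theorem dihedral {t u : G} (ht : t * t = 1) (hu : u * u = 1) (htu : t ≠ u) :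
    (¬ 2 ∣ orderOf (t * u) ∧ ∃ g, g * t * g⁻¹ = u) ∨ (∃ z, z ≠ 1 ∧ z * z = 1 ∧ t * z = z * t ∧ u * z = z * u) := by
  have hti : t⁻¹ = t := inv_eq_of_mul_eq_one_left ht
  have hui : u⁻¹ = u := inv_eq_of_mul_eq_one_left hu
  have hinv : t * (t * u) * t⁻¹ = (t * u)⁻¹ := by
    rw [mul_inv_rev, hti, hui, ← mul_assoc, ht, one_mul]
  have hpow : ∀ n : ℕ, t * (t * u) ^ n * t⁻¹ = ((t * u) ^ n)⁻¹ := by
    intro n
    rw [← conj_pow, hinv, inv_pow]
  by_cases h2 : 2 ∣ orderOf (t * u)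
  · right
    obtain ⟨k, hk⟩ := h2
    have hpos := orderOf_pos (t * u)
    have hk0 : 0 < k := by omega
    have hz2 : (t * u) ^ k * (t * u) ^ k = 1 := by
      rw [← pow_add, ← two_mul, ← hk, pow_orderOf_eq_one]
    have hz1 : (t * u) ^ k ≠ 1 := by
      intro h
      have := Nat.le_of_dvd hk0 (orderOf_dvd_of_pow_eq_one h)
      omega
    have hzi : ((t * u) ^ k)⁻¹ = (t * u) ^ k := inv_eq_of_mul_eq_one_left hz2
    have h1 : t * (t * u) ^ k = (t * u) ^ k * t := by
      have := hpow k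
      rw [hzi, mul_inv_eq_iff_eq_mul] at this
      exact this
    refine ⟨(t * u) ^ k, hz1, hz2, h1, ?_⟩
    have h3 : (t * u) * (t * u) ^ k = (t * u) ^ k * (t * u) := (Commute.self_pow _ _).eq
    have e : u = t * (t * u) := by rw [← mul_assoc, ht, one_mul]
    calc u * (t * u) ^ k = t * (t * u) * (t * u) ^ k := by rw [← e]
      _ = t * ((t * u) * (t * u) ^ k) := mul_assoc _ _ _
      _ = t * ((t * u) ^ k * (t * u)) := by rw [h3]
      _ = (t * (t * u) ^ k) * (t * u) := (mul_assoc _ _ _).symm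
      _ = (t * u) ^ k * t * (t * u) := by rw [h1]
      _ = (t * u) ^ k * (t * (t * u)) := mul_assoc _ _ _
      _ = (t * u) ^ k * u := by rw [← e]
  · left
    refine ⟨h2, ?_⟩
    obtain ⟨k, hk⟩ : ∃ k, orderOf (t * u) = 2 * k + 1 := ⟨orderOf (t * u) / 2, by omega⟩
    refine ⟨((t * u) ^ (k + 1))⁻¹, ?_⟩
    rw [inv_inv]
    have h1 : t * (t * u) ^ (k + 1) = ((t * u) ^ (k + 1))⁻¹ * t := by
      have := hpow (k + 1)
      rw [mul_inv_eq_iff_eq_mul] at this
      exact this
    rw [← h1, mul_assoc, ← pow_add]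
    have e : k + 1 + (k + 1) = orderOf (t * u) + 1 := by omega
    rw [e, pow_succ, pow_orderOf_eq_one, one_mul, ← mul_assoc, ht, one_mul]

/-- the set of involutions of `S` -/
def invS (S : Sylow 2 G) : Set G := {t | t ∈ S ∧ t ≠ 1 ∧ t * t = 1}

/-- `M` contains `N(S)` and the centralisers of the involutions of `S` -/
structure SE (S : Sylow 2 G) (M : Subgroup G) : Prop where
  ne : M ≠ ⊤
  norm : normalizer ((S : Subgroup G) : Set G) ≤ M
  cent : ∀ t ∈ S, t ≠ 1 → t * t = 1 → centralizer ({t} : Set G) ≤ M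

theorem SE.S_le {S : Sylow 2 G} {M : Subgroup G} (h : SE S M) : (S : Subgroup G) ≤ M := le_normalizer.trans h.norm

omit hpf in
theorem SE.exists_conj {S : Sylow 2 G} {M : Subgroup G} (h : SE S M) {z : G} (hz : z ∈ M) (hz2 : z * z = 1) :
    ∃ m ∈ M, m * z * m⁻¹ ∈ S := by
  have h1 : IsPGroup 2 (zpowers z) := by
    rintro ⟨_, k, rfl⟩
    refine ⟨1, ?_⟩
    apply Subtype.ext
    show (z ^ k) ^ 2 ^ 1 = 1
    rw [pow_one, ← zpow_natCast, ← zpow_mul, mul_comm, zpow_mul, zpow_natCast, pow_two, hz2, one_zpow]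
  obtain ⟨R, hR, hzR⟩ := exists_isSyl_ge h1 ((zpowers_le).2 hz)
  obtain ⟨g, hg, hgR⟩ := hR.exists_cj (isSyl_of_le_top S h.S_le)
  refine ⟨g, hg, ?_⟩
  have h2 : g * z * g⁻¹ ∈ cj g R := conj_mem_cj (hzR (mem_zpowers z))
  rw [hgR] at h2
  exact h2

omit hpf in
theorem SE.cent' {S : Sylow 2 G} {M : Subgroup G} (h : SE S M) {z : G} (hz : z ∈ M) (hz1 : z ≠ 1)
    (hz2 : z * z = 1) : centralizer ({z} : Set G) ≤ M := by
  obtain ⟨m, hm, hmz⟩ := h.exists_conj hz hz2
  intro g hg
  have h1 : m * g * m⁻¹ ∈ centralizer ({m * z * m⁻¹} : Set G) := by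
    rw [mem_centralizer_singleton_iff] at hg ⊢
    calc m * g * m⁻¹ * (m * z * m⁻¹) = m * (g * z) * m⁻¹ := by group
      _ = m * (z * g) * m⁻¹ := by rw [hg]
      _ = _ := by group
  have h2 := h.cent _ hmz (fun h3 => hz1 (by simpa using h3)) (by
    calc m * z * m⁻¹ * (m * z * m⁻¹) = m * (z * z) * m⁻¹ := by group
      _ = 1 := by rw [hz2]; group) h1
  have h3 := M.mul_mem (M.mul_mem (M.inv_mem hm) h2) hm
  rwa [show m⁻¹ * (m * g * m⁻¹) * m = g by group] at h3

namespace Ctx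

variable (c : Ctx p G) (S : Sylow 2 G)
include c

omit [Finite G] in
theorem exists_noncomm : ∃ x y : G, x * y ≠ y * x := by
  by_contra h
  push Not at h
  exact c.nsol (Group.isSolvable_of_comm h)

theorem norm_not_le_cent (h2 : 2 ∣ Nat.card G) :
    ¬ normalizer ((S : Subgroup G) : Set G) ≤ centralizer ((S : Subgroup G) : Set G) := by
  intro h
  have := c.simple
  exact Transfer.not_hasNPC_of_isSimpleGroup c.exists_noncomm h2 (Transfer.hasNPC_of_normalizer_le_centralizer S h)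

theorem pprime_cent {n : G} (hn : n ∈ normalizer ((S : Subgroup G) : Set G)) (hnp : ¬ p ∣ orderOf n) :
    n ∈ centralizer ((S : Subgroup G) : Set G) := by
  rw [mem_centralizer_iff]
  intro s hs
  exact (comm_of_inv c.abp (S := zpowers n) (L := (S : Subgroup G)) (by rwa [Nat.card_zpowers])
    (not_dvd_of_pgroup c.p2.symm S.2) (by rwa [zpowers_le]) (mem_zpowers n) hs).symm

theorem exists_pow_cent {n : G} (hn : n ∈ normalizer ((S : Subgroup G) : Set G)) :
    ∃ k, n ^ p ^ k ∈ centralizer ((S : Subgroup G) : Set G) := by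
  obtain ⟨k, m, hm, hkm⟩ := Nat.exists_eq_pow_mul_and_not_dvd (orderOf_pos n).ne' p hpf.out.ne_one
  refine ⟨k, c.pprime_cent S (pow_mem hn _) ?_⟩
  rw [orderOf_pow_of_dvd (pow_ne_zero _ hpf.out.ne_zero) ⟨m, hkm⟩, hkm,
    Nat.mul_div_cancel_left _ (pow_pos hpf.out.pos _)]
  exact hm

/-- odd order elements of `N(S)` centralising `Ω₁(S)` centralise `S` -/
theorem cent_of_cent_om {n : G} (hn : n ∈ normalizer ((S : Subgroup G) : Set G)) (hodd : ¬ 2 ∣ orderOf n)
    (h : ∀ e ∈ c.om S, n * e = e * n) : n ∈ centralizer ((S : Subgroup G) : Set G) := by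
  have key : ∀ k : ℕ, ∀ s ∈ S, s ^ 2 ^ k = 1 → n * s = s * n := by
    intro k
    induction k with
    | zero =>
      intro s hs h1
      rw [pow_zero, pow_one] at h1
      rw [h1, mul_one, one_mul]
    | succ k ih =>
      intro s hs h1
      have h2 : n * (s * s) = (s * s) * n := by
        refine ih (s * s) ((S : Subgroup G).mul_mem hs hs) ?_
        rw [← pow_two, ← pow_mul, ← pow_succ']
        exact h1
      have hs' : n * s * n⁻¹ ∈ S := (mem_normalizer_iff.1 hn s).1 hs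
      set e : G := n * s * n⁻¹ * s⁻¹ with he
      have heS : e ∈ S := (S : Subgroup G).mul_mem hs' ((S : Subgroup G).inv_mem hs)
      have he2 : e * e = 1 := by
        have hc := c.scomm S ((S : Subgroup G).inv_mem hs) hs'
        calc e * e = n * s * n⁻¹ * (s⁻¹ * (n * s * n⁻¹)) * s⁻¹ := by rw [he]; group
          _ = n * s * n⁻¹ * (n * s * n⁻¹ * s⁻¹) * s⁻¹ := by rw [hc]
          _ = (n * (s * s)) * n⁻¹ * s⁻¹ * s⁻¹ := by group
          _ = 1 := by rw [h2]; group
      have hne : n * e = e * n := h e ⟨heS, he2⟩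
      have hns : n * s = e * s * n := by rw [he]; group
      have hj : ∀ j : ℕ, n ^ j * s = e ^ j * s * n ^ j := by
        intro j
        induction j with
        | zero => simp
        | succ j ihj =>
          have hc2 : n ^ j * e = e * n ^ j := ((Commute.pow_left (show Commute n e from hne)) j).eq
          calc n ^ (j + 1) * s = n ^ j * (n * s) := by rw [pow_succ, mul_assoc]
            _ = n ^ j * (e * s * n) := by rw [hns]
            _ = (n ^ j * e) * s * n := by group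
            _ = e * (n ^ j * s) * n := by rw [hc2]; group
            _ = e * (e ^ j * s * n ^ j) * n := by rw [ihj]
            _ = (e * e ^ j) * s * (n ^ j * n) := by group
            _ = e ^ (j + 1) * s * n ^ (j + 1) := by rw [← pow_succ', ← pow_succ]
      have h3 := hj (orderOf n)
      rw [pow_orderOf_eq_one, one_mul, mul_one] at h3
      have h4 : e ^ orderOf n = 1 := by
        have := congrArg (fun y => y * s⁻¹) h3
        simp only [mul_inv_cancel, mul_inv_cancel_right] at this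
        exact this.symm
      have h5 : e = 1 := by
        have h6 : orderOf e ∣ 2 := orderOf_dvd_of_pow_eq_one (by rw [pow_two]; exact he2)
        rcases (Nat.dvd_prime Nat.prime_two).1 h6 with h7 | h7
        · exact orderOf_eq_one_iff.1 h7
        · exact absurd (h7 ▸ orderOf_dvd_of_pow_eq_one h4) hodd
      rw [hns, h5, one_mul]
  rw [mem_centralizer_iff]
  intro s hs
  obtain ⟨k, hk⟩ := Transfer.isPGroup_mem_pow S.2 hs
  exact (key k s hs hk).symm

theorem card_om : Nat.card (c.om S) = (invS S).ncard + 1 := by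
  have h : (c.om S : Set G) = insert 1 (invS S) := by
    ext x
    constructor
    · intro hx
      by_cases h1 : x = 1
      · exact Or.inl h1
      · exact Or.inr ⟨hx.1, h1, hx.2⟩
    · rintro (h1 | h1)
      · rw [h1]; exact (c.om S).one_mem
      · exact ⟨h1.1, h1.2.2⟩
  rw [← SetLike.coe_sort_coe, Nat.card_coe_set_eq, h, Set.ncard_insert_of_notMem]
  exact fun h1 => h1.2.1 rfl

variable {M : Subgroup G}

theorem se_trans (h : SE S M) {t u : G} (ht : t ∈ S) (ht1 : t ≠ 1) (ht2 : t * t = 1)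
    (hu : u ∈ S) (hu1 : u ≠ 1) (hu2 : u * u = 1) : ∃ n ∈ normalizer ((S : Subgroup G) : Set G), n * t * n⁻¹ = u := by
  have hf := Transfer.controlsFusion_normalizer_of_isMulCommutative S (c.sab S)
  have hSM := h.S_le
  obtain ⟨g, hg⟩ : ∃ g, g ∉ M := by
    by_contra hcon
    push Not at hcon
    exact h.ne (eq_top_iff.2 fun x _ => hcon x)
  set w : G := g * u * g⁻¹ with hw
  have hw2 : w * w = 1 := by
    calc w * w = g * (u * u) * g⁻¹ := by rw [hw]; group
      _ = 1 := by rw [hu2]; group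
  have hwM : w ∉ M := by
    intro hwM
    obtain ⟨m, hm, hmw⟩ := h.exists_conj hwM hw2
    have e : m * w * m⁻¹ = (m * g) * u * (m * g)⁻¹ := by rw [hw]; group
    rw [e] at hmw
    obtain ⟨n, hn, hnu⟩ := hf u hu (m * g) hmw
    have h1 : n⁻¹ * (m * g) ∈ centralizer ({u} : Set G) := by
      rw [mem_centralizer_singleton_iff]
      calc n⁻¹ * (m * g) * u = n⁻¹ * ((m * g) * u * (m * g)⁻¹) * (m * g) := by group
        _ = n⁻¹ * (n * u * n⁻¹) * (m * g) := by rw [hnu]
        _ = u * (n⁻¹ * (m * g)) := by group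
    have h2 := h.cent u hu hu1 hu2 h1
    have h3 := M.mul_mem (M.inv_mem hm) (M.mul_mem (h.norm hn) h2)
    rw [show m⁻¹ * (n * (n⁻¹ * (m * g))) = g by group] at h3
    exact hg h3
  have htw : t ≠ w := fun h1 => hwM (h1 ▸ hSM ht)
  rcases dihedral ht2 hw2 htw with ⟨-, g', hg'⟩ | ⟨z, hz1, hz2, htz, hwz⟩
  · have h1 : (g⁻¹ * g') * t * (g⁻¹ * g')⁻¹ = u := by
      calc (g⁻¹ * g') * t * (g⁻¹ * g')⁻¹ = g⁻¹ * (g' * t * g'⁻¹) * g := by group
        _ = g⁻¹ * w * g := by rw [hg']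
        _ = u := by rw [hw]; group
    obtain ⟨n, hn, hnt⟩ := hf t ht (g⁻¹ * g') (by rw [h1]; exact hu)
    exact ⟨n, hn, by rw [hnt, h1]⟩
  · exfalso
    have hzM : z ∈ M := h.cent t ht ht1 ht2 (mem_centralizer_singleton_iff.2 htz.symm)
    exact hwM (h.cent' hzM hz1 hz2 (mem_centralizer_singleton_iff.2 hwz))

theorem se_le (h : SE S M) (h4 : 2 ^ 2 ≤ Nat.card (c.om S)) {X : Subgroup G} (hX : X ≠ ⊤)
    (hSX : (S : Subgroup G) ≤ X) : X ≤ M := by
  intro x hx
  obtain ⟨l, hl, n, -, hn, rfl⟩ := exists_frattini S (c.sab S) (c.psol X hX) hSX hx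
  refine M.mul_mem ?_ (h.norm hn)
  have h1 : opc 2 X ⊓ M = opc 2 X := by
    refine eq_of_fixed_le (c.om_elem S) h4 (not_two_dvd_opc X)
      ((c.om_le S).trans (hSX.trans (H23.le_normalizer_opc X))) inf_le_left ?_
    intro a ha ha1
    exact inf_le_inf_left _ (h.cent a ha.1 ha1 ha.2)
  rw [← h1] at hl
  exact hl.2

/-- the number of involutions is a power of `p` -/
theorem se_card (h : SE S M) {t : G} (ht : t ∈ invS S) : ∃ j, (invS S).ncard = p ^ j := by
  let N : Subgroup G := normalizer ((S : Subgroup G) : Set G)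
  letI : MulAction N G := MulAction.compHom G ((MulAut.conj : G →* MulAut G).comp N.subtype)
  have hsm : ∀ (n : N) (g : G), n • g = (n : G) * g * (n : G)⁻¹ := fun _ _ => rfl
  have horb : MulAction.orbit N t = invS S := by
    ext x
    constructor
    · rintro ⟨n, rfl⟩
      show n • t ∈ invS S
      rw [hsm]
      refine ⟨(mem_normalizer_iff.1 n.2 t).1 ht.1, fun h1 => ht.2.1 (by simpa using h1), ?_⟩
      calc (n : G) * t * (n : G)⁻¹ * ((n : G) * t * (n : G)⁻¹) = (n : G) * (t * t) * (n : G)⁻¹ := by group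
        _ = 1 := by rw [ht.2.2]; group
    · intro hx
      obtain ⟨n, hn, e⟩ := c.se_trans S h ht.1 ht.2.1 ht.2.2 hx.1 hx.2.1 hx.2.2
      exact ⟨⟨n, hn⟩, e⟩
  let K : Subgroup N := (normalizerMonoidHom (S : Subgroup G)).ker
  have hK : ∀ n : N, n ∈ K ↔ (n : G) ∈ centralizer ((S : Subgroup G) : Set G) := by
    intro n
    show n ∈ (normalizerMonoidHom (S : Subgroup G)).ker ↔ _
    rw [normalizerMonoidHom_ker]
    exact mem_subgroupOf
  have hKs : K ≤ MulAction.stabilizer N t := by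
    intro n hn
    rw [hK] at hn
    rw [MulAction.mem_stabilizer_iff, hsm, ← mem_centralizer_iff.1 hn t ht.1]
    group
  have hpg : IsPGroup p (N ⧸ K) := by
    intro q
    obtain ⟨n, rfl⟩ := QuotientGroup.mk'_surjective K q
    obtain ⟨k, hk⟩ := c.exists_pow_cent S n.2
    refine ⟨k, ?_⟩
    rw [← map_pow]
    exact (QuotientGroup.eq_one_iff _).2 ((hK _).2 hk)
  obtain ⟨j, hj⟩ := IsPGroup.iff_card.1 hpg
  have h1 : (MulAction.stabilizer N t).index ∣ K.index := index_dvd_of_le hKs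
  rw [index_eq_card K, hj, MulAction.index_stabilizer, horb] at h1
  obtain ⟨i, -, hi⟩ := (Nat.dvd_prime_pow hpf.out).1 h1
  exact ⟨i, hi⟩

/-- (F1) -/
theorem cent_of_fix (hI : (invS S).ncard = p) {n t : G} (hn : n ∈ normalizer ((S : Subgroup G) : Set G))
    (ht : t ∈ invS S) (hnt : n * t = t * n) : n ∈ centralizer ((S : Subgroup G) : Set G) := by
  obtain ⟨a, b, hab, ⟨k, hk⟩, hb⟩ := Transfer.exists_pow_decomp p n (orderOf_pos n).ne'
  rw [hab]
  refine (centralizer ((S : Subgroup G) : Set G)).mul_mem ?_ (c.pprime_cent S (pow_mem hn _)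
    ((Nat.Prime.coprime_iff_not_dvd hpf.out).1 hb.symm))
  have hxN : n ^ a ∈ normalizer ((S : Subgroup G) : Set G) := pow_mem hn a
  have hxt : n ^ a * t = t * n ^ a := ((Commute.pow_left (show Commute n t from hnt)) a).eq
  set x : G := n ^ a with hx
  have hodd : ¬ 2 ∣ orderOf x := by
    rw [hk]
    intro h
    exact c.p2 ((Nat.prime_dvd_prime_iff_eq Nat.prime_two hpf.out).1 (Nat.prime_two.dvd_of_dvd_pow h)).symm
  refine c.cent_of_cent_om S hxN hodd ?_
  -- orbits of `⟨x⟩`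
  let Z : Subgroup G := zpowers x
  letI : MulAction Z G := MulAction.compHom G ((MulAut.conj : G →* MulAut G).comp Z.subtype)
  have hsm : ∀ (z : Z) (g : G), z • g = (z : G) * g * (z : G)⁻¹ := fun _ _ => rfl
  have hZp : IsPGroup p Z := IsPGroup.of_card (n := k) (by rw [Nat.card_zpowers, hk])
  have hZN : Z ≤ normalizer ((S : Subgroup G) : Set G) := by rwa [zpowers_le]
  have hZt : ∀ z ∈ Z, z * t = t * z := by
    intro z hz
    have h1 : Z ≤ centralizer ({t} : Set G) := by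
      rw [zpowers_le, mem_centralizer_singleton_iff]; exact hxt
    exact mem_centralizer_singleton_iff.1 (h1 hz)
  intro e he
  by_cases he1 : e = 1
  · rw [he1, mul_one, one_mul]
  have heI : e ∈ invS S := ⟨he.1, he1, he.2⟩
  by_cases het : e = t
  · rw [het]; exact hxt
  have horb : MulAction.orbit Z e ⊆ invS S \ {t} := by
    rintro _ ⟨z, rfl⟩
    show z • e ∈ _
    rw [hsm]
    refine ⟨⟨(mem_normalizer_iff.1 (hZN z.2) e).1 he.1, fun h1 => he1 (by simpa using h1), ?_⟩, ?_⟩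
    · calc (z : G) * e * (z : G)⁻¹ * ((z : G) * e * (z : G)⁻¹) = (z : G) * (e * e) * (z : G)⁻¹ := by group
        _ = 1 := by rw [he.2]; group
    · intro h1
      apply het
      have h1' : (z : G) * e * (z : G)⁻¹ = t := h1
      calc e = (z : G)⁻¹ * ((z : G) * e * (z : G)⁻¹) * z := by group
        _ = (z : G)⁻¹ * (t * z) := by rw [h1']; group
        _ = (z : G)⁻¹ * (z * t) := by rw [hZt z z.2]
        _ = t := by group
  obtain ⟨i, hi⟩ := hZp.card_orbit e
  rw [Nat.card_coe_set_eq] at hi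
  have h1 := Set.ncard_le_ncard horb (Set.toFinite _)
  rw [Set.ncard_sdiff_singleton_of_mem ht, hI, hi] at h1
  have hi0 : i = 0 := by
    by_contra hne
    have h2 : p ^ 1 ≤ p ^ i := Nat.pow_le_pow_right hpf.out.pos (by omega)
    have h3 := hpf.out.pos
    rw [pow_one] at h2
    omega
  rw [hi0, pow_zero, Set.ncard_eq_one] at hi
  obtain ⟨y, hy⟩ := hi
  have h2 : e ∈ ({y} : Set G) := hy ▸ MulAction.mem_orbit_self e
  have h3 : (⟨x, mem_zpowers x⟩ : Z) • e ∈ ({y} : Set G) := hy ▸ MulAction.mem_orbit e _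
  rw [hsm] at h3
  have h4 : x * e * x⁻¹ = e := by
    rw [Set.mem_singleton_iff] at h2 h3
    rw [h2]
    rw [h2] at h3
    exact h3
  rw [mul_inv_eq_iff_eq_mul] at h4
  exact h4

end Ctx

/-- `2^m = p^j + 1`, `m ≥ 3`: then `j = 1` and `p ≡ 3 (mod 4)` -/
theorem num {m j : ℕ} {p : ℕ} (hp : p.Prime) (hp2 : p ≠ 2) (h8 : 8 ≤ 2 ^ m) (h : 2 ^ m = p ^ j + 1) : j = 1 ∧ p % 4 = 3 := by
  have hm : 3 ≤ m := by
    by_contra hcon
    have : 2 ^ m ≤ 2 ^ 2 := Nat.pow_le_pow_right (by norm_num) (by omega)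
    omega
  have hodd : p % 2 = 1 := hp.eq_two_or_odd.resolve_left hp2
  have h4 : 4 ∣ 2 ^ m := (pow_dvd_pow 2 (by omega : 2 ≤ m))
  -- `j` is odd
  have hjodd : j % 2 = 1 := by
    by_contra hcon
    obtain ⟨i, rfl⟩ : ∃ i, j = 2 * i := ⟨j / 2, by omega⟩
    have h5 : p ^ (2 * i) % 4 = 1 := by
      rw [pow_mul, Nat.pow_mod]
      have : p ^ 2 % 4 = 1 := by
        have : p % 4 = 1 ∨ p % 4 = 3 := by omega
        rcases this with h | h <;> simp [Nat.pow_mod, h]
      rw [this, one_pow]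
      norm_num
    omega
  obtain ⟨i, rfl⟩ : ∃ i, j = 2 * i + 1 := ⟨j / 2, by omega⟩
  have key : ∀ i : ℕ, ∃ r : ℕ, p ^ (2 * i + 1) + 1 = (p + 1) * (2 * r + 1) := by
    intro i
    induction i with
    | zero => exact ⟨0, by simp⟩
    | succ i ih =>
      obtain ⟨r, hr⟩ := ih
      obtain ⟨q, hq⟩ : ∃ q, p = 2 * q + 1 := ⟨p / 2, by omega⟩
      have e1 : p ^ (2 * (i + 1) + 1) = p ^ 2 * p ^ (2 * i + 1) := by rw [← pow_add]; ring_nf
      refine ⟨p ^ 2 * r + p * q, ?_⟩
      rw [e1]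
      zify at hr ⊢
      have h5 : (p : ℤ) ^ (2 * i + 1) = (p + 1) * (2 * r + 1) - 1 := by linarith
      have h6 : (p : ℤ) = 2 * q + 1 := by exact_mod_cast hq
      rw [h5, h6]
      ring
  obtain ⟨r, hr⟩ := key i
  have h5 : (2 * r + 1) ∣ 2 ^ m := ⟨p + 1, by rw [h, hr, mul_comm]⟩
  have h6 : 2 * r + 1 = 1 := by
    obtain ⟨k, -, hk⟩ := (Nat.dvd_prime_pow Nat.prime_two).1 h5
    rcases Nat.eq_zero_or_pos k with h7 | h7
    · rw [hk, h7, pow_zero]
    · exfalso
      have h8 : 2 ∣ 2 ^ k := dvd_pow_self 2 h7.ne'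
      omega
  rw [h6, mul_one] at hr
  have h7 : p ^ (2 * i + 1) = p ^ 1 := by rw [pow_one]; omega
  have h8' := Nat.pow_right_injective hp.two_le h7
  refine ⟨h8', ?_⟩
  rw [hr] at h
  omega

end Cfsg.Agent.H70.AbPP
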