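import Cfsg.Agent.H70.AbPP3

set_option autoImplicit false
set_option linter.all false

namespace Cfsg.Agent.H70.AbPP

open Subgroup
open Cfsg.Agent.SigF
open Cfsg.Agent.BG (pCoreOf)
open Cfsg.Agent.H23 (opc)
open scoped commutatorElement

universe u

variable {G : Type u} [Group G] [Finite G] {p : ℕ} [hpf : Fact p.Prime]

/-- final configuration -/
structure Fin1 (p : ℕ) (G : Type u) [Group G] : Prop where
  ctx : Ctx p G
  cent : ∀ (T : Sylow 2 G) (t : G), t ∈ T → t ≠ 1 → t * t = 1 → centralizer ({t} : Set G) ≤ centralizer ((T : Subgroup G) : Set G)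
  se : ∀ T : Sylow 2 G, SE T (normalizer ((T : Subgroup G) : Set G))
  le : ∀ (T : Sylow 2 G) (X : Subgroup G), X ≠ ⊤ → (T : Subgroup G) ≤ X → X ≤ normalizer ((T : Subgroup G) : Set G)
  card : ∀ T : Sylow 2 G, (invS T).ncard = p

omit [Finite G] hpf in
theorem exists_sylow_inv {t : G} (ht : t * t = 1) : ∃ T : Sylow 2 G, t ∈ T := by
  have h1 : IsPGroup 2 (zpowers t) := by
    rintro ⟨_, k, rfl⟩
    refine ⟨1, ?_⟩
    apply Subtype.ext
    show (t ^ k) ^ 2 ^ 1 = 1
    rw [pow_one, ← zpow_natCast, ← zpow_mul, mul_comm, zpow_mul, zpow_natCast, pow_two, ht, one_zpow]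
  obtain ⟨T, hT⟩ := h1.exists_le_sylow
  exact ⟨T, hT (mem_zpowers t)⟩

namespace Fin1

variable (c : Fin1 p G)
include c

/-- uniqueness of the Sylow subgroup containing an involution -/
theorem uniq {T T' : Sylow 2 G} {t : G} (ht : t ∈ T) (ht' : t ∈ T') (ht1 : t ≠ 1) (ht2 : t * t = 1) : T = T' := by
  have h1 : (T' : Subgroup G) ≤ T := by
    intro y hy
    have h2 : y ∈ centralizer ({t} : Set G) := c.ctx.S_le_cent T' ht' hy
    have h3 : y ∈ normalizer ((T : Subgroup G) : Set G) := centralizer_le_normalizer _ (c.cent T t ht ht1 ht2 h2)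
    obtain ⟨k, hk⟩ := Transfer.isPGroup_mem_pow T'.2 hy
    exact Transfer.mem_sylow_of_mem_normalizer h3 hk
  exact Sylow.ext (T'.3 T.2 h1)

/-- an involution commuting with `z ∈ T` lies in `T` -/
theorem mem_of_comm {T : Sylow 2 G} {z t : G} (hz : z ∈ T) (hz1 : z ≠ 1) (hz2 : z * z = 1) (ht2 : t * t = 1)
    (h : t * z = z * t) : t ∈ T := by
  have h3 : t ∈ normalizer ((T : Subgroup G) : Set G) := centralizer_le_normalizer _
    (c.cent T z hz hz1 hz2 (mem_centralizer_singleton_iff.2 h))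
  exact Transfer.mem_sylow_of_mem_normalizer (k := 1) h3 (by rw [pow_one, pow_two]; exact ht2)

/-- involutions in different Sylow subgroups: odd order product -/
theorem odd_mul {T : Sylow 2 G} {t u : G} (ht : t ∈ T) (ht1 : t ≠ 1) (ht2 : t * t = 1)
    (hu : u ∉ T) (hu2 : u * u = 1) : ¬ 2 ∣ orderOf (t * u) := by
  have htu : t ≠ u := fun h => hu (h ▸ ht)
  rcases dihedral ht2 hu2 htu with ⟨h, -⟩ | ⟨z, hz1, hz2, htz, huz⟩
  · exact h
  · exfalso
    obtain ⟨T', hT'⟩ := exists_sylow_inv hz2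
    have h1 := c.mem_of_comm hT' hz1 hz2 ht2 htz
    have h2 := c.mem_of_comm hT' hz1 hz2 hu2 huz
    rw [c.uniq ht h1 ht1 ht2] at hu
    exact hu h2

/-- `x` nontrivial of odd order inverted by the involution `t` -/
structure Real (x t : G) : Prop where
  x1 : x ≠ 1
  xo : ¬ 2 ∣ orderOf x
  t1 : t ≠ 1
  t2 : t * t = 1
  inv : t * x * t⁻¹ = x⁻¹

omit c [Finite G] in
theorem eq_one_of_odd {x : G} (hx : ¬ 2 ∣ orderOf x) (h : x * x = 1) : x = 1 := by
  have h6 : orderOf x ∣ 2 := orderOf_dvd_of_pow_eq_one (by rw [pow_two]; exact h)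
  rcases (Nat.dvd_prime Nat.prime_two).1 h6 with h7 | h7
  · exact orderOf_eq_one_iff.1 h7
  · exact absurd (h7 ▸ dvd_rfl) hx

omit c hpf in
theorem Real.sq_ne {x t : G} (h : Real x t) : x * x ≠ 1 := fun h2 => h.x1 (eq_one_of_odd h.xo h2)

omit c hpf in
theorem Real.ncomm {x t : G} (h : Real x t) : t * x ≠ x * t := by
  intro h1
  apply h.sq_ne
  have h2 := h.inv
  rw [h1, mul_inv_cancel_right] at h2
  nth_rewrite 1 [h2]
  exact inv_mul_cancel x

/-- `|C(x)|` is odd -/
theorem real_odd {x t : G} (h : Real x t) : ¬ 2 ∣ Nat.card (centralizer ({x} : Set G)) := by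
  intro h2
  obtain ⟨⟨u, hux⟩, hu⟩ := exists_prime_orderOf_dvd_card' 2 h2
  rw [orderOf_mk] at hu
  have hu1 : u ≠ 1 := by rintro rfl; simp at hu
  have hu2 : u * u = 1 := by rw [← pow_two, ← hu, pow_orderOf_eq_one]
  have hxu : u * x = x * u := mem_centralizer_singleton_iff.1 hux
  have htu : t ≠ u := by rintro rfl; exact h.ncomm hxu
  have hinv : (t * u) * x * (t * u)⁻¹ = x⁻¹ := by
    calc (t * u) * x * (t * u)⁻¹ = t * (u * x) * u⁻¹ * t⁻¹ := by group
      _ = t * (x * u) * u⁻¹ * t⁻¹ := by rw [hxu]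
      _ = t * x * t⁻¹ := by group
      _ = x⁻¹ := h.inv
  have hpow : ∀ n : ℕ, (t * u) ^ (2 * n + 1) * x * ((t * u) ^ (2 * n + 1))⁻¹ = x⁻¹ := by
    intro n
    induction n with
    | zero => simpa using hinv
    | succ n ih =>
      have e : (t * u) ^ (2 * (n + 1) + 1) = (t * u) * (t * u) * (t * u) ^ (2 * n + 1) := by
        rw [show 2 * (n + 1) + 1 = 1 + 1 + (2 * n + 1) by ring, pow_add, pow_add, pow_one]
      have h3 : (t * u) * x⁻¹ * (t * u)⁻¹ = x := by
        have := congrArg (fun y => y⁻¹) hinv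
        simp only [mul_inv_rev, inv_inv] at this
        rw [mul_inv_rev, mul_assoc (t * u)]; exact this
      calc (t * u) ^ (2 * (n + 1) + 1) * x * ((t * u) ^ (2 * (n + 1) + 1))⁻¹
          = (t * u) * ((t * u) * ((t * u) ^ (2 * n + 1) * x * ((t * u) ^ (2 * n + 1))⁻¹) * (t * u)⁻¹) * (t * u)⁻¹ := by
            rw [e, mul_inv_rev, mul_inv_rev (t * u) (t * u)]; simp only [mul_assoc]
        _ = x⁻¹ := by rw [ih, h3, hinv]
  rcases dihedral h.t2 hu2 htu with ⟨hodd, -⟩ | ⟨z, hz1, hz2, htz, huz⟩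
  · obtain ⟨k, hk⟩ : ∃ k, orderOf (t * u) = 2 * k + 1 := ⟨orderOf (t * u) / 2, by omega⟩
    have h3 := hpow k
    rw [← hk, pow_orderOf_eq_one, one_mul, inv_one, mul_one] at h3
    apply h.sq_ne
    nth_rewrite 1 [h3]
    exact inv_mul_cancel x
  · obtain ⟨T', hT'⟩ := exists_sylow_inv hz2
    have h1 := c.mem_of_comm hT' hz1 hz2 h.t2 htz
    have h2 := c.mem_of_comm hT' hz1 hz2 hu2 huz
    have h3 : x ∈ centralizer ((T' : Subgroup G) : Set G) :=
      c.cent T' u h2 hu1 hu2 (mem_centralizer_singleton_iff.2 hxu.symm)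
    exact h.ncomm (mem_centralizer_iff.1 h3 t h1)

/-- `C(x) ∩ C(t) = 1` -/
theorem real_cent {x t : G} (h : Real x t) {d : G} (hdx : d * x = x * d) (hdt : d * t = t * d) : d = 1 := by
  by_contra hd
  obtain ⟨T, hT⟩ := exists_sylow_inv h.t2
  have h1 : d ∈ centralizer ((T : Subgroup G) : Set G) :=
    c.cent T t hT h.t1 h.t2 (mem_centralizer_singleton_iff.2 hdt)
  have h2 : (T : Subgroup G) ≤ centralizer ({d} : Set G) := fun s hs =>
    mem_centralizer_singleton_iff.2 (mem_centralizer_iff.1 h1 s hs)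
  have h3 := c.le T _ (c.ctx.cent_ne hd) h2 (mem_centralizer_singleton_iff.2 hdx.symm)
  have h4 : x * t * x⁻¹ ∈ T := (mem_normalizer_iff.1 h3 t).1 hT
  have h5 : x * x ∈ T := by
    have h6 := (T : Subgroup G).mul_mem h4 ((T : Subgroup G).inv_mem hT)
    have h7 := congrArg (fun y => y⁻¹) h.inv
    simp only [mul_inv_rev, inv_inv] at h7
    have e : x * t * x⁻¹ * t⁻¹ = x * (t * (x⁻¹ * t⁻¹)) := by group
    rw [e, h7] at h6
    exact h6
  obtain ⟨k, hk⟩ := Transfer.isPGroup_mem_pow T.2 h5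
  have h6 : orderOf (x * x) ∣ orderOf x := by
    rw [← pow_two]; exact orderOf_pow_dvd 2
  have h7 : orderOf (x * x) ∣ 2 ^ k := orderOf_dvd_of_pow_eq_one hk
  have h8 : (orderOf x).Coprime (2 ^ k) := by
    apply Nat.Coprime.pow_right
    rw [Nat.coprime_comm, Nat.Prime.coprime_iff_not_dvd Nat.prime_two]
    exact h.xo
  have h9 := Nat.eq_one_of_dvd_coprimes h8 h6 h7
  exact h.sq_ne (orderOf_eq_one_iff.1 h9)

/-- `t` inverts `C(x)` -/
theorem real_inv {x t : G} (h : Real x t) {y : G} (hy : y ∈ centralizer ({x} : Set G)) : t * y * t⁻¹ = y⁻¹ := by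
  have hnorm : ∀ g ∈ centralizer ({x} : Set G), t * g * t⁻¹ ∈ centralizer ({x} : Set G) := by
    intro g hg
    rw [mem_centralizer_singleton_iff] at hg ⊢
    have hx : x = t * x⁻¹ * t⁻¹ := by
      have := congrArg (fun y => y⁻¹) h.inv
      simp only [mul_inv_rev, inv_inv] at this
      rw [mul_assoc]; exact this.symm
    have hg' : g * x⁻¹ = x⁻¹ * g := by
      rw [eq_inv_mul_iff_mul_eq, ← mul_assoc, ← hg, mul_inv_cancel_right]
    calc t * g * t⁻¹ * x = t * g * t⁻¹ * (t * x⁻¹ * t⁻¹) := by rw [← hx]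
      _ = t * (g * x⁻¹) * t⁻¹ := by group
      _ = t * (x⁻¹ * g) * t⁻¹ := by rw [hg']
      _ = (t * x⁻¹ * t⁻¹) * (t * g * t⁻¹) := by group
      _ = x * (t * g * t⁻¹) := by rw [← hx]
  let f : centralizer ({x} : Set G) → centralizer ({x} : Set G) := fun g =>
    ⟨(g : G)⁻¹ * (t * g * t⁻¹), (centralizer ({x} : Set G)).mul_mem
      ((centralizer ({x} : Set G)).inv_mem g.2) (hnorm g g.2)⟩
  have hinj : Function.Injective f := by
    intro a b hab
    have h1 : (a : G)⁻¹ * (t * a * t⁻¹) = (b : G)⁻¹ * (t * b * t⁻¹) := congrArg Subtype.val hab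
    have h2 : (b : G) * (a : G)⁻¹ = 1 := by
      refine c.real_cent h ?_ ?_
      · exact mem_centralizer_singleton_iff.1
          ((centralizer ({x} : Set G)).mul_mem b.2 ((centralizer ({x} : Set G)).inv_mem a.2))
      · have h3 : (b : G) * (a : G)⁻¹ = t * (b * (a : G)⁻¹) * t⁻¹ := by
          calc (b : G) * (a : G)⁻¹ = b * ((a : G)⁻¹ * (t * a * t⁻¹)) * (t * (a : G)⁻¹ * t⁻¹) := by group
            _ = b * ((b : G)⁻¹ * (t * b * t⁻¹)) * (t * (a : G)⁻¹ * t⁻¹) := by rw [h1]
            _ = t * (b * (a : G)⁻¹) * t⁻¹ := by group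
        nth_rewrite 1 [h3]
        group
    exact Subtype.ext (mul_inv_eq_one.1 h2).symm
  obtain ⟨g, hg⟩ := (Finite.injective_iff_surjective.1 hinj) ⟨y, hy⟩
  have h1 : (g : G)⁻¹ * (t * g * t⁻¹) = y := congrArg Subtype.val hg
  have htt : t⁻¹ = t := inv_eq_of_mul_eq_one_left h.t2
  rw [← h1]
  calc t * ((g : G)⁻¹ * (t * g * t⁻¹)) * t⁻¹ = t * (g : G)⁻¹ * t * g * (t⁻¹ * t⁻¹) := by group
    _ = t * (g : G)⁻¹ * t⁻¹ * g := by rw [← mul_inv_rev, h.t2, inv_one, mul_one, htt]
    _ = ((g : G)⁻¹ * (t * g * t⁻¹))⁻¹ := by group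

theorem real_of_mem {x t : G} (h : Real x t) {y : G} (hy : y ∈ centralizer ({x} : Set G)) (hy1 : y ≠ 1) :
    Real y t := by
  refine ⟨hy1, fun h2 => c.real_odd h ?_, h.t1, h.t2, c.real_inv h hy⟩
  have h3 := orderOf_dvd_natCard (⟨y, hy⟩ : centralizer ({x} : Set G))
  rw [orderOf_mk] at h3
  exact h2.trans h3

theorem real_comm {x t : G} (h : Real x t) {y z : G} (hy : y ∈ centralizer ({x} : Set G))
    (hz : z ∈ centralizer ({x} : Set G)) : y * z = z * y := by
  have h1 := c.real_inv h ((centralizer ({x} : Set G)).mul_mem hy hz)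
  have h2 := c.real_inv h hy
  have h3 := c.real_inv h hz
  have h4 : t * (y * z) * t⁻¹ = y⁻¹ * z⁻¹ := by
    rw [← h2, ← h3]; group
  rw [h4] at h1
  have h5 := congrArg (fun y => y⁻¹) h1
  simp only [mul_inv_rev, inv_inv] at h5
  exact h5.symm

/-- `C(y) = C(x)` -/
theorem real_eq {x t : G} (h : Real x t) {y : G} (hy : y ∈ centralizer ({x} : Set G)) (hy1 : y ≠ 1) :
    centralizer ({y} : Set G) = centralizer ({x} : Set G) := by
  apply le_antisymm
  · intro z hz
    have h1 := c.real_of_mem h hy hy1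
    rw [mem_centralizer_singleton_iff]
    refine c.real_comm h1 hz ?_
    rw [mem_centralizer_singleton_iff] at hy ⊢
    exact hy.symm
  · intro z hz
    rw [mem_centralizer_singleton_iff]
    exact c.real_comm h hz hy

theorem real_pgroup {x t : G} (h : Real x t) : IsPGroup p (centralizer ({x} : Set G)) := by
  rw [IsPGroup.iff_card]
  have hall : ∀ q : ℕ, q.Prime → q ∣ Nat.card (centralizer ({x} : Set G)) → q = p := by
    intro q hq hd
    by_contra hne
    have : Fact q.Prime := ⟨hq⟩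
    obtain ⟨⟨y, hyx⟩, hy⟩ := exists_prime_orderOf_dvd_card' q hd
    rw [orderOf_mk] at hy
    have hy1 : y ≠ 1 := by rintro rfl; simp at hy; exact hq.ne_one hy.symm
    have h1 := c.real_of_mem h hyx hy1
    have hqp : IsPGroup q (zpowers y) := IsPGroup.of_card (n := 1) (by rw [Nat.card_zpowers, hy, pow_one])
    have ht : IsPGroup 2 (zpowers t) := by
      refine IsPGroup.of_card (n := 1) ?_
      rw [Nat.card_zpowers, pow_one]
      exact orderOf_eq_prime (by rw [pow_two]; exact h.t2) h.t1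
    refine h1.ncomm (comm_of_inv c.ctx.abp (S := zpowers t) (L := zpowers y) (not_dvd_of_pgroup c.ctx.p2.symm ht)
      (not_dvd_of_pgroup hne hqp) ?_ (mem_zpowers t) (mem_zpowers y))
    rw [zpowers_le, mem_normalizer_iff_cj, cj_def, MonoidHom.map_zpowers]
    have : (MulAut.conj t).toMonoidHom y = y⁻¹ := h1.inv
    rw [this, zpowers_inv]
  exact ⟨_, Nat.eq_prime_pow_of_unique_prime_dvd Nat.card_pos.ne' (fun {q} hq hd => hall q hq hd)⟩

theorem real_sylow {x t : G} (h : Real x t) : ∃ P : Sylow p G, (P : Subgroup G) = centralizer ({x} : Set G) := by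
  obtain ⟨P, hP⟩ := (c.real_pgroup h).exists_le_sylow
  refine ⟨P, le_antisymm ?_ hP⟩
  have hx : x ∈ centralizer ({x} : Set G) := mem_centralizer_singleton_iff.2 rfl
  have hnt : Nontrivial P := ⟨⟨⟨x, hP hx⟩, 1, fun h1 => h.x1 (congrArg Subtype.val h1)⟩⟩
  have h1 : Nontrivial (center P) := P.2.center_nontrivial
  obtain ⟨⟨z, hz⟩, hz1⟩ := exists_ne (1 : center P)
  have hz1' : (z : G) ≠ 1 := fun h2 => hz1 (Subtype.ext (Subtype.ext h2))
  have hzc : ∀ y ∈ P, y * (z : G) = z * y := fun y hy =>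
    congrArg Subtype.val (mem_center_iff.1 hz ⟨y, hy⟩)
  have hzx : (z : G) ∈ centralizer ({x} : Set G) :=
    mem_centralizer_singleton_iff.2 (hzc x (hP hx)).symm
  rw [← c.real_eq h hzx hz1']
  intro y hy
  exact mem_centralizer_singleton_iff.2 (hzc y hy)

/-- existence of a real element -/
theorem exists_real (h2 : 2 ∣ Nat.card G) : ∃ x t, Real (G := G) x t := by
  obtain ⟨t, ht⟩ := exists_prime_orderOf_dvd_card' 2 h2
  have ht1 : t ≠ 1 := by rintro rfl; simp at ht
  have ht2 : t * t = 1 := by rw [← pow_two, ← ht, pow_orderOf_eq_one]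
  obtain ⟨T, hT⟩ := exists_sylow_inv ht2
  obtain ⟨g, hg⟩ : ∃ g, g ∉ normalizer ((T : Subgroup G) : Set G) := by
    by_contra hcon
    push Not at hcon
    exact (c.se T).ne (eq_top_iff.2 fun x _ => hcon x)
  set u : G := g * t * g⁻¹ with hu
  have hu1 : u ≠ 1 := fun h => ht1 (by rw [hu] at h; simpa using h)
  have hu2 : u * u = 1 := by
    calc u * u = g * (t * t) * g⁻¹ := by rw [hu]; group
      _ = 1 := by rw [ht2]; group
  have huT : u ∉ T := by
    intro h
    have h1 : u ∈ (g • T : Sylow 2 G) := ⟨t, hT, rfl⟩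
    have h3 := c.uniq h h1 hu1 hu2
    exact hg (Sylow.smul_eq_iff_mem_normalizer.1 h3.symm)
  have hodd := c.odd_mul hT ht1 ht2 huT hu2
  refine ⟨t * u, t, ?_, hodd, ht1, ht2, ?_⟩
  · intro h
    apply huT
    have h3 : u = t⁻¹ := (inv_eq_of_mul_eq_one_right h).symm
    rw [h3]
    exact (T : Subgroup G).inv_mem hT
  · rw [mul_inv_rev, inv_eq_of_mul_eq_one_left ht2, inv_eq_of_mul_eq_one_left hu2, ← mul_assoc, ht2, one_mul]

/-- all Sylow `p`-subgroups are TI with `C(y) = P` -/
theorem sylow_cent {x t : G} (h : Real x t) (P : Sylow p G) {y : G} (hy : y ∈ P) (hy1 : y ≠ 1) :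
    centralizer ({y} : Set G) = P := by
  obtain ⟨P0, hP0⟩ := c.real_sylow h
  obtain ⟨g, hg⟩ := MulAction.exists_smul_eq G P P0
  have h1 : g * y * g⁻¹ ∈ P0 := by
    rw [← hg]; exact ⟨y, hy, rfl⟩
  have h2 : g * y * g⁻¹ ≠ 1 := fun h3 => hy1 (by simpa using h3)
  have h1' : g * y * g⁻¹ ∈ centralizer ({x} : Set G) := by
    rw [← hP0]; exact h1
  have h3 := c.real_eq h h1' h2
  rw [← hP0, ← hg] at h3
  ext z
  have h4 : g * z * g⁻¹ ∈ centralizer ({g * y * g⁻¹} : Set G) ↔ z ∈ centralizer ({y} : Set G) := by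
    rw [mem_centralizer_singleton_iff, mem_centralizer_singleton_iff]
    constructor
    · intro h5
      calc z * y = g⁻¹ * (g * z * g⁻¹ * (g * y * g⁻¹)) * g := by group
        _ = g⁻¹ * (g * y * g⁻¹ * (g * z * g⁻¹)) * g := by rw [h5]
        _ = y * z := by group
    · intro h5
      calc g * z * g⁻¹ * (g * y * g⁻¹) = g * (z * y) * g⁻¹ := by group
        _ = g * (y * z) * g⁻¹ := by rw [h5]
        _ = g * y * g⁻¹ * (g * z * g⁻¹) := by group
  rw [← h4, h3]
  constructor
  · rintro ⟨w, hw, e⟩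
    have e' : g * w * g⁻¹ = g * z * g⁻¹ := e
    have : w = z := by
      calc w = g⁻¹ * (g * w * g⁻¹) * g := by group
        _ = z := by rw [e']; group
    rw [← this]; exact hw
  · intro hz
    exact ⟨z, hz, rfl⟩

/-- The final contradiction. -/
theorem contra (h2 : 2 ∣ Nat.card G) : False := by
  classical
  obtain ⟨x, t, hr⟩ := c.exists_real h2
  obtain ⟨P0, hP0⟩ := c.real_sylow hr
  obtain ⟨T, hT⟩ := exists_sylow_inv hr.t2
  have hpo : ∀ (P : Sylow p G) (y : G), y ∈ P → ¬ 2 ∣ orderOf y := by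
    intro P y hy h
    obtain ⟨k, hk⟩ := Transfer.isPGroup_mem_pow P.2 hy
    have h3 := h.trans (orderOf_dvd_of_pow_eq_one hk)
    exact c.ctx.p2 ((Nat.prime_dvd_prime_iff_eq Nat.prime_two hpf.out).1 (Nat.prime_two.dvd_of_dvd_pow h3)).symm
  have htt : t⁻¹ = t := inv_eq_of_mul_eq_one_left hr.t2
  -- elements inverted
  let Inv : Sylow p G → Prop := fun P => ∀ y ∈ P, t * y * t⁻¹ = y⁻¹
  have hP0inv : Inv P0 := fun y hy => c.real_inv hr (by rw [← hP0]; exact hy)
  let C : Subgroup G := centralizer ({t} : Set G)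
  let O : Set (Sylow p G) := MulAction.orbit C P0
  have hOinv : ∀ P ∈ O, Inv P := by
    rintro _ ⟨d, rfl⟩ y hy
    have hy' : y ∈ ((d : G) • P0 : Sylow p G) := hy
    obtain ⟨w, hw, e⟩ := hy'
    have e' : (d : G) * w * (d : G)⁻¹ = y := e
    have hdt : (d : G) * t = t * d := mem_centralizer_singleton_iff.1 d.2
    rw [← e']
    calc t * ((d : G) * w * (d : G)⁻¹) * t⁻¹ = (t * d) * w * (t * d)⁻¹ := by group
      _ = (d * t) * w * (d * t)⁻¹ := by rw [hdt]
      _ = d * (t * w * t⁻¹) * (d : G)⁻¹ := by group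
      _ = d * w⁻¹ * (d : G)⁻¹ := by rw [hP0inv w hw]
      _ = _ := by group
  -- the set of involutions
  let D : Set G := {z | z ≠ 1 ∧ z * z = 1}
  have hDfin : D.Finite := Set.toFinite _
  -- `p ∣ |D|`
  have hpD : p ∣ D.ncard := by
    let act : MulAction P0 D :=
      { smul := fun y z => ⟨(y : G) * z * (y : G)⁻¹, fun h => z.2.1 (by simpa using h), by
          have := z.2.2
          calc (y : G) * z * (y : G)⁻¹ * ((y : G) * z * (y : G)⁻¹) = y * ((z : G) * z) * (y : G)⁻¹ := by group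
            _ = 1 := by rw [this]; group⟩
        one_smul := fun z => Subtype.ext (show (1 : G) * z * (1 : G)⁻¹ = z by group)
        mul_smul := fun a b z => Subtype.ext (show ((a : G) * b) * z * ((a : G) * b)⁻¹ = a * (b * z * (b : G)⁻¹) * (a : G)⁻¹ by group) }
    have h3 := P0.2.card_modEq_card_fixedPoints D
    have h4 : Nat.card (MulAction.fixedPoints P0 D) = 0 := by
      rw [Nat.card_eq_zero]
      left
      refine ⟨fun z => ?_⟩
      obtain ⟨z, hz⟩ := z
      have hx : x ∈ P0 := by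
        rw [← SetLike.mem_coe, ← Sylow.coe_coe, SetLike.mem_coe, hP0]; exact mem_centralizer_singleton_iff.2 rfl
      have h5 := congrArg Subtype.val (hz ⟨x, hx⟩)
      have h6 : x * (z : G) * x⁻¹ = z := h5
      have h7 : (z : G) ∈ P0 := by
        rw [← SetLike.mem_coe, ← Sylow.coe_coe, SetLike.mem_coe, hP0, mem_centralizer_singleton_iff]
        rw [mul_inv_eq_iff_eq_mul] at h6
        exact h6.symm
      exact z.2.1 (eq_one_of_odd (hpo P0 z h7) z.2.2)
    rw [h4, Nat.card_coe_set_eq] at h3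
    exact (Nat.modEq_zero_iff_dvd).1 h3
  -- `B`
  let B : Set G := {z | z ∈ D ∧ z ∉ T}
  have hDB : B.ncard + p = D.ncard := by
    have h3 : D = B ∪ invS T := by
      ext z
      constructor
      · intro hz
        by_cases hzT : z ∈ T
        · exact Or.inr ⟨hzT, hz⟩
        · exact Or.inl ⟨hz, hzT⟩
      · rintro (hz | hz)
        · exact hz.1
        · exact hz.2
    rw [h3, Set.ncard_union_eq ?_ (Set.toFinite _) (Set.toFinite _), c.card T]
    rw [Set.disjoint_left]
    intro z hz hz'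
    exact hz.2 hz'.1
  have hpB : p ∣ B.ncard := by
    rw [← hDB] at hpD
    exact (Nat.dvd_add_left dvd_rfl).1 hpD
  -- properties of `u ∈ B`
  have hBreal : ∀ u ∈ B, Real (t * u) t := by
    intro u hu
    refine ⟨fun h => ?_, c.odd_mul hT hr.t1 hr.t2 hu.2 hu.1.2, hr.t1, hr.t2, ?_⟩
    · apply hu.2
      have h3 : u = t⁻¹ := (inv_eq_of_mul_eq_one_right h).symm
      rw [h3]
      exact (T : Subgroup G).inv_mem hT
    · rw [mul_inv_rev, inv_eq_of_mul_eq_one_left hr.t2, inv_eq_of_mul_eq_one_left hu.1.2, ← mul_assoc, hr.t2, one_mul]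
  -- double counting
  have hcount : B.toFinite.toFinset.card * 1 = O.toFinite.toFinset.card * (Nat.card P0 - 1) := by
    refine Finset.card_mul_eq_card_mul (fun (u : G) (P : Sylow p G) => t * u ∈ P) ?_ ?_
    · intro u hu
      rw [Set.Finite.mem_toFinset] at hu
      have hru := hBreal u hu
      obtain ⟨P, hP⟩ := c.real_sylow hru
      have htuP : t * u ∈ P := by
        rw [← SetLike.mem_coe, ← Sylow.coe_coe, SetLike.mem_coe, hP]; exact mem_centralizer_singleton_iff.2 rfl
      have hPinv : Inv P := fun y hy => c.real_inv hru (by rw [← hP]; exact hy)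
      rw [Finset.card_eq_one]
      refine ⟨P, ?_⟩
      ext P'
      simp only [Finset.mem_bipartiteAbove, Set.Finite.mem_toFinset, Finset.mem_singleton]
      constructor
      · rintro ⟨-, h4⟩
        have h5 := c.sylow_cent hr P' h4 hru.x1
        exact Sylow.ext (h5.symm.trans hP.symm)
      · rintro rfl
        refine ⟨?_, htuP⟩
        obtain ⟨g, hg⟩ := MulAction.exists_smul_eq G P0 P'
        -- `t' = g t g⁻¹` inverts `P'`
        have h6 : ∀ y ∈ P', (g * t * g⁻¹) * y * (g * t * g⁻¹)⁻¹ = y⁻¹ := by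
          intro y hy
          rw [← hg] at hy
          obtain ⟨w, hw, e⟩ := hy
          have e' : g * w * g⁻¹ = y := e
          rw [← e']
          calc (g * t * g⁻¹) * (g * w * g⁻¹) * (g * t * g⁻¹)⁻¹ = g * (t * w * t⁻¹) * g⁻¹ := by group
            _ = g * w⁻¹ * g⁻¹ := by rw [hP0inv w hw]
            _ = _ := by group
        have h7 : t * (g * t * g⁻¹) ∈ P' := by
          rw [← SetLike.mem_coe, ← Sylow.coe_coe, SetLike.mem_coe, hP, mem_centralizer_singleton_iff]
          have h8 := h6 _ htuP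
          have h9 := hPinv _ ((P' : Subgroup G).inv_mem htuP)
          rw [inv_inv, ← h8] at h9
          have h10 : t * (g * t * g⁻¹) * (t * u) * (t * (g * t * g⁻¹))⁻¹ = t * u := by
            calc t * (g * t * g⁻¹) * (t * u) * (t * (g * t * g⁻¹))⁻¹
                = t * (g * t * g⁻¹ * (t * u) * (g * t * g⁻¹)⁻¹) * t⁻¹ := by
                  rw [mul_inv_rev t]; simp only [mul_assoc]
              _ = t * u := h9
          rw [mul_inv_eq_iff_eq_mul] at h10
          exact h10
        -- square root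
        obtain ⟨k, hk⟩ : ∃ k, orderOf (t * (g * t * g⁻¹)) = 2 * k + 1 :=
          ⟨orderOf (t * (g * t * g⁻¹)) / 2, by have := hpo P' _ h7; omega⟩
        set v : G := t * (g * t * g⁻¹) with hv
        set w : G := v ^ (k + 1) with hw
        have hww : w * w = v := by
          rw [hw, ← pow_add, show k + 1 + (k + 1) = (2 * k + 1) + 1 by ring, ← hk, pow_succ, pow_orderOf_eq_one, one_mul]
        have hwP : w ∈ P' := (P' : Subgroup G).pow_mem h7 _
        have hwt : t * w = w⁻¹ * t := by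
          have := hPinv w hwP
          rw [mul_inv_eq_iff_eq_mul] at this
          exact this
        have h11 : g * t * g⁻¹ = w⁻¹ * t * w := by
          calc g * t * g⁻¹ = t * v := by rw [hv, ← mul_assoc, hr.t2, one_mul]
            _ = t * w * w := by rw [← hww, mul_assoc]
            _ = w⁻¹ * t * w := by rw [hwt]
        have h12 : w * g ∈ C := by
          rw [mem_centralizer_singleton_iff]
          calc w * g * t = w * (g * t * g⁻¹) * g := by group
            _ = w * (w⁻¹ * t * w) * g := by rw [h11]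
            _ = t * (w * g) := by group
        refine ⟨⟨w * g, h12⟩, ?_⟩
        show (w * g) • P0 = P'
        rw [mul_smul, hg]
        exact Sylow.smul_eq_iff_mem_normalizer.2 (le_normalizer hwP)
    · intro P hP
      rw [Set.Finite.mem_toFinset] at hP
      have hPinv := hOinv P hP
      have hPcard : Nat.card P = Nat.card P0 := by
        obtain ⟨d, hd⟩ := hP
        rw [← hd]
        exact Nat.card_congr (Sylow.equiv _ _).toEquiv
      have h4 : ((B.toFinite.toFinset.filter (fun u => t * u ∈ P) : Finset G) : Set G) = (fun y => t * y) '' (((P : Subgroup G) : Set G) \ {1}) := by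
        ext u
        simp only [Finset.coe_filter, Set.Finite.mem_toFinset, Set.mem_setOf_eq, Set.mem_image]
        constructor
        · rintro ⟨hu, huP⟩
          refine ⟨t * u, ⟨huP, fun h => (hBreal u hu).x1 h⟩, ?_⟩
          show t * (t * u) = u
          rw [← mul_assoc, hr.t2, one_mul]
        · rintro ⟨y, ⟨hy, hy1⟩, rfl⟩
          have hy1' : y ≠ 1 := hy1
          have hyi := hPinv y hy
          have hty2 : t * y * (t * y) = 1 := by
            have : t * y * t⁻¹ * y = 1 := by rw [hyi, inv_mul_cancel]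
            rw [htt] at this
            rw [← this]; group
          refine ⟨⟨⟨?_, hty2⟩, ?_⟩, ?_⟩
          · intro h
            have h5 : y = t⁻¹ := (inv_eq_of_mul_eq_one_right h).symm
            rw [htt] at h5
            exact hr.t1 (eq_one_of_odd (hpo P t (h5 ▸ hy)) hr.t2)
          · intro h
            have h5 : y ∈ T := by
              have := (T : Subgroup G).mul_mem ((T : Subgroup G).inv_mem hT) h
              rwa [inv_mul_cancel_left] at this
            obtain ⟨k, hk⟩ := Transfer.isPGroup_mem_pow T.2 h5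
            apply hy1'
            have h6 : (orderOf y).Coprime (2 ^ k) := by
              apply Nat.Coprime.pow_right
              rw [Nat.coprime_comm, Nat.Prime.coprime_iff_not_dvd Nat.prime_two]
              exact hpo P y hy
            exact orderOf_eq_one_iff.1 (Nat.eq_one_of_dvd_coprimes h6 dvd_rfl (orderOf_dvd_of_pow_eq_one hk))
          · show t * (t * y) ∈ P
            rw [← mul_assoc, hr.t2, one_mul]
            exact hy
      have h5 : (B.toFinite.toFinset.filter (fun u => t * u ∈ P)).card = Nat.card P - 1 := by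
        rw [← Set.ncard_coe_finset, h4, Set.ncard_image_of_injective _ (mul_right_injective t),
          Set.ncard_sdiff_singleton_of_mem (P : Subgroup G).one_mem]
        rfl
      rw [← hPcard, ← h5]
      rfl
  rw [mul_one, ← Set.ncard_eq_toFinset_card, ← Set.ncard_eq_toFinset_card] at hcount
  have hOdvd : O.ncard ∣ Nat.card C := by
    have := MulAction.index_stabilizer C P0
    rw [← this]
    exact Subgroup.index_dvd_card _
  have hpC : ¬ p ∣ Nat.card C := by
    intro h
    obtain ⟨⟨d, hdC⟩, hd⟩ := exists_prime_orderOf_dvd_card' p h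
    rw [orderOf_mk] at hd
    have hd1 : d ≠ 1 := by rintro rfl; simp at hd; exact hpf.out.ne_one hd.symm
    have hdp : IsPGroup p (zpowers d) := IsPGroup.of_card (n := 1) (by rw [Nat.card_zpowers, hd, pow_one])
    obtain ⟨P, hP⟩ := hdp.exists_le_sylow
    have h3 := c.sylow_cent hr P (hP (mem_zpowers d)) hd1
    have h4 : t ∈ P := by
      have : t ∈ centralizer ({d} : Set G) := by
        rw [mem_centralizer_singleton_iff]
        exact (mem_centralizer_singleton_iff.1 hdC).symm
      rw [h3] at this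
      exact this
    exact hr.t1 (eq_one_of_odd (hpo P t h4) hr.t2)
  rw [hcount] at hpB
  rcases hpf.out.dvd_mul.1 hpB with h3 | h3
  · exact hpC (h3.trans hOdvd)
  · have h4 : 1 < Nat.card P0 := by
      have hx : x ∈ P0 := by
        rw [← SetLike.mem_coe, ← Sylow.coe_coe, SetLike.mem_coe, hP0]; exact mem_centralizer_singleton_iff.2 rfl
      have hnt : Nontrivial P0 := ⟨⟨⟨x, hx⟩, 1, fun h1 => hr.x1 (congrArg Subtype.val h1)⟩⟩
      exact Finite.one_lt_card
    obtain ⟨k, hk⟩ := IsPGroup.iff_card.1 P0.2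
    have hk0 : k ≠ 0 := by rintro rfl; rw [hk, pow_zero] at h4; omega
    have h5 : p ∣ Nat.card P0 := by rw [hk]; exact dvd_pow_self p hk0
    have h6 : p ∣ 1 := by
      have h7 := (Nat.dvd_sub h5 h3)
      rwa [show Nat.card P0 - (Nat.card P0 - 1) = 1 by omega] at h7
    exact hpf.out.ne_one (Nat.dvd_one.1 h6)

end Fin1

end Cfsg.Agent.H70.AbPP
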