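import Cfsg.Agent.H70.AbPP4
import Cfsg.Agent.H36.NoSL2
import Cfsg.Agent.ZJ.Control
import Cfsg.Agent.ZJ.NPCThm

set_option autoImplicit false
set_option linter.all false

namespace Cfsg.Agent.H70.AbPP

open Subgroup
open Cfsg.Agent.SigF
open Cfsg.Agent.BG (pCoreOf)
open Cfsg.Agent.H23 (opc)
open scoped commutatorElement

universe u

variable {G : Type u} [Group G] [Finite G] {p : ℕ} [hpf : Fact p.Prime]

namespace Ctx

variable (c : Ctx p G)
include c

theorem exists_inv (S : Sylow 2 G) (h8 : 2 ^ 3 ≤ Nat.card (c.om S)) : ∃ t, t ∈ invS S := by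
  have h1 := c.card_om S
  have h2 : 0 < (invS S).ncard := by omega
  exact (Set.ncard_pos (Set.toFinite _)).1 h2

theorem se_num {S : Sylow 2 G} {M : Subgroup G} (h : SE S M) (h8 : 2 ^ 3 ≤ Nat.card (c.om S)) :
    (invS S).ncard = p ∧ p % 4 = 3 := by
  obtain ⟨t, ht⟩ := c.exists_inv S h8
  obtain ⟨j, hj⟩ := c.se_card S h ht
  obtain ⟨m, hm⟩ := IsPGroup.iff_card.1 (S.2.to_le (c.om_le S))
  have h1 := c.card_om S
  rw [hm, hj] at h1
  rw [hm] at h8
  obtain ⟨h3, h4⟩ := num hpf.out c.p2 h8 h1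
  rw [hj, h3, pow_one]
  exact ⟨rfl, h4⟩

theorem S_ne_bot (S : Sylow 2 G) (h8 : 2 ^ 3 ≤ Nat.card (c.om S)) : (S : Subgroup G) ≠ ⊥ := by
  obtain ⟨t, ht⟩ := c.exists_inv S h8
  intro h
  have h1 : t ∈ (S : Subgroup G) := ht.1
  rw [h, mem_bot] at h1
  exact ht.2.1 h1

theorem false_of_cent (h2 : 2 ∣ Nat.card G) (h8 : ∀ S : Sylow 2 G, 2 ^ 3 ≤ Nat.card (c.om S))
    (hC : ∀ (T : Sylow 2 G) (t : G), t ∈ T → t ≠ 1 → t * t = 1 →
      centralizer ({t} : Set G) ≤ normalizer ((T : Subgroup G) : Set G)) : False := by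
  have hse : ∀ T : Sylow 2 G, SE T (normalizer ((T : Subgroup G) : Set G)) := fun T =>
    ⟨c.norm_ne (c.S_ne_bot T (h8 T)) (c.pgroup_ne_top T.2), le_rfl, hC T⟩
  have hcard : ∀ T : Sylow 2 G, (invS T).ncard = p := fun T => (c.se_num (hse T) (h8 T)).1
  have hf : Fin1 p G := {
    ctx := c
    cent := fun T t ht ht1 ht2 n hn => c.cent_of_fix T (hcard T) (hC T t ht ht1 ht2 hn) ⟨ht, ht1, ht2⟩
      (mem_centralizer_singleton_iff.1 hn)
    se := hse
    le := fun T X hX hTX => c.se_le T (hse T) (le_trans (by norm_num) (h8 T)) hX hTX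
    card := hcard }
  exact hf.contra h2

/-- the first contradiction -/
theorem false_of_Q (h2 : 2 ∣ Nat.card G) (h8 : ∀ S : Sylow 2 G, 2 ^ 3 ≤ Nat.card (c.om S))
    (hQ : ∀ (S : Sylow 2 G) (Q : Subgroup G), IsPGroup p Q → SE S (normalizer (Q : Set G)) →
      Q ≤ centralizer ((S : Subgroup G) : Set G)) : False := by
  refine c.false_of_cent h2 h8 ?_
  intro T
  obtain ⟨Q, hQp, hN, hC, hθ⟩ := c.exists_Q T (h8 T)
  have h1 : Q ≤ centralizer ((T : Subgroup G) : Set G) := by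
    by_cases hQ1 : Q = ⊥
    · rw [hQ1]; exact bot_le
    · exact hQ T Q hQp ⟨c.norm_ne hQ1 (c.pgroup_ne_top hQp), hN, hC⟩
  intro t ht ht1 ht2
  exact c.cent_le_of_comm T h1 ht ht1 (hθ t ht ht1 ht2)

/-- the ZJ argument -/
theorem zj_contra (h2 : 2 ∣ Nat.card G) (S : Sylow 2 G) (h8 : 2 ^ 3 ≤ Nat.card (c.om S))
    (hE : ∀ x ∈ S, x * x = 1) {Q : Subgroup G} (hQp : IsPGroup p Q) (hM : SE S (normalizer (Q : Set G))) :
    Q ≤ centralizer ((S : Subgroup G) : Set G) := by
  by_contra hne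
  have := c.simple
  set M : Subgroup G := normalizer (Q : Set G) with hMdef
  have hMsol : Group.IsSolvable M := c.psol M hM.ne
  have hQM : Q ≤ M := le_normalizer
  have hSM : (S : Subgroup G) ≤ M := hM.S_le
  have hG2 : ¬ H36.QuadSL2.HasSL2Section p G := H36.NoSL2.not_hasSL2Section_of_abelian_sylow c.p2 (fun T => c.sab T)
  have hM2 : ¬ H36.QuadSL2.HasSL2Section p M := fun h => hG2 h.of_subgroup
  obtain ⟨P0, hP0⟩ := (hQp.comap_subtype (K := M)).exists_le_sylow
  have hP0' : Q.subgroupOf M ≤ P0 := hP0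
  -- the Sylow subgroup as a subgroup of `G`
  set P : Subgroup G := (P0 : Subgroup M).map M.subtype with hPdef
  have hPM : IsSyl p P M := ⟨P0, rfl⟩
  have hQP : Q ≤ P := by
    intro x hx
    exact ⟨⟨x, hQM hx⟩, hP0' hx, rfl⟩
  have hQne : Q ≠ ⊥ := by
    rintro rfl
    exact hne bot_le
  have hPne : P ≠ ⊥ := fun h => hQne (eq_bot_iff.2 (h ▸ hQP))
  set J : Subgroup G := Cfsg.centerThompsonOf p P with hJ
  have hJrel : J = ZJ.rel (fun X _ => ZJ.zje p X) P := (ZJ.rel_zje p P).symm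
  have hJM : (Cfsg.centerThompsonOf p (P0 : Subgroup M)).map M.subtype = J := by
    rw [hJrel, ← ZJ.rel_zje, ZJ.rel_map (ZJ.isNat_zje p) _ (M.subtype_injective.injOn)]
  have hJP : J ≤ P := by rw [hJrel]; exact ZJ.rel_le _ _
  have hJp : IsPGroup p J := hPM.isPGroup.to_le hJP
  have hJne : J ≠ ⊥ := by
    intro h
    have hnt : Nontrivial P := nontrivial_iff_ne_bot _ |>.2 hPne
    apply ZJ.zje_ne_bot P hPM.isPGroup hnt
    rw [hJrel, ZJ.rel, map_eq_bot_iff_of_injective _ P.subtype_injective] at h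
    exact h
  have hPJ : normalizer (P : Set G) ≤ normalizer (J : Set G) := by
    rw [hJrel]; exact ZJ.normalizer_le_normalizer_rel (ZJ.isNat_zje p) P
  -- `M = C_M(Q) N_M(J)`
  have key1 : ∀ g ∈ M, ∃ x ∈ M, x ∈ normalizer (J : Set G) ∧ x⁻¹ * g ∈ centralizer (Q : Set G) := by
    intro g hg
    obtain ⟨x, hx, hxa⟩ := ZJ.zje_control c.p2 hM2 P0 ((Q.subgroupOf M : Subgroup M) : Set M) hP0' ⟨g, hg⟩ (by
      rintro _ ⟨a, ha, rfl⟩
      apply hP0'
      show g * (a : G) * g⁻¹ ∈ Q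
      exact (mem_normalizer_iff.1 hg a).1 ha)
    refine ⟨x, x.2, ?_, ?_⟩
    · rw [← hJM, mem_normalizer_iff_cj, cj_def, Subgroup.map_map]
      have h3 : (Cfsg.centerThompsonOf p (P0 : Subgroup M)).map (MulAut.conj x).toMonoidHom =
          Cfsg.centerThompsonOf p (P0 : Subgroup M) := mem_normalizer_iff_cj.1 hx
      nth_rewrite 2 [← h3]
      rw [Subgroup.map_map]
      rfl
    · rw [mem_centralizer_iff]
      intro a ha
      have h3 := congrArg Subtype.val (hxa ⟨a, hQM ha⟩ ha)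
      have h4 : (x : G) * a * (x : G)⁻¹ = g * a * g⁻¹ := h3
      calc a * ((x : G)⁻¹ * g) = (x : G)⁻¹ * (x * a * (x : G)⁻¹) * g := by group
        _ = (x : G)⁻¹ * (g * a * g⁻¹) * g := by rw [h4]
        _ = (x : G)⁻¹ * g * a := by group
  -- `|C_M(Q)|` is odd
  set D : Subgroup G := M ⊓ centralizer (Q : Set G) with hD
  have hMC : M ≤ normalizer ((centralizer (Q : Set G) : Subgroup G) : Set G) := by
    intro m hm
    rw [mem_normalizer_iff_cj, cj_centralizer]
    congr 1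
    have := mem_normalizer_iff_cj.1 hm
    ext y
    constructor
    · rintro ⟨z, hz, rfl⟩
      exact (mem_normalizer_iff.1 hm z).1 hz
    · intro hy
      refine ⟨m⁻¹ * y * m, ?_, ?_⟩
      · have h3 := (mem_normalizer_iff.1 (M.inv_mem hm) y).1 hy
        rwa [inv_inv] at h3
      · simp [MulAut.conj_apply, mul_assoc]
  have hMD : M ≤ normalizer (D : Set G) := le_normalizer_inf le_normalizer hMC
  have key2 : ¬ 2 ∣ Nat.card D := by
    intro hd
    obtain ⟨⟨z, hzD⟩, hz⟩ := exists_prime_orderOf_dvd_card' 2 hd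
    rw [orderOf_mk] at hz
    have hz1 : z ≠ 1 := by rintro rfl; simp at hz
    have hz2 : z * z = 1 := by rw [← pow_two, ← hz, pow_orderOf_eq_one]
    obtain ⟨m, hm, hmz⟩ := hM.exists_conj hzD.1 hz2
    have h3 : m * z * m⁻¹ ∈ centralizer (Q : Set G) := (mem_normalizer_iff.1 (hMC hm) z).1 hzD.2
    have h4 : m * z * m⁻¹ ≠ 1 := fun h5 => hz1 (by simpa using h5)
    have h5 : m * z * m⁻¹ * (m * z * m⁻¹) = 1 := by
      calc m * z * m⁻¹ * (m * z * m⁻¹) = m * (z * z) * m⁻¹ := by group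
        _ = 1 := by rw [hz2]; group
    have h6 : (S : Subgroup G) ≤ centralizer (Q : Set G) := by
      intro s hs
      by_cases hs1 : s = 1
      · rw [hs1]; exact one_mem _
      obtain ⟨n, hn, hns⟩ := c.se_trans S hM hmz h4 h5 hs hs1 (hE s hs)
      rw [← hns]
      exact (mem_normalizer_iff.1 (hMC (hM.norm hn)) _).1 h3
    apply hne
    intro q hq
    rw [mem_centralizer_iff]
    intro s hs
    exact (mem_centralizer_iff.1 (h6 hs) q hq).symm
  -- `N_G(J) ≤ M`
  set L : Subgroup G := M ⊓ normalizer (J : Set G) with hL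
  have hDL : D ⊔ L = M := by
    apply le_antisymm (sup_le inf_le_left inf_le_left)
    intro g hg
    obtain ⟨x, hxM, hxJ, hxg⟩ := key1 g⁻¹ (M.inv_mem hg)
    have h3 : (x⁻¹ * g⁻¹)⁻¹ ∈ D := D.inv_mem ⟨M.mul_mem (M.inv_mem hxM) (M.inv_mem hg), hxg⟩
    have h4 : x⁻¹ ∈ L := L.inv_mem ⟨hxM, hxJ⟩
    have e : g = (x⁻¹ * g⁻¹)⁻¹ * x⁻¹ := by group
    rw [e]
    exact (D ⊔ L).mul_mem ((le_sup_left : D ≤ D ⊔ L) h3) ((le_sup_right : L ≤ D ⊔ L) h4)
  have key3 : ¬ 2 ∣ L.relIndex M := by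
    intro hd
    apply key2
    have h3 : L.relIndex M ∣ Nat.card D := by
      have h4 := card_sup_dvd ((inf_le_left : L ≤ M).trans hMD)
      rw [hDL] at h4
      have h7 : Nat.card L * L.relIndex M = Nat.card M := by
        have := relIndex_mul_relIndex ⊥ L M bot_le inf_le_left
        rwa [relIndex_bot_left, relIndex_bot_left] at this
      rw [← h7, mul_comm (Nat.card D)] at h4
      exact Nat.dvd_of_mul_dvd_mul_left Nat.card_pos h4
    exact hd.trans h3
  have key4 : normalizer (J : Set G) ≤ M := by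
    obtain ⟨R, hR⟩ := exists_isSyl 2 L
    have hRM : IsSyl 2 R M := by
      refine isSyl_of_not_dvd hR.isPGroup (hR.le.trans inf_le_left) ?_
      rw [← relIndex_mul_relIndex R L M hR.le inf_le_left]
      intro hd
      rcases Nat.prime_two.dvd_mul.1 hd with h3 | h3
      · exact hR.not_dvd_relIndex h3
      · exact key3 h3
    obtain ⟨m, hm, hmS⟩ := (isSyl_of_le_top S hSM).exists_cj hRM
    have h3 : (S : Subgroup G) ≤ cj m⁻¹ (normalizer (J : Set G)) := by
      rw [← cj_le_cj (g := m), cj_cj_inv, hmS]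
      exact hR.le.trans inf_le_right
    have h4 : cj m⁻¹ (normalizer (J : Set G)) ≠ ⊤ := by
      intro h5
      apply c.norm_ne hJne (c.pgroup_ne_top hJp)
      rw [eq_top_iff]
      intro x _
      have h6 : m⁻¹ * x * m ∈ cj m⁻¹ (normalizer (J : Set G)) := by rw [h5]; trivial
      rw [mem_cj] at h6
      rwa [show m⁻¹⁻¹ * (m⁻¹ * x * m) * m⁻¹ = x by group] at h6
    have h5 := c.se_le S hM (le_trans (by norm_num) h8) h4 h3
    intro x hx
    have h6 : m⁻¹ * x * m ∈ cj m⁻¹ (normalizer (J : Set G)) := by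
      rw [mem_cj]
      rwa [show m⁻¹⁻¹ * (m⁻¹ * x * m) * m⁻¹ = x by group]
    have h7 := M.mul_mem (M.mul_mem hm (h5 h6)) (M.inv_mem hm)
    rwa [show m * (m⁻¹ * x * m) * m⁻¹ = x by group] at h7
  -- `P` is Sylow in `G`
  have hPtop : IsSyl p P ⊤ := H23.isSyl_top_of_normalizer_le hPM (hPJ.trans key4)
  obtain ⟨P1, hP1⟩ : ∃ P1 : Sylow p G, (P1 : Subgroup G) = P := by
    obtain ⟨P1, hP1⟩ := hPM.isPGroup.exists_le_sylow
    exact ⟨P1, hPtop.eq_of_le P1.2 le_top hP1⟩
  have hPM1 : (P1 : Subgroup G) ≤ M := by rw [hP1]; exact hPM.le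
  have hctl : Transfer.ControlsFusion M (P1 : Subgroup G) := by
    intro x hx g hg
    obtain ⟨y, hy, hyx⟩ := ZJ.zje_control c.p2 hG2 P1 {x} (Set.singleton_subset_iff.2 hx) g
      (by rw [Set.image_singleton]; exact Set.singleton_subset_iff.2 hg)
    refine ⟨y, key4 ?_, hyx x rfl⟩
    rw [hJ, ← hP1]
    exact hy
  have hres := Transfer.inf_pResidual_eq_of_control hPM1 hctl
  have htop : Cfsg.pResidual p G = ⊤ := by
    rcases (Transfer.pResidual_normal p (G := G)).eq_bot_or_eq_top with h3 | h3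
    · exfalso
      have h4 := Transfer.sylow_sup_pResidual P1
      rw [h3, sup_bot_eq] at h4
      exact c.pgroup_ne_top P1.2 h4
    · exact h3
  rw [htop, inf_top_eq] at hres
  have hP1r : (P1 : Subgroup G) ≤ (Cfsg.pResidual p M).map M.subtype := by rw [hres]; exact inf_le_right
  -- `O^p(M) = M`
  have hMr : Cfsg.pResidual p M = ⊤ := by
    have h3 := Transfer.sylow_sup_pResidual P0
    have h4 : (P0 : Subgroup M) ≤ Cfsg.pResidual p M := by
      intro x hx
      have h5 : (x : G) ∈ (P1 : Subgroup G) := by rw [hP1]; exact ⟨x, hx, rfl⟩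
      obtain ⟨y, hy, e⟩ := hP1r h5
      have : y = x := Subtype.ext e
      rw [← this]; exact hy
    rwa [sup_of_le_right h4] at h3
  -- `M ≤ O(M) C(S)`
  set K : Subgroup G := opc 2 M with hK
  have hMK : M ≤ normalizer (K : Set G) := H23.le_normalizer_opc M
  have hCM : centralizer ((S : Subgroup G) : Set G) ≤ M := (centralizer_le_normalizer _).trans hM.norm
  have hMN : M ≤ K ⊔ centralizer ((S : Subgroup G) : Set G) := by
    have h3 : Cfsg.pResidual p M ≤ (K ⊔ centralizer ((S : Subgroup G) : Set G)).subgroupOf M := by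
      rw [Cfsg.pResidual, closure_le]
      intro x hx
      have hx' : (orderOf x).Coprime p := hx
      show (x : G) ∈ K ⊔ centralizer ((S : Subgroup G) : Set G)
      obtain ⟨l, hl, n, hnM, hn, e⟩ := exists_frattini S (c.sab S) hMsol hSM x.2
      obtain ⟨k, hk⟩ := c.exists_pow_cent S hn
      have h4 : ∀ j : ℕ, ∃ l' ∈ K, (l * n) ^ j = l' * n ^ j := by
        intro j
        induction j with
        | zero => exact ⟨1, K.one_mem, by simp⟩
        | succ j ih =>
          obtain ⟨l', hl', e'⟩ := ih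
          refine ⟨l' * (n ^ j * l * (n ^ j)⁻¹), K.mul_mem hl' ?_, ?_⟩
          · exact (mem_normalizer_iff.1 (hMK (M.pow_mem hnM j)) l).1 hl
          · rw [pow_succ, e', pow_succ]
            group
      obtain ⟨l', hl', e'⟩ := h4 (p ^ k)
      have h5 : (x : G) ^ p ^ k ∈ K ⊔ centralizer ((S : Subgroup G) : Set G) := by
        rw [e, e']
        exact mul_mem ((le_sup_left : K ≤ K ⊔ centralizer ((S : Subgroup G) : Set G)) hl')
          ((le_sup_right : _ ≤ K ⊔ centralizer ((S : Subgroup G) : Set G)) hk)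
      have hxo : orderOf (x : G) = orderOf x := orderOf_coe x
      have h6 : (orderOf (x : G)).Coprime (p ^ k) := by rw [hxo]; exact hx'.pow_right k
      obtain ⟨r, hr⟩ := exists_pow_eq_self_of_coprime h6.symm
      rw [← hr]
      exact pow_mem h5 r
    rw [hMr, top_le_iff, subgroupOf_eq_top] at h3
    exact h3
  apply c.norm_not_le_cent S h2
  intro n hn
  have h3 := hMN (hM.norm hn)
  rw [mem_sup_iff (hCM.trans hMK)] at h3
  obtain ⟨l, hl, d, hd, e⟩ := h3
  have hlN : l ∈ normalizer ((S : Subgroup G) : Set G) := by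
    have : l = n * d⁻¹ := by rw [← e]; group
    rw [this]
    exact mul_mem hn (inv_mem (centralizer_le_normalizer _ hd))
  have hlC : l ∈ centralizer ((S : Subgroup G) : Set G) := by
    rw [mem_centralizer_iff]
    intro s hs
    have h4 : l * s * l⁻¹ * s⁻¹ ∈ (S : Subgroup G) :=
      (S : Subgroup G).mul_mem ((mem_normalizer_iff.1 hlN s).1 hs) ((S : Subgroup G).inv_mem hs)
    have h5 : l * s * l⁻¹ * s⁻¹ ∈ K := by
      have h6 := (mem_normalizer_iff.1 (hMK (hSM hs)) l⁻¹).1 (K.inv_mem hl)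
      have h7 := K.mul_mem hl h6
      rwa [show l * (s * l⁻¹ * s⁻¹) = l * s * l⁻¹ * s⁻¹ by group] at h7
    have h6 : l * s * l⁻¹ * s⁻¹ = 1 := by
      obtain ⟨k, hk⟩ := Transfer.isPGroup_mem_pow S.2 h4
      have h7 := orderOf_dvd_natCard (⟨_, h5⟩ : K)
      rw [orderOf_mk] at h7
      have h8 : (orderOf (l * s * l⁻¹ * s⁻¹)).Coprime (2 ^ k) := by
        apply Nat.Coprime.pow_right
        rw [Nat.coprime_comm, Nat.Prime.coprime_iff_not_dvd Nat.prime_two]
        exact fun h9 => not_two_dvd_opc M (h9.trans h7)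
      exact orderOf_eq_one_iff.1 (Nat.eq_one_of_dvd_coprimes h8 dvd_rfl (orderOf_dvd_of_pow_eq_one hk))
    calc s * l = (l * s * l⁻¹ * s⁻¹)⁻¹ * (l * s) := by group
      _ = l * s := by rw [h6]; group
  rw [← e]
  exact mul_mem hlC hd

end Ctx

end Cfsg.Agent.H70.AbPP
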