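import Cfsg.Agent.H70.AbPP5
import Cfsg.Agent.H10.MinNormal

set_option autoImplicit false
set_option linter.all false

namespace Cfsg.Agent.H70.AbPP

open Subgroup
open Cfsg.Agent.SigF

universe u

variable {G : Type u} [Group G] [Finite G] {p : ℕ} [hpf : Fact p.Prime]

/-- lifting `p'`-subgroups -/
theorem exists_lift (N : Subgroup G) [N.Normal] {q : ℕ} [hq : Fact q.Prime] (hN : IsPGroup q N)
    (H : Subgroup (G ⧸ N)) (hH : ¬ p ∣ Nat.card H) :
    ∃ K : Subgroup G, ¬ p ∣ Nat.card K ∧ K.map (QuotientGroup.mk' N) = H := by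
  set K := H.comap (QuotientGroup.mk' N) with hK
  have hNK : N ≤ K := by
    intro x hx
    have h1 : QuotientGroup.mk' N x = 1 := (QuotientGroup.eq_one_iff x).2 hx
    show QuotientGroup.mk' N x ∈ H
    rw [h1]
    exact one_mem _
  have hKm : K.map (QuotientGroup.mk' N) = H := map_comap_eq_self_of_surjective (QuotientGroup.mk'_surjective N) H
  have hcard : Nat.card K = Nat.card H * Nat.card N := by
    have h1 : Nat.card (K.map (QuotientGroup.mk' N)) * Nat.card N = Nat.card K := by
      have h2 := relIndex_mul_relIndex ⊥ N K bot_le hNK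
      rw [relIndex_bot_left, relIndex_bot_left] at h2
      have h3 : N.relIndex K = Nat.card (K.map (QuotientGroup.mk' N)) := by
        have h4 := relIndex_ker K (QuotientGroup.mk' N)
        rw [QuotientGroup.ker_mk'] at h4
        exact h4
      rw [← h3, mul_comm]; exact h2
    rw [← h1, hKm]
  by_cases hqp : q = p
  · subst hqp
    have hNK' : Nat.card (N.subgroupOf K) = Nat.card N := by
      rw [← card_map_of_injective K.subtype_injective, subgroupOf_map_subtype, inf_of_le_left hNK]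
    have hidx : (N.subgroupOf K).index = Nat.card H := by
      have h1 := card_mul_index (N.subgroupOf K)
      rw [hNK', hcard, mul_comm] at h1
      exact Nat.eq_of_mul_eq_mul_right Nat.card_pos h1
    have hcop : (Nat.card (N.subgroupOf K)).Coprime (N.subgroupOf K).index := by
      rw [hNK', hidx]
      obtain ⟨n, hn⟩ := IsPGroup.iff_card.1 hN
      rw [hn]
      exact Nat.Coprime.pow_left n ((Nat.Prime.coprime_iff_not_dvd hq.out).2 hH)
    obtain ⟨L, hL⟩ := exists_right_complement'_of_coprime hcop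
    refine ⟨L.map K.subtype, ?_, ?_⟩
    · rw [card_map_of_injective K.subtype_injective]
      have h1 := hL.card_mul
      rw [hNK', hcard, mul_comm] at h1
      rw [Nat.eq_of_mul_eq_mul_right Nat.card_pos h1]
      exact hH
    · apply le_antisymm
      · rw [← hKm]
        exact map_mono (map_subtype_le L)
      · intro x hx
        rw [← hKm] at hx
        obtain ⟨g, hg, rfl⟩ := hx
        have h1 : (⟨g, hg⟩ : K) ∈ (N.subgroupOf K) ⊔ L := by rw [hL.sup_eq_top]; trivial
        rw [mem_sup_of_normal_left] at h1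
        obtain ⟨n, hn, l, hl, e⟩ := h1
        refine ⟨l, ⟨l, hl, rfl⟩, ?_⟩
        have e' : (n : G) * l = g := congrArg Subtype.val e
        rw [← e', map_mul]
        have h2 : QuotientGroup.mk' N (n : G) = 1 := (QuotientGroup.eq_one_iff _).2 hn
        rw [h2, one_mul]
  · refine ⟨K, ?_, hKm⟩
    rw [hcard]
    intro h
    rcases hpf.out.dvd_mul.1 h with h1 | h1
    · exact hH h1
    · exact not_dvd_of_pgroup hqp hN h1

omit [Finite G] in
theorem AbP.subgroup (h : AbP p G) (K : Subgroup G) : AbP p K := by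
  intro H hH
  have h1 := h (H.map K.subtype) (by rwa [card_map_of_injective K.subtype_injective])
  refine ⟨⟨fun a b => ?_⟩⟩
  have h2 := h1.is_comm.comm ⟨_, ⟨(a : K), a.2, rfl⟩⟩ ⟨_, ⟨(b : K), b.2, rfl⟩⟩
  have h3 : ((a : K) : G) * ((b : K) : G) = ((b : K) : G) * ((a : K) : G) := congrArg Subtype.val h2
  exact Subtype.ext (Subtype.ext h3)

theorem AbP.quot (h : AbP p G) (N : Subgroup G) [N.Normal] {q : ℕ} [hq : Fact q.Prime] (hN : IsPGroup q N) :
    AbP p (G ⧸ N) := by
  intro H hH
  obtain ⟨K, hK, rfl⟩ := exists_lift (p := p) N hN H hH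
  refine ⟨⟨?_⟩⟩
  rintro ⟨_, a, ha, rfl⟩ ⟨_, b, hb, rfl⟩
  apply Subtype.ext
  show QuotientGroup.mk' N a * QuotientGroup.mk' N b = QuotientGroup.mk' N b * QuotientGroup.mk' N a
  rw [← map_mul, ← map_mul, h.comm hK ha hb]

namespace Ctx

variable (c : Ctx p G) (S : Sylow 2 G)
include c

/-- few involutions: `N(S) = C(S)` -/
theorem norm_le_cent_of_lt (hI : (invS S).ncard < p) :
    normalizer ((S : Subgroup G) : Set G) ≤ centralizer ((S : Subgroup G) : Set G) := by
  intro n hn
  obtain ⟨a, b, hab, ⟨k, hk⟩, hb⟩ := Transfer.exists_pow_decomp p n (orderOf_pos n).ne'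
  rw [hab]
  refine (centralizer ((S : Subgroup G) : Set G)).mul_mem ?_ (c.pprime_cent S (pow_mem hn _)
    ((Nat.Prime.coprime_iff_not_dvd hpf.out).1 hb.symm))
  have hxN : n ^ a ∈ normalizer ((S : Subgroup G) : Set G) := pow_mem hn a
  set x : G := n ^ a with hx
  have hodd : ¬ 2 ∣ orderOf x := by
    rw [hk]
    intro h
    exact c.p2 ((Nat.prime_dvd_prime_iff_eq Nat.prime_two hpf.out).1 (Nat.prime_two.dvd_of_dvd_pow h)).symm
  refine c.cent_of_cent_om S hxN hodd ?_
  let Z : Subgroup G := zpowers x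
  letI : MulAction Z G := MulAction.compHom G ((MulAut.conj : G →* MulAut G).comp Z.subtype)
  have hsm : ∀ (z : Z) (g : G), z • g = (z : G) * g * (z : G)⁻¹ := fun _ _ => rfl
  have hZp : IsPGroup p Z := IsPGroup.of_card (n := k) (by rw [Nat.card_zpowers, hk])
  have hZN : Z ≤ normalizer ((S : Subgroup G) : Set G) := by rwa [zpowers_le]
  intro e he
  by_cases he1 : e = 1
  · rw [he1, mul_one, one_mul]
  have horb : MulAction.orbit Z e ⊆ invS S := by
    rintro _ ⟨z, rfl⟩
    show z • e ∈ _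
    rw [hsm]
    refine ⟨(mem_normalizer_iff.1 (hZN z.2) e).1 he.1, fun h1 => he1 (by simpa using h1), ?_⟩
    calc (z : G) * e * (z : G)⁻¹ * ((z : G) * e * (z : G)⁻¹) = (z : G) * (e * e) * (z : G)⁻¹ := by group
      _ = 1 := by rw [he.2]; group
  obtain ⟨i, hi⟩ := hZp.card_orbit e
  rw [Nat.card_coe_set_eq] at hi
  have h1 := Set.ncard_le_ncard horb (Set.toFinite _)
  rw [hi] at h1
  have hi0 : i = 0 := by
    by_contra hne
    have h2 : p ^ 1 ≤ p ^ i := Nat.pow_le_pow_right hpf.out.pos (by omega)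
    rw [pow_one] at h2
    omega
  rw [hi0, pow_zero, Set.ncard_eq_one] at hi
  obtain ⟨y, hy⟩ := hi
  have h2 : e ∈ ({y} : Set G) := hy ▸ MulAction.mem_orbit_self e
  have h3 : (⟨x, mem_zpowers x⟩ : Z) • e ∈ ({y} : Set G) := hy ▸ MulAction.mem_orbit e _
  rw [hsm] at h3
  have h4 : x * e * x⁻¹ = e := by
    rw [Set.mem_singleton_iff] at h2 h3
    rw [h2]
    rw [h2] at h3
    exact h3
  rw [mul_inv_eq_iff_eq_mul] at h4
  exact h4

theorem rank_three (h2 : 2 ∣ Nat.card G) (hp : 5 ≤ p) : 2 ^ 3 ≤ Nat.card (c.om S) := by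
  by_contra hcon
  obtain ⟨m, hm⟩ := IsPGroup.iff_card.1 (S.2.to_le (c.om_le S))
  have h1 := c.card_om S
  have h3 : m ≤ 2 := by
    by_contra h4
    apply hcon
    rw [hm]
    exact Nat.pow_le_pow_right (by norm_num) (by omega)
  have h4 : Nat.card (c.om S) ≤ 2 ^ 2 := by
    rw [hm]; exact Nat.pow_le_pow_right (by norm_num) h3
  exact c.norm_not_le_cent S h2 (c.norm_le_cent_of_lt S (by omega))

end Ctx

end Cfsg.Agent.H70.AbPP
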