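import Cfsg.Agent.H70.AbPP6

set_option autoImplicit false
set_option linter.all false

/-! # Cyclic Sylow `p`-subgroups and abelian `p'`-subgroups -/

namespace Cfsg.Agent.H70.CycP

open Subgroup
open Cfsg.Agent.SigF
open Cfsg.Agent.H23 (opc)
open Cfsg.Agent.H70.AbPP

universe u

section Cyc

variable {G : Type u} [Group G] {p : ℕ}

theorem conj_pow_act {x h : G} {m : ℤ} (hm : h * x * h⁻¹ = x ^ m) (j : ℕ) :
    h ^ j * x * (h ^ j)⁻¹ = x ^ (m ^ j) := by
  induction j with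
  | zero => simp
  | succ j ih =>
    have e : h ^ (j + 1) * x * (h ^ (j + 1))⁻¹ = h * (h ^ j * x * (h ^ j)⁻¹) * h⁻¹ := by
      rw [pow_succ' h j]
      simp only [mul_inv_rev, mul_assoc]
    rw [e, ih]
    have e2 : ∀ k : ℤ, h * x ^ k * h⁻¹ = (h * x * h⁻¹) ^ k := by
      intro k
      have := map_zpow (MulAut.conj h) x k
      simpa [MulAut.conj_apply] using this
    rw [e2, hm, ← zpow_mul, pow_succ']

theorem comm_of_conj_eq {x h : G} (e : h * x * h⁻¹ = x) : h * x = x * h := by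
  rw [mul_inv_eq_iff_eq_mul] at e
  exact e

/-- a `p'`-element acting on a cyclic `p`-group as `x ↦ x^m`, `m ≡ 1 (p)`, acts trivially -/
theorem cyc_cent [hpf : Fact p.Prime] {x h : G} {m : ℤ} {n : ℕ} (hx : orderOf x = p ^ n)
    (hm : h * x * h⁻¹ = x ^ m) (hh : ¬ p ∣ orderOf h) (h1 : (p : ℤ) ∣ m - 1) : h * x = x * h := by
  have h2 := conj_pow_act hm (p ^ n)
  have h3 : ((p : ℤ) ^ (n + 1)) ∣ m ^ p ^ n - 1 := by
    have h4 := dvd_sub_pow_of_dvd_sub (R := ℤ) (p := p) (a := m) (b := 1) (by exact_mod_cast h1) n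
    rw [one_pow] at h4
    exact h4
  have h4 : x ^ (m ^ p ^ n) = x := by
    have h5 : (orderOf x : ℤ) ∣ m ^ p ^ n - 1 := by
      rw [hx]
      push_cast
      exact (pow_dvd_pow _ (Nat.le_succ n)).trans h3
    have h6 := orderOf_dvd_iff_zpow_eq_one.1 h5
    rw [zpow_sub_one, mul_inv_eq_one] at h6
    exact h6
  rw [h4] at h2
  have h5 : Commute (h ^ p ^ n) x := comm_of_conj_eq h2
  have h6 : (orderOf h).Coprime (p ^ n) :=
    (Nat.coprime_comm.1 ((Nat.Prime.coprime_iff_not_dvd hpf.out).2 hh)).pow_right n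
  obtain ⟨r, hr⟩ := exists_pow_eq_self_of_coprime h6.symm
  have h7 := h5.pow_left r
  rw [hr] at h7
  exact h7

/-- fixed point version -/
theorem cyc_cent' [hpf : Fact p.Prime] {x h : G} {m k : ℤ} {n : ℕ} (hx : orderOf x = p ^ n)
    (hm : h * x * h⁻¹ = x ^ m) (hh : ¬ p ∣ orderOf h) (hk : h * x ^ k = x ^ k * h) (hk1 : x ^ k ≠ 1) :
    h * x = x * h := by
  apply cyc_cent hx hm hh
  by_contra hcon
  apply hk1
  have e2 : h * x ^ k * h⁻¹ = (h * x * h⁻¹) ^ k := by
    have := map_zpow (MulAut.conj h) x k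
    simpa [MulAut.conj_apply] using this
  rw [hm, hk, mul_inv_cancel_right, ← zpow_mul] at e2
  have h3 : x ^ (k * (m - 1)) = 1 := by
    have e3 : k * (m - 1) = m * k - k := by ring
    rw [e3, zpow_sub, ← e2, mul_inv_cancel]
  rw [← orderOf_dvd_iff_zpow_eq_one, hx] at h3
  rw [← orderOf_dvd_iff_zpow_eq_one, hx]
  push_cast at h3 ⊢
  have hcop : IsCoprime ((p : ℤ) ^ n) (m - 1) := by
    apply IsCoprime.pow_left
    exact (Int.prime_iff_natAbs_prime.2 (by simpa using hpf.out)).coprime_iff_not_dvd.2 hcon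
  exact hcop.dvd_of_dvd_mul_right h3

/-- square trivial: identity or inversion -/
theorem cyc_sq [hpf : Fact p.Prime] (hp2 : p ≠ 2) {x h : G} {m : ℤ} {n : ℕ} (hx : orderOf x = p ^ n)
    (hm : h * x * h⁻¹ = x ^ m) (h2 : (h * h) * x = x * (h * h)) :
    h * x * h⁻¹ = x ∨ h * x * h⁻¹ = x⁻¹ := by
  have h3 := conj_pow_act hm 2
  rw [pow_two, pow_two, h2, mul_inv_cancel_right] at h3
  have h4 : ((p : ℤ) ^ n) ∣ (m - 1) * (m + 1) := by
    have h5 : x ^ (m * m - 1) = 1 := by
      rw [zpow_sub_one, ← h3, mul_inv_cancel]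
    rw [← orderOf_dvd_iff_zpow_eq_one, hx] at h5
    push_cast at h5
    rwa [show (m - 1) * (m + 1) = m * m - 1 by ring]
  have hpp : Prime (p : ℤ) := Int.prime_iff_natAbs_prime.2 (by simpa using hpf.out)
  by_cases h5 : (p : ℤ) ∣ m - 1
  · have h6 : ¬ (p : ℤ) ∣ m + 1 := by
      intro h6
      have h7 : (p : ℤ) ∣ 2 := by
        have := dvd_sub h6 h5
        rwa [show m + 1 - (m - 1) = 2 by ring] at this
      have h8 : p ∣ 2 := by exact_mod_cast h7
      exact hp2 ((Nat.prime_dvd_prime_iff_eq hpf.out Nat.prime_two).1 h8)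
    left
    have hcop : IsCoprime ((p : ℤ) ^ n) (m + 1) := (hpp.coprime_iff_not_dvd.2 h6).pow_left
    have h7 := hcop.dvd_of_dvd_mul_right h4
    have h8 : x ^ (m - 1) = 1 := by
      rw [← orderOf_dvd_iff_zpow_eq_one, hx]
      push_cast
      exact h7
    rw [zpow_sub_one, mul_inv_eq_one] at h8
    rw [hm, h8]
  · right
    have hcop : IsCoprime ((p : ℤ) ^ n) (m - 1) := (hpp.coprime_iff_not_dvd.2 h5).pow_left
    have h7 := hcop.dvd_of_dvd_mul_left h4
    have h8 : x ^ (m + 1) = 1 := by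
      rw [← orderOf_dvd_iff_zpow_eq_one, hx]
      push_cast
      exact h7
    rw [zpow_add_one] at h8
    rw [hm]
    exact eq_inv_of_mul_eq_one_left h8

/-- `p = 3`: a `3'`-element acts as identity or inversion -/
theorem cyc_three {x h : G} {m : ℤ} {n : ℕ} (hx : orderOf x = 3 ^ n)
    (hm : h * x * h⁻¹ = x ^ m) (hh : ¬ 3 ∣ orderOf h) : h * x * h⁻¹ = x ∨ h * x * h⁻¹ = x⁻¹ := by
  have : Fact (Nat.Prime 3) := ⟨Nat.prime_three⟩
  have hcase : m % 3 = 0 ∨ m % 3 = 1 ∨ m % 3 = 2 := by omega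
  rcases hcase with h0 | h0 | h0
  · -- impossible unless `x = 1`
    rcases Nat.eq_zero_or_pos n with hn | hn
    · rw [hn, pow_zero, orderOf_eq_one_iff] at hx
      left
      rw [hx]; group
    · exfalso
      obtain ⟨m', hm'⟩ : ∃ m', m = 3 * m' := ⟨m / 3, by omega⟩
      obtain ⟨n', rfl⟩ : ∃ n', n = n' + 1 := ⟨n - 1, by omega⟩
      have h2 : (h * x * h⁻¹) ^ (3 ^ n') = 1 := by
        rw [hm, hm', ← zpow_natCast, ← zpow_mul, mul_assoc, mul_comm m', ← mul_assoc, zpow_mul]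
        have : (3 : ℤ) * ((3 ^ n' : ℕ) : ℤ) = ((3 ^ (n' + 1) : ℕ) : ℤ) := by push_cast; ring
        rw [this, zpow_natCast, ← hx, pow_orderOf_eq_one, one_zpow]
      have h3 : x ^ (3 ^ n') = 1 := by
        rw [conj_pow] at h2
        rw [mul_inv_eq_one] at h2
        exact mul_eq_left.1 h2
      have h4 := orderOf_dvd_of_pow_eq_one h3
      rw [hx] at h4
      have h5 := (Nat.pow_dvd_pow_iff_le_right (by norm_num : 1 < 3)).1 h4
      omega
  · left
    have := cyc_cent (p := 3) hx hm hh (by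
      have : ((3 : ℕ) : ℤ) = 3 := rfl
      rw [this]; omega)
    rw [this, mul_inv_cancel_right]
  · apply cyc_sq (p := 3) (by norm_num) hx hm
    have h3 := conj_pow_act hm 2
    rw [pow_two] at h3
    apply cyc_cent (p := 3) hx h3
    · intro h4
      apply hh
      have h5 : orderOf (h * h) ∣ orderOf h := by
        rw [← pow_two]; exact orderOf_pow_dvd 2
      exact h4.trans h5
    · have : ((3 : ℕ) : ℤ) = 3 := rfl
      rw [this, pow_two]
      obtain ⟨k, hk⟩ : ∃ k, m = 3 * k + 2 := ⟨m / 3, by omega⟩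
      exact ⟨3 * k * k + 4 * k + 1, by rw [hk]; ring⟩

end Cyc

variable {G : Type u} [Group G] [Finite G] {p : ℕ} [hpf : Fact p.Prime]

/-- Frattini: `X = O_{p'}(X) N_X(P)`. -/
theorem exists_frattini (P : Sylow p G) (hab : IsMulCommutative (P : Subgroup G)) {X : Subgroup G}
    (hX : Group.IsSolvable X) (hPX : (P : Subgroup G) ≤ X) {x : G} (hx : x ∈ X) :
    ∃ l ∈ opc p X, ∃ n ∈ X, n ∈ normalizer ((P : Subgroup G) : Set G) ∧ x = l * n := by
  let T : Sylow p X := P.subtype hPX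
  have hT : (T : Subgroup X) = (P : Subgroup G).subgroupOf X := rfl
  have hTab : Group.nilpotencyClass ↥(T : Subgroup X) ≤ 1 := by
    have h1 : ∀ a b : ↥(T : Subgroup X), a * b = b * a := by
      intro a b
      have h2 := congrArg Subtype.val (hab.is_comm.comm ⟨((a : X) : G), a.2⟩ ⟨((b : X) : G), b.2⟩)
      exact Subtype.ext (Subtype.ext h2)
    have hn : Group.IsNilpotent ↥(T : Subgroup X) := T.2.isNilpotent
    let inst : CommGroup ↥(T : Subgroup X) := { (inferInstance : Group ↥(T : Subgroup X)) with mul_comm := h1 }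
    exact CommGroup.nilpotencyClass_le_one
  have hpl := S0635.aux 1 X (ZJ.isPSolvable_of_isSolvable p hX) T hTab
  have h3 := H25.plen_one_frattini hpl T
  have h4 : (⟨x, hx⟩ : X) ∈ Cfsg.pPrimeCore p X ⊔ normalizer ((T : Subgroup X) : Set X) := by
    rw [h3]; trivial
  rw [mem_sup_of_normal_left] at h4
  obtain ⟨l, hl, n, hn, e⟩ := h4
  refine ⟨l, ⟨l, hl, rfl⟩, n, n.2, ?_, (congrArg Subtype.val e).symm⟩
  rw [mem_normalizer_iff] at hn ⊢
  intro y
  constructor
  · intro hy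
    have := (hn ⟨y, hPX hy⟩).1 hy
    exact this
  · intro hy
    have hyX : y ∈ X := by
      have := X.mul_mem (X.mul_mem (X.inv_mem n.2) (hPX hy)) n.2
      rwa [show (n : G)⁻¹ * (n * y * (n : G)⁻¹) * n = y by group] at this
    exact (hn ⟨y, hyX⟩).2 hy

/-- a generator of a cyclic Sylow subgroup -/
theorem exists_gen (P : Sylow p G) (hcyc : IsCyclic P) : ∃ x : G, zpowers x = (P : Subgroup G) ∧ ∃ n, orderOf x = p ^ n := by
  obtain ⟨g, hg⟩ := hcyc.exists_zpow_surjective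
  have h1 : zpowers (g : G) = (P : Subgroup G) := by
    apply le_antisymm
    · rw [zpowers_le]; exact g.2
    · intro y hy
      obtain ⟨k, hk⟩ := hg ⟨y, hy⟩
      exact ⟨k, congrArg Subtype.val hk⟩
  refine ⟨g, h1, ?_⟩
  obtain ⟨n, hn⟩ := IsPGroup.iff_card.1 P.2
  refine ⟨n, ?_⟩
  rw [← Nat.card_zpowers, h1]
  exact hn

omit [Finite G] hpf in
theorem comm_of_cyc (P : Sylow p G) (hcyc : IsCyclic P) : IsMulCommutative (P : Subgroup G) := by
  have := hcyc.isMulCommutative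
  exact this

/-- a `p'`-element normalizing the cyclic group `P` and fixing `x ∈ P^#` centralizes `P` -/
theorem cent_of_fix (P : Sylow p G) (hcyc : IsCyclic P) {h y : G} (hh : ¬ p ∣ orderOf h)
    (hN : h ∈ normalizer ((P : Subgroup G) : Set G)) (hy : y ∈ P) (hy1 : y ≠ 1) (hc : h * y = y * h) :
    h ∈ centralizer ((P : Subgroup G) : Set G) := by
  obtain ⟨x, hx, n, hn⟩ := exists_gen P hcyc
  have hxP : x ∈ (P : Subgroup G) := by rw [← hx]; exact mem_zpowers x
  have h1 : h * x * h⁻¹ ∈ (P : Subgroup G) := (mem_normalizer_iff.1 hN x).1 hxP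
  rw [← hx] at h1
  obtain ⟨m, hm⟩ := h1
  have hm' : h * x * h⁻¹ = x ^ m := hm.symm
  have h2 : y ∈ zpowers x := by rw [hx]; exact hy
  obtain ⟨k, hk⟩ := h2
  have hk' : x ^ k = y := hk
  subst hk'
  have h3 := cyc_cent' hn hm' hh hc hy1
  rw [mem_centralizer_iff, ← hx]
  rintro _ ⟨j, rfl⟩
  exact ((show Commute h x from h3).zpow_right j).symm

/-- an element of `N(P) \ C(P)`, `p'`-element, forces `X ≤ N(P)` -/
theorem le_norm (hab : AbP p G) (P : Sylow p G) (hcyc : IsCyclic P) {X : Subgroup G} (hX : Group.IsSolvable X)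
    (hPX : (P : Subgroup G) ≤ X) {h : G} (hhX : h ∈ X) (hh : ¬ p ∣ orderOf h)
    (hN : h ∈ normalizer ((P : Subgroup G) : Set G)) (hC : h ∉ centralizer ((P : Subgroup G) : Set G)) :
    X ≤ normalizer ((P : Subgroup G) : Set G) := by
  have hPc := comm_of_cyc P hcyc
  obtain ⟨x, hx, n, hn⟩ := exists_gen P hcyc
  have hxP : x ∈ (P : Subgroup G) := by rw [← hx]; exact mem_zpowers x
  have h1 : h * x * h⁻¹ ∈ (P : Subgroup G) := (mem_normalizer_iff.1 hN x).1 hxP
  rw [← hx] at h1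
  obtain ⟨m, hm⟩ := h1
  have hm' : h * x * h⁻¹ = x ^ m := hm.symm
  -- `h` centralises `K = O_{p'}(X)`
  set K : Subgroup G := opc p X with hK
  have hXK : X ≤ normalizer (K : Set G) := H23.le_normalizer_opc X
  have hKp : ¬ p ∣ Nat.card K := by
    intro h2
    have h3 := H23.card_opc_coprime (p := p) X
    rw [Nat.coprime_comm, Nat.Prime.coprime_iff_not_dvd hpf.out] at h3
    exact h3 h2
  have hhp : ¬ p ∣ Nat.card (zpowers h) := by rwa [Nat.card_zpowers]
  have hKh : ¬ p ∣ Nat.card ↥(K ⊔ zpowers h) := by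
    apply not_dvd_sup hKp hhp
    rw [zpowers_le]
    exact hXK hhX
  have hcomm : ∀ k ∈ K, h * k = k * h := fun k hk =>
    hab.comm hKh ((le_sup_right : zpowers h ≤ _) (mem_zpowers h)) ((le_sup_left : K ≤ _) hk)
  -- `x⁻¹ (h x h⁻¹) = x ^ (m-1)` centralises `K`
  have h2 : ∀ k ∈ K, x ^ (m - 1) * k = k * x ^ (m - 1) := by
    intro k hk
    have hxk : x * k * x⁻¹ ∈ K := (mem_normalizer_iff.1 (hXK (hPX hxP)) k).1 hk
    have h3 := hcomm _ hxk
    have h4 := hcomm _ hk
    have e1 : h * (x * k * x⁻¹) * h⁻¹ = x * k * x⁻¹ := by rw [h3, mul_inv_cancel_right]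
    have e2 : h * (x * k * x⁻¹) * h⁻¹ = (h * x * h⁻¹) * (h * k * h⁻¹) * (h * x * h⁻¹)⁻¹ := by group
    have e3 : h * k * h⁻¹ = k := by rw [h4, mul_inv_cancel_right]
    rw [e1, e3, hm'] at e2
    have e4 : x ^ (m - 1) = x⁻¹ * x ^ m := by
      rw [← zpow_neg_one, ← zpow_add]; congr 1; ring
    rw [e4]
    calc x⁻¹ * x ^ m * k = x⁻¹ * (x ^ m * k * (x ^ m)⁻¹) * x ^ m := by group
      _ = x⁻¹ * (x * k * x⁻¹) * x ^ m := by rw [← e2]
      _ = k * (x⁻¹ * x ^ m) := by group
  -- `m - 1` is prime to `p`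
  have h3 : ¬ (p : ℤ) ∣ m - 1 := by
    intro h3
    apply hC
    have h4 := cyc_cent hn hm' hh h3
    rw [mem_centralizer_iff, ← hx]
    rintro _ ⟨j, rfl⟩
    exact ((show Commute h x from h4).zpow_right j).symm
  have hpp : Prime (p : ℤ) := Int.prime_iff_natAbs_prime.2 (by simpa using hpf.out)
  have h4 : IsCoprime ((p : ℤ) ^ n) (m - 1) := (hpp.coprime_iff_not_dvd.2 h3).pow_left
  have h5 : ∀ k ∈ K, x * k = k * x := by
    intro k hk
    obtain ⟨a, b, e⟩ := h4
    have h6 : x = (x ^ (m - 1)) ^ b := by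
      rw [← zpow_mul]
      have h7 : (m - 1) * b = 1 - a * (p : ℤ) ^ n := by linear_combination e
      rw [h7, zpow_sub, zpow_one, mul_comm a, zpow_mul]
      have h8 : x ^ ((p : ℤ) ^ n) = 1 := by
        have := pow_orderOf_eq_one x
        rw [hn] at this
        rw [← zpow_natCast] at this
        push_cast at this
        exact this
      rw [h8, one_zpow, inv_one, mul_one]
    have h9 : Commute (x ^ (m - 1)) k := h2 k hk
    have h10 := h9.zpow_left b
    rw [← h6] at h10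
    exact h10
  have h6 : K ≤ normalizer ((P : Subgroup G) : Set G) := by
    refine le_trans ?_ (centralizer_le_normalizer _)
    intro k hk
    rw [mem_centralizer_iff, ← hx]
    rintro _ ⟨j, rfl⟩
    exact ((show Commute x k from h5 k hk).zpow_left j)
  intro g hg
  obtain ⟨l, hl, n', -, hn', e⟩ := exists_frattini P hPc hX hPX hg
  rw [e]
  exact mul_mem (h6 hl) hn'

end Cfsg.Agent.H70.CycP
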