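import Cfsg.Agent.H70.CycP

set_option autoImplicit false
set_option linter.all false

/-! # Cyclic Sylow `p`-subgroups and abelian `p'`-subgroups: the minimal simple case -/

namespace Cfsg.Agent.H70.CycP

open Subgroup
open Cfsg.Agent.SigF
open Cfsg.Agent.H23 (opc)
open Cfsg.Agent.H70.AbPP

universe u

variable {G : Type u} [Group G] [Finite G] {p : ℕ} [hpf : Fact p.Prime]

structure Cx (p : ℕ) (G : Type u) [Group G] : Prop where
  ctx : Ctx p G
  cyc : ∀ P : Sylow p G, IsCyclic P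
  even : 2 ∣ Nat.card G

theorem eq_one_of_pgroup {x : G} {k : ℕ} (hk : x ^ p ^ k = 1) (hp : ¬ p ∣ orderOf x) : x = 1 := by
  have h1 : (orderOf x).Coprime (p ^ k) :=
    (Nat.coprime_comm.1 ((Nat.Prime.coprime_iff_not_dvd hpf.out).2 hp)).pow_right k
  exact orderOf_eq_one_iff.1 (Nat.eq_one_of_dvd_coprimes h1 dvd_rfl (orderOf_dvd_of_pow_eq_one hk))

/-- a complement of `P` in `N(P)` -/
theorem exists_compl (P : Sylow p G) : ∃ H : Subgroup G, H ≤ normalizer ((P : Subgroup G) : Set G) ∧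
    ¬ p ∣ Nat.card H ∧ ∀ g ∈ normalizer ((P : Subgroup G) : Set G), ∃ x ∈ P, ∃ h ∈ H, g = x * h := by
  set N := normalizer ((P : Subgroup G) : Set G) with hN
  have hPN : (P : Subgroup G) ≤ N := le_normalizer
  let T : Sylow p N := P.subtype hPN
  have hT : (T : Subgroup N) = (P : Subgroup G).subgroupOf N := rfl
  have hTn : (T : Subgroup N).Normal := by rw [hT]; exact normal_in_normalizer
  have hcop : (Nat.card (T : Subgroup N)).Coprime (T : Subgroup N).index := T.card_coprime_index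
  obtain ⟨L, hL⟩ := exists_right_complement'_of_coprime hcop
  refine ⟨L.map N.subtype, map_subtype_le L, ?_, ?_⟩
  · rw [card_map_of_injective N.subtype_injective]
    intro h
    have h1 := hL.symm.index_eq_card
    have h2 : ¬ p ∣ (T : Subgroup N).index := T.not_dvd_index
    rw [h1] at h2
    exact h2 h
  · intro g hg
    have h1 : (⟨g, hg⟩ : N) ∈ (T : Subgroup N) ⊔ L := by rw [hL.sup_eq_top]; trivial
    rw [mem_sup_of_normal_left] at h1
    obtain ⟨n, hn, l, hl, e⟩ := h1
    exact ⟨n, hn, l, ⟨l, hl, rfl⟩, (congrArg Subtype.val e).symm⟩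

namespace Cx

variable (c : Cx p G) (P : Sylow p G)
include c

theorem pcomm {x y : G} (hx : x ∈ P) (hy : y ∈ P) : x * y = y * x :=
  congrArg Subtype.val ((comm_of_cyc P (c.cyc P)).is_comm.comm ⟨x, hx⟩ ⟨y, hy⟩)

theorem p_dvd : p ∣ Nat.card G := by
  by_contra h
  obtain ⟨x, y, hxy⟩ := c.ctx.exists_noncomm
  apply hxy
  refine c.ctx.abp.comm (H := ⊤) ?_ (mem_top x) (mem_top y)
  rwa [card_top]

theorem exists_h : ∃ h : G, h ∈ normalizer ((P : Subgroup G) : Set G) ∧ ¬ p ∣ orderOf h ∧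
    h ∉ centralizer ((P : Subgroup G) : Set G) := by
  by_contra hcon
  push Not at hcon
  have := c.ctx.simple
  refine Transfer.not_hasNPC_of_isSimpleGroup (p := p) c.ctx.exists_noncomm c.p_dvd
    (Transfer.hasNPC_of_normalizer_le_centralizer P ?_)
  intro g hg
  obtain ⟨a, b, hab, ⟨k, hk⟩, hb⟩ := Transfer.exists_pow_decomp p g (orderOf_pos g).ne'
  rw [hab]
  refine mul_mem ?_ (hcon _ (pow_mem hg _) ((Nat.Prime.coprime_iff_not_dvd hpf.out).1 hb.symm))
  have h1 : g ^ a ∈ P := Transfer.mem_sylow_of_mem_normalizer (k := k) (pow_mem hg _) (by rw [← hk, pow_orderOf_eq_one])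
  rw [mem_centralizer_iff]
  intro y hy
  exact c.pcomm P hy h1

theorem P_le_cent {x : G} (hx : x ∈ P) : (P : Subgroup G) ≤ centralizer ({x} : Set G) := fun y hy =>
  mem_centralizer_singleton_iff.2 (c.pcomm P hy hx)

/-- centralisers of elements of `P^#` -/
theorem cent_le {x : G} (hx : x ∈ P) (hx1 : x ≠ 1) :
    centralizer ({x} : Set G) ≤ centralizer ((P : Subgroup G) : Set G) := by
  obtain ⟨h, hN, hp, hC⟩ := c.exists_h P
  set X := normalizer ((zpowers x : Subgroup G) : Set G) with hX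
  have hXne : X ≠ ⊤ := by
    have h1 : zpowers x ≠ ⊥ := by rwa [ne_eq, zpowers_eq_bot]
    refine c.ctx.norm_ne h1 (c.ctx.pgroup_ne_top (q := p) (P.2.to_le ?_))
    rw [zpowers_le]; exact hx
  have hXsol := c.ctx.psol X hXne
  have hPX : (P : Subgroup G) ≤ X := by
    refine le_trans ?_ (centralizer_le_normalizer _)
    intro y hy
    rw [mem_centralizer_iff]
    rintro _ ⟨k, rfl⟩
    exact ((show Commute x y from c.pcomm P hx hy).zpow_left k)
  have hhX : h ∈ X := by
    obtain ⟨x0, hx0, n, hn⟩ := exists_gen P (c.cyc P)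
    have hxP : x0 ∈ (P : Subgroup G) := by rw [← hx0]; exact mem_zpowers x0
    have h1 : h * x0 * h⁻¹ ∈ (P : Subgroup G) := (mem_normalizer_iff.1 hN x0).1 hxP
    rw [← hx0] at h1
    obtain ⟨m, hm⟩ := h1
    have hm' : h * x0 * h⁻¹ = x0 ^ m := hm.symm
    have h2 : x ∈ zpowers x0 := by rw [hx0]; exact hx
    obtain ⟨j, hj⟩ := h2
    have hj' : x0 ^ j = x := hj
    have e2 : ∀ k : ℤ, h * x ^ k * h⁻¹ = x ^ (m * k) := by
      intro k
      have := map_zpow (MulAut.conj h) x0 (j * k)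
      rw [MulAut.conj_apply, MulAut.conj_apply, hm', zpow_mul, hj'] at this
      rw [this, ← zpow_mul, ← hj', ← zpow_mul]
      congr 1; ring
    rw [hX, mem_normalizer_iff_cj]
    apply eq_of_le_of_card_ge
    · rintro _ ⟨_, ⟨k, rfl⟩, rfl⟩
      show h * x ^ k * h⁻¹ ∈ zpowers x
      rw [e2]
      exact ⟨_, rfl⟩
    · rw [card_cj]
  have h1 := le_norm c.ctx.abp P (c.cyc P) hXsol hPX hhX hp hN hC
  intro g hg
  have hgx := mem_centralizer_singleton_iff.1 hg
  have hgN : g ∈ normalizer ((P : Subgroup G) : Set G) := by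
    apply h1
    apply centralizer_le_normalizer
    rw [mem_centralizer_iff]
    rintro _ ⟨k, rfl⟩
    exact ((show Commute g x from hgx).symm.zpow_left k)
  obtain ⟨a, b, hab, ⟨k, hk⟩, hb⟩ := Transfer.exists_pow_decomp p g (orderOf_pos g).ne'
  rw [hab]
  refine mul_mem ?_ ?_
  · have h1 : g ^ a ∈ P := Transfer.mem_sylow_of_mem_normalizer (k := k) (pow_mem hgN _)
      (by rw [← hk, pow_orderOf_eq_one])
    rw [mem_centralizer_iff]
    intro y hy
    exact c.pcomm P hy h1
  · exact cent_of_fix P (c.cyc P) ((Nat.Prime.coprime_iff_not_dvd hpf.out).1 hb.symm) (pow_mem hgN _) hx hx1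
      ((show Commute g x from hgx).pow_left b)

/-- `C(y) = N(P)` for a nontrivial `p'`-element `y` of `C(P)` -/
theorem cent_eq {y : G} (hy : y ∈ centralizer ((P : Subgroup G) : Set G)) (hyp : ¬ p ∣ orderOf y) (hy1 : y ≠ 1) :
    centralizer ({y} : Set G) = normalizer ((P : Subgroup G) : Set G) := by
  obtain ⟨H, hHN, hHp, hH⟩ := exists_compl P
  have hPH : ∀ z, z ∈ P → z ∈ H → z = 1 := by
    intro z hz hzH
    obtain ⟨k, hk⟩ := Transfer.isPGroup_mem_pow P.2 hz
    refine eq_one_of_pgroup hk fun h => hHp (h.trans ?_)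
    have := orderOf_dvd_natCard (⟨z, hzH⟩ : H)
    rwa [orderOf_mk] at this
  have hyN : y ∈ normalizer ((P : Subgroup G) : Set G) := centralizer_le_normalizer _ hy
  have hyH : y ∈ H := by
    obtain ⟨x, hx, h, hh, e⟩ := hH y hyN
    have hxy : Commute x y := mem_centralizer_iff.1 hy x hx
    have h1 : h = x⁻¹ * y := by rw [e]; group
    have h2 : h ^ orderOf y = (x ^ orderOf y)⁻¹ := by
      rw [h1, (hxy.inv_left).mul_pow, pow_orderOf_eq_one, mul_one, inv_pow]
    have h3 : x ^ orderOf y = 1 := by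
      apply hPH _ ((P : Subgroup G).pow_mem hx _)
      have h4 : (h ^ orderOf y)⁻¹ ∈ H := H.inv_mem (H.pow_mem hh _)
      rwa [h2, inv_inv] at h4
    obtain ⟨k, hk⟩ := Transfer.isPGroup_mem_pow P.2 hx
    have h5 : x = 1 := eq_one_of_pgroup hk fun h => hyp (h.trans (orderOf_dvd_of_pow_eq_one h3))
    rw [e, h5, one_mul]
    exact hh
  have hNC : normalizer ((P : Subgroup G) : Set G) ≤ centralizer ({y} : Set G) := by
    intro g hg
    obtain ⟨x, hx, h, hh, e⟩ := hH g hg
    rw [e]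
    refine mul_mem (mem_centralizer_singleton_iff.2 (mem_centralizer_iff.1 hy x hx)) ?_
    exact mem_centralizer_singleton_iff.2 (c.ctx.abp.comm hHp hh hyH)
  apply le_antisymm _ hNC
  obtain ⟨h, hN, hp, hC⟩ := c.exists_h P
  refine le_norm c.ctx.abp P (c.cyc P) (c.ctx.cent_solv hy1) (le_normalizer.trans hNC) (hNC hN) hp hN hC

/-- TI property -/
theorem ti {y n : G} (hy : y ∈ centralizer ((P : Subgroup G) : Set G)) (hyp : ¬ p ∣ orderOf y) (hy1 : y ≠ 1)
    (hn : n * y * n⁻¹ ∈ centralizer ((P : Subgroup G) : Set G)) : n ∈ normalizer ((P : Subgroup G) : Set G) := by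
  have h1 := c.cent_eq P hy hyp hy1
  have h2 := c.cent_eq P hn (by
    have : orderOf (n * y * n⁻¹) = orderOf y := by
      have := (MulAut.conj n).orderOf_eq y
      rwa [MulAut.conj_apply] at this
    rwa [this]) (fun h => hy1 (by simpa using h))
  rw [mem_normalizer_iff_cj]
  apply eq_of_le_of_card_ge
  · rintro _ ⟨z, hz, rfl⟩
    show n * z * n⁻¹ ∈ (P : Subgroup G)
    have h3 : n * z * n⁻¹ ∈ normalizer ((P : Subgroup G) : Set G) := by
      rw [← h2, mem_centralizer_singleton_iff]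
      have h4 : z * y = y * z := mem_centralizer_iff.1 hy z hz
      calc n * z * n⁻¹ * (n * y * n⁻¹) = n * (z * y) * n⁻¹ := by group
        _ = n * (y * z) * n⁻¹ := by rw [h4]
        _ = n * y * n⁻¹ * (n * z * n⁻¹) := by group
    obtain ⟨k, hk⟩ := Transfer.isPGroup_mem_pow P.2 hz
    refine Transfer.mem_sylow_of_mem_normalizer (k := k) h3 ?_
    rw [conj_pow, hk]; group
  · rw [card_cj]

/-- `p'`-elements of `N(P)` of odd order... elements with `h² = 1` act as `±1` -/
theorem inv_or_cent {h : G} (hN : h ∈ normalizer ((P : Subgroup G) : Set G))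
    (h2 : h * h ∈ centralizer ((P : Subgroup G) : Set G)) (hC : h ∉ centralizer ((P : Subgroup G) : Set G)) :
    ∀ x ∈ P, h * x * h⁻¹ = x⁻¹ := by
  obtain ⟨x0, hx0, n, hn⟩ := exists_gen P (c.cyc P)
  have hxP : x0 ∈ (P : Subgroup G) := by rw [← hx0]; exact mem_zpowers x0
  have h1 : h * x0 * h⁻¹ ∈ (P : Subgroup G) := (mem_normalizer_iff.1 hN x0).1 hxP
  rw [← hx0] at h1
  obtain ⟨m, hm⟩ := h1
  have hm' : h * x0 * h⁻¹ = x0 ^ m := hm.symm
  rcases cyc_sq c.ctx.p2 hn hm' (mem_centralizer_iff.1 h2 x0 hxP).symm with h3 | h3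
  · exfalso
    apply hC
    rw [mem_centralizer_iff, ← hx0]
    rintro _ ⟨j, rfl⟩
    exact ((show Commute h x0 from comm_of_conj_eq h3).zpow_right j).symm
  · intro x hx
    have h2 : x ∈ zpowers x0 := by rw [hx0]; exact hx
    obtain ⟨j, hj⟩ := h2
    have hj' : x0 ^ j = x := hj
    have := map_zpow (MulAut.conj h) x0 j
    rw [MulAut.conj_apply, MulAut.conj_apply, h3, hj'] at this
    rw [this, inv_zpow, hj']

/-- there is an involution centralising a Sylow `p`-subgroup -/
theorem exists_t : ∃ (P : Sylow p G) (t : G), t ∈ centralizer ((P : Subgroup G) : Set G) ∧ t ≠ 1 ∧ t * t = 1 := by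
  by_contra hcon
  push Not at hcon
  have hcent : ∀ t : G, t ≠ 1 → t * t = 1 → ¬ p ∣ Nat.card (centralizer ({t} : Set G)) := by
    intro t ht1 ht2 hd
    obtain ⟨⟨x, hxt⟩, hx⟩ := exists_prime_orderOf_dvd_card' p hd
    rw [orderOf_mk] at hx
    have hx1 : x ≠ 1 := by rintro rfl; rw [orderOf_one] at hx; exact hpf.out.ne_one hx.symm
    have h1 : IsPGroup p (zpowers x) := IsPGroup.of_card (n := 1) (by rw [Nat.card_zpowers, hx, pow_one])
    obtain ⟨P, hP⟩ := h1.exists_le_sylow
    have h2 : x ∈ P := hP (mem_zpowers x)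
    refine hcon P t (c.cent_le P h2 hx1 ?_) ht1 ht2
    rw [mem_centralizer_singleton_iff]
    exact (mem_centralizer_singleton_iff.1 hxt).symm
  have hcc : ∀ (T : Sylow 2 G) (t : G), t ∈ T → t ≠ 1 → t * t = 1 →
      centralizer ({t} : Set G) ≤ centralizer ((T : Subgroup G) : Set G) := by
    intro T t ht ht1 ht2 g hg
    rw [mem_centralizer_iff]
    intro s hs
    exact c.ctx.abp.comm (hcent t ht1 ht2) (c.ctx.S_le_cent T ht hs) hg
  have hTne : ∀ T : Sylow 2 G, (T : Subgroup G) ≠ ⊥ := by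
    intro T h
    have h1 := T.card_eq_multiplicity
    rw [h, card_bot] at h1
    have h2 : 2 ∣ 1 := by
      rw [h1]
      exact dvd_pow_self 2 (Nat.Prime.factorization_pos_of_dvd Nat.prime_two Nat.card_pos.ne' c.even).ne'
    omega
  have hse : ∀ T : Sylow 2 G, SE T (normalizer ((T : Subgroup G) : Set G)) := fun T =>
    ⟨c.ctx.norm_ne (hTne T) (c.ctx.pgroup_ne_top T.2), le_rfl, fun t ht ht1 ht2 =>
      (hcc T t ht ht1 ht2).trans (centralizer_le_normalizer _)⟩
  have hnc : ∀ T : Sylow 2 G, p ≤ (invS T).ncard := by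
    intro T
    by_contra h
    exact c.ctx.norm_not_le_cent T c.even (c.ctx.norm_le_cent_of_lt T (by omega))
  have hp3 : 3 ≤ p := by
    have := hpf.out.two_le
    have := c.ctx.p2
    omega
  have h4 : ∀ T : Sylow 2 G, 2 ^ 2 ≤ Nat.card (c.ctx.om T) := by
    intro T
    rw [c.ctx.card_om T]
    have := hnc T
    omega
  have hcard : ∀ T : Sylow 2 G, (invS T).ncard = p := by
    intro T
    obtain ⟨t, ht⟩ : ∃ t, t ∈ invS T := by
      have h2 : 0 < (invS T).ncard := by have := hnc T; omega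
      exact (Set.ncard_pos (Set.toFinite _)).1 h2
    by_cases h8 : 2 ^ 3 ≤ Nat.card (c.ctx.om T)
    · exact (c.ctx.se_num (hse T) h8).1
    · obtain ⟨m, hm⟩ := IsPGroup.iff_card.1 (T.2.to_le (c.ctx.om_le T))
      have h1 := c.ctx.card_om T
      have h2 := h4 T
      rw [hm] at h8 h2 h1
      have h5 : m < 3 := (Nat.pow_lt_pow_iff_right (by norm_num : 1 < 2)).1 (by omega)
      have h6 : 2 ≤ m := (Nat.pow_le_pow_iff_right (by norm_num : 1 < 2)).1 h2
      have h7 : m = 2 := by omega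
      rw [h7] at h1
      have := hnc T
      omega
  have hf : Fin1 p G := {
    ctx := c.ctx
    cent := hcc
    se := hse
    le := fun T X hX hTX => c.ctx.se_le T (hse T) (h4 T) hX hTX
    card := hcard }
  exact hf.contra c.even

end Cx

end Cfsg.Agent.H70.CycP
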