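import Cfsg.Agent.H70.AbPP4
import Cfsg.Agent.FT.Base

/-!
A finite group with abelian Sylow `2`-subgroups and a Hall `2'`-subgroup is solvable
(elementary modulo the odd order theorem).
-/

set_option autoImplicit false
set_option linter.all false

namespace Cfsg.Agent.H70.HallAb

open Subgroup
open Cfsg.Agent.SigF
open Cfsg.Agent.H23 (opc)
open Cfsg.Agent.H70.AbPP (invS exists_frattini not_two_dvd_opc)

universe u

/-- `2`-subgroups are abelian -/
def Ab2 (G : Type u) [Group G] : Prop :=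
  ∀ Q : Subgroup G, IsPGroup 2 Q → ∀ x ∈ Q, ∀ y ∈ Q, x * y = y * x

theorem Ab2.subgroup {G : Type u} [Group G] (h : Ab2 G) (K : Subgroup G) : Ab2 K := by
  intro Q hQ x hx y hy
  exact Subtype.ext (h (Q.map K.subtype) (hQ.map _) x ⟨x, hx, rfl⟩ y ⟨y, hy, rfl⟩)

theorem Ab2.quot {G : Type u} [Group G] [Finite G] (h : Ab2 G) (N : Subgroup G) [N.Normal] : Ab2 (G ⧸ N) := by
  intro Q hQ x hx y hy
  obtain ⟨R, hR⟩ := hQ.exists_le_sylow
  obtain ⟨P⟩ : Nonempty (Sylow 2 G) := inferInstance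
  obtain ⟨g, hg⟩ := MulAction.exists_smul_eq (G ⧸ N) (P.mapSurjective (QuotientGroup.mk'_surjective N)) R
  have key : ∀ z ∈ (R : Subgroup (G ⧸ N)), ∃ t ∈ (P : Subgroup G), z = g * QuotientGroup.mk' N t * g⁻¹ := by
    intro z hz
    rw [← hg, Sylow.coe_subgroup_smul] at hz
    obtain ⟨w, hw, rfl⟩ := hz
    obtain ⟨t, ht, rfl⟩ := hw
    exact ⟨t, ht, rfl⟩
  obtain ⟨s, hs, hsx⟩ := key x (hR hx)
  obtain ⟨t, ht, hty⟩ := key y (hR hy)
  rw [hsx, hty]
  have h5 : QuotientGroup.mk' N s * QuotientGroup.mk' N t = QuotientGroup.mk' N t * QuotientGroup.mk' N s := by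
    rw [← map_mul, h P P.2 s hs t ht, map_mul]
  calc g * QuotientGroup.mk' N s * g⁻¹ * (g * QuotientGroup.mk' N t * g⁻¹)
      = g * (QuotientGroup.mk' N s * QuotientGroup.mk' N t) * g⁻¹ := by group
    _ = g * (QuotientGroup.mk' N t * QuotientGroup.mk' N s) * g⁻¹ := by rw [h5]
    _ = _ := by group

/-- Hall `2'`-subgroup -/
def HasHall (G : Type u) [Group G] : Prop := ∃ H : Subgroup G, ¬ 2 ∣ Nat.card H ∧ ∃ k, H.index = 2 ^ k

variable {G : Type u} [Group G] [Finite G]

theorem HasHall.normal (h : HasHall G) (N : Subgroup G) [hN : N.Normal] : HasHall N := by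
  obtain ⟨H, hH, k, hk⟩ := h
  refine ⟨H.subgroupOf N, ?_, ?_⟩
  · intro hd
    apply hH
    have h1 : Nat.card (H.subgroupOf N) = Nat.card (H ⊓ N : Subgroup G) := by
      rw [← card_map_of_injective N.subtype_injective, subgroupOf_map_subtype]
    rw [h1] at hd
    exact hd.trans (card_dvd_of_le inf_le_left)
  · have h1 : (H.subgroupOf N).index ∣ H.index := by
      have h2 : H.relIndex N = H.relIndex (H ⊔ N) := Transfer.relIndex_eq_relIndex_sup H N
      show H.relIndex N ∣ H.index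
      rw [h2]
      exact relIndex_dvd_index_of_le le_sup_left
    rw [hk] at h1
    obtain ⟨i, -, hi⟩ := (Nat.dvd_prime_pow Nat.prime_two).1 h1
    exact ⟨i, hi⟩

theorem HasHall.quot (h : HasHall G) (N : Subgroup G) [hN : N.Normal] : HasHall (G ⧸ N) := by
  obtain ⟨H, hH, k, hk⟩ := h
  refine ⟨H.map (QuotientGroup.mk' N), fun hd => hH (hd.trans (card_map_dvd H _)), ?_⟩
  have h1 : (H.map (QuotientGroup.mk' N)).index ∣ H.index := index_map_dvd H (QuotientGroup.mk'_surjective N)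
  rw [hk] at h1
  obtain ⟨i, -, hi⟩ := (Nat.dvd_prime_pow Nat.prime_two).1 h1
  exact ⟨i, hi⟩

/-- two involutions: their product has odd order or they commute with an involution in `⟨tu⟩` -/
theorem dihedral2 {t u : G} (ht : t * t = 1) (hu : u * u = 1) :
    (¬ 2 ∣ orderOf (t * u)) ∨ (∃ z ∈ zpowers (t * u), z ≠ 1 ∧ z * z = 1 ∧ t * z = z * t ∧ u * z = z * u) := by
  by_cases h2 : 2 ∣ orderOf (t * u)
  · right
    have hti : t⁻¹ = t := inv_eq_of_mul_eq_one_left ht
    have hui : u⁻¹ = u := inv_eq_of_mul_eq_one_left hu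
    have hinv : t * (t * u) * t⁻¹ = (t * u)⁻¹ := by
      rw [mul_inv_rev, hti, hui, ← mul_assoc, ht, one_mul]
    have hpow : ∀ n : ℕ, t * (t * u) ^ n * t⁻¹ = ((t * u) ^ n)⁻¹ := by
      intro n
      rw [← conj_pow, hinv, inv_pow]
    obtain ⟨k, hk⟩ := h2
    have hpos := orderOf_pos (t * u)
    have hk0 : 0 < k := by omega
    have hz2 : (t * u) ^ k * (t * u) ^ k = 1 := by
      rw [← pow_add, ← two_mul, ← hk, pow_orderOf_eq_one]
    have hz1 : (t * u) ^ k ≠ 1 := by
      intro h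
      have := Nat.le_of_dvd hk0 (orderOf_dvd_of_pow_eq_one h)
      omega
    have hzi : ((t * u) ^ k)⁻¹ = (t * u) ^ k := inv_eq_of_mul_eq_one_left hz2
    have h1 : t * (t * u) ^ k = (t * u) ^ k * t := by
      have := hpow k
      rw [hzi, mul_inv_eq_iff_eq_mul] at this
      exact this
    refine ⟨(t * u) ^ k, npow_mem_zpowers _ k, hz1, hz2, h1, ?_⟩
    have h3 : (t * u) * (t * u) ^ k = (t * u) ^ k * (t * u) := (Commute.self_pow _ _).eq
    have e : u = t * (t * u) := by rw [← mul_assoc, ht, one_mul]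
    calc u * (t * u) ^ k = t * (t * u) * (t * u) ^ k := by rw [← e]
      _ = t * ((t * u) * (t * u) ^ k) := mul_assoc _ _ _
      _ = t * ((t * u) ^ k * (t * u)) := by rw [h3]
      _ = (t * (t * u) ^ k) * (t * u) := (mul_assoc _ _ _).symm
      _ = (t * u) ^ k * t * (t * u) := by rw [h1]
      _ = (t * u) ^ k * (t * (t * u)) := mul_assoc _ _ _
      _ = (t * u) ^ k * u := by rw [← e]
  · exact Or.inl h2

omit [Finite G] in
theorem eq_one_of_odd {x : G} (hx : ¬ 2 ∣ orderOf x) (h : x * x = 1) : x = 1 := by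
  have h6 : orderOf x ∣ 2 := orderOf_dvd_of_pow_eq_one (by rw [pow_two]; exact h)
  rcases (Nat.dvd_prime Nat.prime_two).1 h6 with h7 | h7
  · exact orderOf_eq_one_iff.1 h7
  · exact absurd (h7 ▸ dvd_rfl) hx

/-- odd order elements of `N(S)` centralising the involutions of `S` centralise `S` -/
theorem cent_of_cent_inv (S : Sylow 2 G) (hab : ∀ x ∈ (S : Subgroup G), ∀ y ∈ (S : Subgroup G), x * y = y * x)
    {n : G} (hn : n ∈ normalizer ((S : Subgroup G) : Set G)) (hodd : ¬ 2 ∣ orderOf n)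
    (h : ∀ e ∈ (S : Subgroup G), e * e = 1 → n * e = e * n) : n ∈ centralizer ((S : Subgroup G) : Set G) := by
  have key : ∀ k : ℕ, ∀ s ∈ (S : Subgroup G), s ^ 2 ^ k = 1 → n * s = s * n := by
    intro k
    induction k with
    | zero =>
      intro s hs h1
      rw [pow_zero, pow_one] at h1
      rw [h1, mul_one, one_mul]
    | succ k ih =>
      intro s hs h1
      have h2 : n * (s * s) = (s * s) * n := by
        refine ih (s * s) ((S : Subgroup G).mul_mem hs hs) ?_
        rw [← pow_two, ← pow_mul, ← pow_succ']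
        exact h1
      have hs' : n * s * n⁻¹ ∈ (S : Subgroup G) := (mem_normalizer_iff.1 hn s).1 hs
      set e : G := n * s * n⁻¹ * s⁻¹ with he
      have heS : e ∈ (S : Subgroup G) := (S : Subgroup G).mul_mem hs' ((S : Subgroup G).inv_mem hs)
      have he2 : e * e = 1 := by
        have hc := hab _ ((S : Subgroup G).inv_mem hs) _ hs'
        calc e * e = n * s * n⁻¹ * (s⁻¹ * (n * s * n⁻¹)) * s⁻¹ := by rw [he]; group
          _ = n * s * n⁻¹ * (n * s * n⁻¹ * s⁻¹) * s⁻¹ := by rw [hc]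
          _ = (n * (s * s)) * n⁻¹ * s⁻¹ * s⁻¹ := by group
          _ = 1 := by rw [h2]; group
      have hne : n * e = e * n := h e heS he2
      have hns : n * s = e * s * n := by rw [he]; group
      have hj : ∀ j : ℕ, n ^ j * s = e ^ j * s * n ^ j := by
        intro j
        induction j with
        | zero => simp
        | succ j ihj =>
          have hc2 : n ^ j * e = e * n ^ j := ((Commute.pow_left (show Commute n e from hne)) j).eq
          calc n ^ (j + 1) * s = n ^ j * (n * s) := by rw [pow_succ, mul_assoc]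
            _ = n ^ j * (e * s * n) := by rw [hns]
            _ = (n ^ j * e) * s * n := by group
            _ = e * (n ^ j * s) * n := by rw [hc2]; group
            _ = e * (e ^ j * s * n ^ j) * n := by rw [ihj]
            _ = (e * e ^ j) * s * (n ^ j * n) := by group
            _ = e ^ (j + 1) * s * n ^ (j + 1) := by rw [← pow_succ', ← pow_succ]
      have h3 := hj (orderOf n)
      rw [pow_orderOf_eq_one, one_mul, mul_one] at h3
      have h4 : e ^ orderOf n = 1 := by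
        have := congrArg (fun y => y * s⁻¹) h3
        simp only [mul_inv_cancel, mul_inv_cancel_right] at this
        exact this.symm
      have h5 : e = 1 := by
        have h6 : orderOf e ∣ 2 := orderOf_dvd_of_pow_eq_one (by rw [pow_two]; exact he2)
        rcases (Nat.dvd_prime Nat.prime_two).1 h6 with h7 | h7
        · exact orderOf_eq_one_iff.1 h7
        · exact absurd (h7 ▸ orderOf_dvd_of_pow_eq_one h4) hodd
      rw [hns, h5, one_mul]
  rw [mem_centralizer_iff]
  intro s hs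
  obtain ⟨k, hk⟩ := Transfer.isPGroup_mem_pow S.2 hs
  exact (key k s hs hk).symm

/-- minimal counterexample -/
structure LC (G : Type u) [Group G] (H : Subgroup G) : Prop where
  ab : Ab2 G
  simple : IsSimpleGroup G
  nsol : ¬ Group.IsSolvable G
  odd : ¬ 2 ∣ Nat.card H
  idx : ∃ k, H.index = 2 ^ k
  psol : ∀ X : Subgroup G, X ≠ ⊤ → HasHall X → Group.IsSolvable X

namespace LC

variable {H : Subgroup G} (c : LC G H) (S : Sylow 2 G)
include c

theorem sab : ∀ x ∈ (S : Subgroup G), ∀ y ∈ (S : Subgroup G), x * y = y * x := c.ab _ S.2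

theorem smc : IsMulCommutative (S : Subgroup G) :=
  ⟨⟨fun a b => Subtype.ext (c.sab S a a.2 b b.2)⟩⟩

theorem even : 2 ∣ Nat.card G := FT.even_of_not_solvable c.nsol

theorem card_S : Nat.card (S : Subgroup G) = H.index := by
  obtain ⟨k, hk⟩ := c.idx
  obtain ⟨m, hm⟩ := IsPGroup.iff_card.1 S.2
  have h1 := card_mul_index H
  have h2 := card_mul_index (S : Subgroup G)
  have h3 : (2 ^ m).Coprime (Nat.card H) := Nat.Coprime.pow_left m ((Nat.Prime.coprime_iff_not_dvd Nat.prime_two).2 c.odd)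
  have h4 : (2 ^ k).Coprime (S : Subgroup G).index :=
    Nat.Coprime.pow_left k ((Nat.Prime.coprime_iff_not_dvd Nat.prime_two).2 S.not_dvd_index)
  rw [hk] at h1 ⊢
  rw [hm] at h2 ⊢
  apply Nat.dvd_antisymm
  · refine h3.dvd_of_dvd_mul_left ?_
    rw [h1]; exact Dvd.intro _ h2
  · refine h4.dvd_of_dvd_mul_right ?_
    rw [h2]; exact Dvd.intro_left _ h1

theorem inf_S {x : G} (hx : x ∈ (S : Subgroup G)) (hx' : x ∈ H) : x = 1 := by
  obtain ⟨k, hk⟩ := Transfer.isPGroup_mem_pow S.2 hx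
  have h1 : orderOf x ∣ Nat.card H := by
    have := orderOf_dvd_natCard (⟨x, hx'⟩ : H)
    rwa [orderOf_mk] at this
  have h2 : (Nat.card H).Coprime (2 ^ k) := by
    apply Nat.Coprime.pow_right
    rw [Nat.coprime_comm]
    exact (Nat.Prime.coprime_iff_not_dvd Nat.prime_two).2 c.odd
  exact orderOf_eq_one_iff.1 (Nat.eq_one_of_dvd_coprimes h2 h1 (orderOf_dvd_of_pow_eq_one hk))

theorem compl : IsComplement' (S : Subgroup G) H := by
  apply isComplement'_of_coprime
  · rw [c.card_S S, mul_comm]; exact card_mul_index H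
  · obtain ⟨m, hm⟩ := IsPGroup.iff_card.1 S.2
    rw [hm]
    exact Nat.Coprime.pow_left m ((Nat.Prime.coprime_iff_not_dvd Nat.prime_two).2 c.odd)

theorem exists_mul (g : G) : ∃ s ∈ (S : Subgroup G), ∃ h ∈ H, g = s * h := by
  obtain ⟨⟨s, h⟩, e⟩ := (c.compl S).2 g
  exact ⟨s, s.2, h, h.2, e.symm⟩

theorem relIndex {X : Subgroup G} (hX : (S : Subgroup G) ≤ X) : H.relIndex X = H.index := by
  apply le_antisymm
  · have := relIndex_le_of_le_right (H := H) (le_top : X ≤ ⊤) (by rw [relIndex_top_right]; exact H.index_ne_zero_of_finite)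
    rwa [relIndex_top_right] at this
  · have h1 : Nat.card (H ⊓ X : Subgroup G) * H.relIndex X = Nat.card X := by
      rw [← inf_relIndex_right, ← relIndex_bot_left, relIndex_mul_relIndex _ _ _ bot_le inf_le_right,
        relIndex_bot_left]
    have h2 : Nat.card (S : Subgroup G) ∣ Nat.card X := card_dvd_of_le hX
    rw [← h1] at h2
    obtain ⟨m, hm⟩ := IsPGroup.iff_card.1 S.2
    have h3 : (Nat.card (S : Subgroup G)).Coprime (Nat.card (H ⊓ X : Subgroup G)) := by
      rw [hm]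
      refine Nat.Coprime.pow_left m ((Nat.Prime.coprime_iff_not_dvd Nat.prime_two).2 ?_)
      exact fun h => c.odd (h.trans (card_dvd_of_le inf_le_left))
    have h4 := h3.dvd_of_dvd_mul_left h2
    rw [← c.card_S S]
    exact Nat.le_of_dvd (Nat.pos_of_ne_zero (H.subgroupOf X).index_ne_zero_of_finite) h4

theorem hall {X : Subgroup G} (hX : (S : Subgroup G) ≤ X) : HasHall X := by
  refine ⟨H.subgroupOf X, ?_, ?_⟩
  · intro hd
    apply c.odd
    have h1 : Nat.card (H.subgroupOf X) = Nat.card (H ⊓ X : Subgroup G) := by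
      rw [← card_map_of_injective X.subtype_injective, subgroupOf_map_subtype]
    rw [h1] at hd
    exact hd.trans (card_dvd_of_le inf_le_left)
  · obtain ⟨k, hk⟩ := c.idx
    exact ⟨k, (c.relIndex S hX).trans hk⟩

theorem core : H.normalCore = ⊥ := by
  have := c.simple
  rcases (inferInstance : H.normalCore.Normal).eq_bot_or_eq_top with h | h
  · exact h
  · exfalso
    have h1 : H = ⊤ := eq_top_iff.2 (h ▸ H.normalCore_le)
    apply c.odd
    rw [h1, card_top]
    exact c.even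

/-- `S`-invariant odd order subgroups are trivial -/
theorem inv_bot {Y : Subgroup G} (hY : ¬ 2 ∣ Nat.card Y) (hSY : (S : Subgroup G) ≤ normalizer (Y : Set G)) :
    Y = ⊥ := by
  have hYH : Y ≤ H := by
    set X : Subgroup G := Y ⊔ (S : Subgroup G) with hX
    have hSX : (S : Subgroup G) ≤ X := le_sup_right
    have hYX : Y ≤ X := le_sup_left
    have hXY : X ≤ normalizer (Y : Set G) := sup_le le_normalizer hSY
    have h1 : Nat.card (H ⊓ X : Subgroup G) * Nat.card (S : Subgroup G) = Nat.card X := by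
      rw [c.card_S S, ← c.relIndex S hSX, ← inf_relIndex_right, ← relIndex_bot_left,
        relIndex_mul_relIndex _ _ _ bot_le inf_le_right, relIndex_bot_left]
    have h2 : Nat.card X ∣ Nat.card Y * Nat.card (S : Subgroup G) := card_sup_dvd hSY
    rw [← h1] at h2
    have h3 : Nat.card (H ⊓ X : Subgroup G) ∣ Nat.card Y := Nat.dvd_of_mul_dvd_mul_right Nat.card_pos h2
    set Z : Subgroup G := Y ⊔ (H ⊓ X) with hZ
    have hZX : Z ≤ X := sup_le hYX inf_le_right
    have h4 : Nat.card Z ∣ Nat.card Y * Nat.card (H ⊓ X : Subgroup G) := card_sup_dvd (inf_le_right.trans hXY)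
    have hHX : ¬ 2 ∣ Nat.card (H ⊓ X : Subgroup G) := fun h => c.odd (h.trans (card_dvd_of_le inf_le_left))
    have h5 : ¬ 2 ∣ Nat.card Z := by
      intro h
      rcases Nat.prime_two.dvd_mul.1 (h.trans h4) with h6 | h6
      · exact hY h6
      · exact hHX h6
    -- `|Z|` divides `|H ⊓ X|`
    have h6 : Nat.card Z ∣ Nat.card (H ⊓ X : Subgroup G) := by
      have h7 : Nat.card Z ∣ Nat.card X := card_dvd_of_le hZX
      rw [← h1] at h7
      obtain ⟨m, hm⟩ := IsPGroup.iff_card.1 S.2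
      refine Nat.Coprime.dvd_of_dvd_mul_right ?_ h7
      rw [hm]
      apply Nat.Coprime.pow_right
      rw [Nat.coprime_comm]
      exact (Nat.Prime.coprime_iff_not_dvd Nat.prime_two).2 h5
    have h7 : H ⊓ X = Z := eq_of_le_of_card_ge le_sup_right (Nat.le_of_dvd Nat.card_pos h6)
    have h8 : Y ≤ H ⊓ X := by
      rw [h7]; exact le_sup_left
    exact h8.trans inf_le_left
  rw [eq_bot_iff, ← c.core]
  intro y hy g
  obtain ⟨s, hs, h, hh, e⟩ := c.exists_mul S g⁻¹
  have e' : g = h⁻¹ * s⁻¹ := by rw [← inv_inv g, e]; group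
  have h1 : s⁻¹ * y * s⁻¹⁻¹ ∈ Y := (mem_normalizer_iff.1 (hSY ((S : Subgroup G).inv_mem hs)) y).1 hy
  have h2 := H.mul_mem (H.mul_mem (H.inv_mem hh) (hYH h1)) hh
  rw [e']
  rwa [show h⁻¹ * (s⁻¹ * y * s⁻¹⁻¹) * h = h⁻¹ * s⁻¹ * y * (h⁻¹ * s⁻¹)⁻¹ by group] at h2

/-- proper overgroups of `S` normalise `S` -/
theorem le_norm {X : Subgroup G} (hX : X ≠ ⊤) (hSX : (S : Subgroup G) ≤ X) :
    X ≤ normalizer ((S : Subgroup G) : Set G) := by
  intro x hx
  obtain ⟨l, hl, n, -, hn, rfl⟩ := exists_frattini S (c.smc S) (c.psol X hX (c.hall S hSX)) hSX hx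
  have h1 : opc 2 X = ⊥ := c.inv_bot S (not_two_dvd_opc X) (hSX.trans (H23.le_normalizer_opc X))
  rw [h1, mem_bot] at hl
  rw [hl, one_mul]
  exact hn

omit [Finite G] in
theorem cent_ne {a : G} (ha : a ≠ 1) : centralizer ({a} : Set G) ≠ ⊤ := by
  intro h
  have := c.simple
  have h1 : a ∈ center G := by
    rw [mem_center_iff]
    intro g
    have : g ∈ centralizer ({a} : Set G) := by rw [h]; trivial
    exact mem_centralizer_singleton_iff.1 this
  rcases (inferInstance : (center G).Normal).eq_bot_or_eq_top with h2 | h2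
  · rw [h2, mem_bot] at h1
    exact ha h1
  · apply c.nsol
    exact Group.isSolvable_of_comm fun x y => (mem_center_iff.1 (by rw [h2]; trivial : y ∈ center G) x)

theorem cent_le {a : G} (ha : a ∈ (S : Subgroup G)) (ha1 : a ≠ 1) :
    centralizer ({a} : Set G) ≤ normalizer ((S : Subgroup G) : Set G) :=
  c.le_norm S (c.cent_ne ha1) fun x hx => mem_centralizer_singleton_iff.2 (c.sab S x hx a ha)

theorem uniq {T T' : Sylow 2 G} {t : G} (ht : t ∈ T) (ht' : t ∈ T') (ht1 : t ≠ 1) : T = T' := by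
  have h1 : (T' : Subgroup G) ≤ T := by
    intro y hy
    have h2 : y ∈ centralizer ({t} : Set G) := mem_centralizer_singleton_iff.2 (c.sab T' y hy t ht')
    have h3 : y ∈ normalizer ((T : Subgroup G) : Set G) := c.cent_le T ht ht1 h2
    obtain ⟨k, hk⟩ := Transfer.isPGroup_mem_pow T'.2 hy
    exact Transfer.mem_sylow_of_mem_normalizer h3 hk
  exact Sylow.ext (T'.3 T.2 h1)

theorem mem_of_comm {T : Sylow 2 G} {z t : G} (hz : z ∈ T) (hz1 : z ≠ 1) (ht2 : t * t = 1)
    (h : t * z = z * t) : t ∈ T := by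
  have h3 : t ∈ normalizer ((T : Subgroup G) : Set G) := c.cent_le T hz hz1 (mem_centralizer_singleton_iff.2 h)
  exact Transfer.mem_sylow_of_mem_normalizer (k := 1) h3 (by rw [pow_one, pow_two]; exact ht2)

theorem not_le_cent : ¬ normalizer ((S : Subgroup G) : Set G) ≤ centralizer ((S : Subgroup G) : Set G) := by
  intro h
  have := c.simple
  have hnc : ∃ x y : G, x * y ≠ y * x := by
    by_contra h
    push Not at h
    exact c.nsol (Group.isSolvable_of_comm h)
  exact Transfer.not_hasNPC_of_isSimpleGroup hnc c.even (Transfer.hasNPC_of_normalizer_le_centralizer S h)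

/-- every Sylow subgroup contains two involutions -/
theorem exists_two : ∃ e ∈ (S : Subgroup G), ∃ f ∈ (S : Subgroup G), e ≠ 1 ∧ f ≠ 1 ∧ e ≠ f ∧ e * e = 1 ∧ f * f = 1 := by
  by_contra hcon
  push Not at hcon
  apply c.not_le_cent S
  intro n hn
  obtain ⟨a, b, hab, ⟨k, hk⟩, hb⟩ := Transfer.exists_pow_decomp 2 n (orderOf_pos n).ne'
  rw [hab]
  refine (centralizer ((S : Subgroup G) : Set G)).mul_mem ?_ ?_
  · have h1 : n ^ a ∈ (S : Subgroup G) := Transfer.mem_sylow_of_mem_normalizer (k := k) (pow_mem hn a)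
      (by rw [← hk, pow_orderOf_eq_one])
    rw [mem_centralizer_iff]
    intro s hs
    exact c.sab S s hs _ h1
  · have hbN : n ^ b ∈ normalizer ((S : Subgroup G) : Set G) := pow_mem hn b
    refine cent_of_cent_inv S (c.sab S) hbN ((Nat.Prime.coprime_iff_not_dvd Nat.prime_two).1 hb.symm) ?_
    intro e he he2
    by_cases he1 : e = 1
    · rw [he1, mul_one, one_mul]
    have h1 : n ^ b * e * (n ^ b)⁻¹ ∈ (S : Subgroup G) := (mem_normalizer_iff.1 hbN e).1 he
    have h2 : n ^ b * e * (n ^ b)⁻¹ ≠ 1 := fun h => he1 (by simpa using h)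
    have h3 : (n ^ b * e * (n ^ b)⁻¹) * (n ^ b * e * (n ^ b)⁻¹) = 1 := by
      calc _ = n ^ b * (e * e) * (n ^ b)⁻¹ := by group
        _ = 1 := by rw [he2]; group
    by_contra hne
    have h4 : e ≠ n ^ b * e * (n ^ b)⁻¹ := by
      intro h
      apply hne
      nth_rewrite 2 [h]
      group
    exact hcon e he _ h1 he1 h2 h4 he2 h3

/-- real odd elements have odd order centralisers -/
theorem real_odd {x t : G} (hx1 : x ≠ 1) (hxo : ¬ 2 ∣ orderOf x) (ht1 : t ≠ 1) (ht2 : t * t = 1)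
    (hinv : t * x * t⁻¹ = x⁻¹) : ¬ 2 ∣ Nat.card (centralizer ({x} : Set G)) := by
  intro h2
  have hsq : x * x ≠ 1 := fun h2 => hx1 (eq_one_of_odd hxo h2)
  obtain ⟨⟨u, hux⟩, hu⟩ := exists_prime_orderOf_dvd_card' 2 h2
  rw [orderOf_mk] at hu
  have hu1 : u ≠ 1 := by rintro rfl; simp at hu
  have hu2 : u * u = 1 := by rw [← pow_two, ← hu, pow_orderOf_eq_one]
  have hxu : u * x = x * u := mem_centralizer_singleton_iff.1 hux
  have hinv' : (t * u) * x * (t * u)⁻¹ = x⁻¹ := by
    calc (t * u) * x * (t * u)⁻¹ = t * (u * x) * u⁻¹ * t⁻¹ := by group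
      _ = t * (x * u) * u⁻¹ * t⁻¹ := by rw [hxu]
      _ = t * x * t⁻¹ := by group
      _ = x⁻¹ := hinv
  have hpow : ∀ n : ℕ, (t * u) ^ (2 * n + 1) * x * ((t * u) ^ (2 * n + 1))⁻¹ = x⁻¹ := by
    intro n
    induction n with
    | zero => simpa using hinv'
    | succ n ih =>
      have e : (t * u) ^ (2 * (n + 1) + 1) = (t * u) * (t * u) * (t * u) ^ (2 * n + 1) := by
        rw [show 2 * (n + 1) + 1 = 1 + 1 + (2 * n + 1) by ring, pow_add, pow_add, pow_one]
      have h3 : (t * u) * x⁻¹ * (t * u)⁻¹ = x := by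
        have := congrArg (fun y => y⁻¹) hinv'
        simp only [mul_inv_rev, inv_inv] at this
        rw [mul_inv_rev, mul_assoc (t * u)]; exact this
      calc (t * u) ^ (2 * (n + 1) + 1) * x * ((t * u) ^ (2 * (n + 1) + 1))⁻¹
          = (t * u) * ((t * u) * ((t * u) ^ (2 * n + 1) * x * ((t * u) ^ (2 * n + 1))⁻¹) * (t * u)⁻¹) * (t * u)⁻¹ := by
            rw [e, mul_inv_rev, mul_inv_rev (t * u) (t * u)]; simp only [mul_assoc]
        _ = x⁻¹ := by rw [ih, h3, hinv']
  rcases dihedral2 ht2 hu2 with hodd | ⟨z, -, hz1, hz2, htz, huz⟩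
  · obtain ⟨k, hk⟩ : ∃ k, orderOf (t * u) = 2 * k + 1 := ⟨orderOf (t * u) / 2, by omega⟩
    have h3 := hpow k
    rw [← hk, pow_orderOf_eq_one, one_mul, inv_one, mul_one] at h3
    apply hsq
    nth_rewrite 1 [h3]
    exact inv_mul_cancel x
  · obtain ⟨T', hT'⟩ := AbPP.exists_sylow_inv hz2
    have h1 := c.mem_of_comm hT' hz1 ht2 htz
    have h2 := c.mem_of_comm hT' hz1 hu2 huz
    have h3 : x ∈ normalizer ((T' : Subgroup G) : Set G) :=
      c.cent_le T' h2 hu1 (mem_centralizer_singleton_iff.2 hxu.symm)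
    have h4 : x * t * x⁻¹ ∈ (T' : Subgroup G) := (mem_normalizer_iff.1 h3 t).1 h1
    have h5 : x * x ∈ (T' : Subgroup G) := by
      have h6 := (T' : Subgroup G).mul_mem h4 ((T' : Subgroup G).inv_mem h1)
      have h7 := congrArg (fun y => y⁻¹) hinv
      simp only [mul_inv_rev, inv_inv] at h7
      have e : x * t * x⁻¹ * t⁻¹ = x * (t * (x⁻¹ * t⁻¹)) := by group
      rw [e, h7] at h6
      exact h6
    obtain ⟨k, hk⟩ := Transfer.isPGroup_mem_pow T'.2 h5
    have h6 : orderOf (x * x) ∣ orderOf x := by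
      rw [← pow_two]; exact orderOf_pow_dvd 2
    have h7 : orderOf (x * x) ∣ 2 ^ k := orderOf_dvd_of_pow_eq_one hk
    have h8 : (orderOf x).Coprime (2 ^ k) := by
      apply Nat.Coprime.pow_right
      rw [Nat.coprime_comm, Nat.Prime.coprime_iff_not_dvd Nat.prime_two]
      exact hxo
    exact hsq (orderOf_eq_one_iff.1 (Nat.eq_one_of_dvd_coprimes h8 h6 h7))

/-- `C_S(x) = 1` -/
theorem real_cent {x t : G} (hx1 : x ≠ 1) (hxo : ¬ 2 ∣ orderOf x) (ht1 : t ≠ 1) (ht2 : t * t = 1)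
    (hinv : t * x * t⁻¹ = x⁻¹) {s : G} (hs : s ∈ (S : Subgroup G)) (hsx : s * x = x * s) : s = 1 := by
  obtain ⟨k, hk⟩ := Transfer.isPGroup_mem_pow S.2 hs
  have h1 := orderOf_dvd_natCard (⟨s, mem_centralizer_singleton_iff.2 hsx⟩ : centralizer ({x} : Set G))
  rw [orderOf_mk] at h1
  have h2 : (Nat.card (centralizer ({x} : Set G))).Coprime (2 ^ k) := by
    apply Nat.Coprime.pow_right
    rw [Nat.coprime_comm, Nat.Prime.coprime_iff_not_dvd Nat.prime_two]
    exact c.real_odd hx1 hxo ht1 ht2 hinv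
  exact orderOf_eq_one_iff.1 (Nat.eq_one_of_dvd_coprimes h2 h1 (orderOf_dvd_of_pow_eq_one hk))

/-- No real element of odd order normalises a Sylow 2-subgroup. -/
theorem real_not_norm {x t : G} (hx1 : x ≠ 1) (hxo : ¬ 2 ∣ orderOf x) (ht1 : t ≠ 1) (ht2 : t * t = 1)
    (hinv : t * x * t⁻¹ = x⁻¹) (hxN : x ∈ normalizer ((S : Subgroup G) : Set G)) : False := by
  obtain ⟨s₀, hs₀, h₀, hh₀, hx⟩ := c.exists_mul S x
  -- find `σ` with `σ = (x σ x⁻¹) s₀`
  let f : ↥(S : Subgroup G) → ↥(S : Subgroup G) := fun σ =>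
    ⟨(x * (σ : G) * x⁻¹)⁻¹ * (σ : G), (S : Subgroup G).mul_mem ((S : Subgroup G).inv_mem ((mem_normalizer_iff.1 hxN (σ : G)).1 σ.2)) σ.2⟩
  have hinj : Function.Injective f := by
    intro σ τ hστ
    have h1 : (x * σ * x⁻¹)⁻¹ * σ = (x * τ * x⁻¹)⁻¹ * τ := congrArg Subtype.val hστ
    have hx1' : x * σ * x⁻¹ ∈ (S : Subgroup G) := (mem_normalizer_iff.1 hxN σ).1 σ.2
    have hx2' : x * τ * x⁻¹ ∈ (S : Subgroup G) := (mem_normalizer_iff.1 hxN τ).1 τ.2
    have h2 : (τ : G)⁻¹ * σ = 1 := by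
      refine c.real_cent S hx1 hxo ht1 ht2 hinv ((S : Subgroup G).mul_mem ((S : Subgroup G).inv_mem τ.2) σ.2) ?_
      have h3 : (σ : G) * (τ : G)⁻¹ = (x * σ * x⁻¹) * (x * τ * x⁻¹)⁻¹ := by
        calc (σ : G) * (τ : G)⁻¹ = (x * σ * x⁻¹) * ((x * σ * x⁻¹)⁻¹ * σ) * (τ : G)⁻¹ := by group
          _ = (x * σ * x⁻¹) * ((x * τ * x⁻¹)⁻¹ * τ) * (τ : G)⁻¹ := by rw [h1]
          _ = _ := by group
      have h4 : (τ : G)⁻¹ * σ = (σ : G) * (τ : G)⁻¹ := c.sab S _ ((S : Subgroup G).inv_mem τ.2) _ σ.2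
      rw [h4]
      nth_rewrite 1 [h3]
      group
    exact Subtype.ext (inv_mul_eq_one.1 h2).symm
  obtain ⟨σ, hσ⟩ := (Finite.injective_iff_surjective.1 hinj) ⟨s₀, hs₀⟩
  have hσ' : (x * σ * x⁻¹)⁻¹ * σ = s₀ := congrArg Subtype.val hσ
  have h0eq : (σ : G)⁻¹ * x * σ = h₀ := by
    calc (σ : G)⁻¹ * x * σ = (σ : G)⁻¹ * (x * σ * x⁻¹) * x := by group
      _ = (σ : G)⁻¹ * (x * σ * x⁻¹) * (s₀ * h₀) := by rw [← hx]
      _ = (σ : G)⁻¹ * (x * σ * x⁻¹) * (((x * σ * x⁻¹)⁻¹ * σ) * h₀) := by rw [hσ']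
      _ = h₀ := by group
  -- conjugate everything
  set w : G := (σ : G)⁻¹ * t * σ with hw
  have hw1 : w ≠ 1 := by
    intro h
    apply ht1
    calc t = σ * w * (σ : G)⁻¹ := by rw [hw]; group
      _ = 1 := by rw [h]; group
  have hw2 : w * w = 1 := by
    calc w * w = (σ : G)⁻¹ * (t * t) * σ := by rw [hw]; group
      _ = 1 := by rw [ht2]; group
  have h01 : h₀ ≠ 1 := by
    intro h
    apply hx1
    calc x = σ * ((σ : G)⁻¹ * x * σ) * (σ : G)⁻¹ := by group
      _ = 1 := by rw [h0eq, h]; group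
  have h0o : ¬ 2 ∣ orderOf h₀ := by
    intro h
    apply hxo
    have : orderOf h₀ = orderOf x := by
      rw [← h0eq]
      exact (SemiconjBy.orderOf_eq (σ : G) (show (σ : G) * ((σ : G)⁻¹ * x * σ) = x * σ by group))
    rwa [← this]
  have hwinv : w * h₀ * w⁻¹ = h₀⁻¹ := by
    rw [← h0eq, hw]
    calc (σ : G)⁻¹ * t * σ * ((σ : G)⁻¹ * x * σ) * ((σ : G)⁻¹ * t * σ)⁻¹ = (σ : G)⁻¹ * (t * x * t⁻¹) * σ := by group
      _ = (σ : G)⁻¹ * x⁻¹ * σ := by rw [hinv]
      _ = _ := by group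
  have h0N : h₀ ∈ normalizer ((S : Subgroup G) : Set G) := by
    rw [← h0eq]
    exact mul_mem (mul_mem (inv_mem (le_normalizer σ.2)) hxN) (le_normalizer σ.2)
  obtain ⟨s₁, hs₁, h₁, hh₁, hwe⟩ := c.exists_mul S w
  have e1 : (h₁ * h₀ * h₁⁻¹) * h₀ = s₁⁻¹ * (h₀⁻¹ * s₁ * h₀) := by
    have h2 : s₁ * h₁ * h₀ * (s₁ * h₁)⁻¹ = h₀⁻¹ := by rw [← hwe]; exact hwinv
    calc (h₁ * h₀ * h₁⁻¹) * h₀ = s₁⁻¹ * (s₁ * h₁ * h₀ * (s₁ * h₁)⁻¹) * s₁ * h₀ := by group
      _ = s₁⁻¹ * h₀⁻¹ * s₁ * h₀ := by rw [h2]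
      _ = _ := by group
  have h3 : s₁⁻¹ * (h₀⁻¹ * s₁ * h₀) = 1 := by
    refine c.inf_S S ?_ ?_
    · refine (S : Subgroup G).mul_mem ((S : Subgroup G).inv_mem hs₁) ?_
      have := (mem_normalizer_iff.1 (inv_mem h0N) s₁).1 hs₁
      rwa [inv_inv] at this
    · rw [← e1]
      exact H.mul_mem (H.mul_mem (H.mul_mem hh₁ hh₀) (H.inv_mem hh₁)) hh₀
  have h4 : s₁ = 1 := by
    refine c.real_cent S h01 h0o hw1 hw2 hwinv hs₁ ?_
    have h5 : h₀⁻¹ * s₁ * h₀ = s₁ := (inv_mul_eq_one.1 h3).symm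
    calc s₁ * h₀ = h₀ * (h₀⁻¹ * s₁ * h₀) := by group
      _ = h₀ * s₁ := by rw [h5]
  rw [h4, one_mul] at hwe
  have h5 : w ∈ H := hwe ▸ hh₁
  apply c.odd
  have h6 := orderOf_dvd_natCard (⟨w, h5⟩ : H)
  rw [orderOf_mk] at h6
  have h7 : orderOf w = 2 := orderOf_eq_prime (by rw [pow_two]; exact hw2) hw1
  rwa [h7] at h6

theorem contra : False := by
  classical
  obtain ⟨S⟩ : Nonempty (Sylow 2 G) := inferInstance
  set M : Subgroup G := normalizer ((S : Subgroup G) : Set G) with hM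
  have hSM : (S : Subgroup G) ≤ M := le_normalizer
  have hMtop : M ≠ ⊤ := by
    intro h
    have := c.simple
    have h1 : (S : Subgroup G).Normal := normalizer_eq_top_iff.1 h
    rcases h1.eq_bot_or_eq_top with h2 | h2
    · obtain ⟨e, he, f, hf, he1, -⟩ := c.exists_two S
      rw [h2, mem_bot] at he
      exact he1 he
    · apply c.nsol
      have h3 : IsPGroup 2 G := by
        have := S.2
        rw [h2] at this
        exact this.of_equiv Subgroup.topEquiv
      have := h3.isNilpotent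
      infer_instance
  -- choose two involutions in each Sylow subgroup
  choose e heT f hfT he1 hf1 hef he2 hf2 using fun T : Sylow 2 G => c.exists_two T
  -- involutions in `M` lie in `S`
  have hinM : ∀ z ∈ M, z * z = 1 → z ∈ S := fun z hz hz2 =>
    Transfer.mem_sylow_of_mem_normalizer (k := 1) hz (by rw [pow_one, pow_two]; exact hz2)
  let g : Sylow 2 G × Bool → G := fun p => if p.2 then e p.1 else f p.1
  have gT : ∀ p, g p ∈ p.1 := by
    rintro ⟨T, b⟩
    cases b
    · exact hfT T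
    · exact heT T
  have g1 : ∀ p, g p ≠ 1 := by
    rintro ⟨T, b⟩
    cases b
    · exact hf1 T
    · exact he1 T
  have g2 : ∀ p, g p * g p = 1 := by
    rintro ⟨T, b⟩
    cases b
    · exact hf2 T
    · exact he2 T
  have ginj : Function.Injective g := by
    rintro ⟨T, b⟩ ⟨T', b'⟩ h
    have h1 : T = T' := c.uniq (gT ⟨T, b⟩) (h ▸ gT ⟨T', b'⟩) (g1 ⟨T, b⟩)
    subst h1
    cases b <;> cases b'
    · rfl
    · exact absurd h.symm (hef T)
    · exact absurd h (hef T)
    · rfl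
  -- the map to the cosets
  let F : {T : Sylow 2 G // T ≠ S} × Bool → {q : G ⧸ M // q ≠ ((1 : G) : G ⧸ M)} := fun p =>
    ⟨(g (p.1.1, p.2) : G ⧸ M), by
      intro h
      rw [QuotientGroup.eq, mul_one] at h
      have h1 : g (p.1.1, p.2) ∈ M := by
        have := M.inv_mem h
        rwa [inv_inv] at this
      have h2 := hinM _ h1 (g2 _)
      exact p.1.2 (c.uniq (gT (p.1.1, p.2)) h2 (g1 _))⟩
  have hF : Function.Injective F := by
    intro p q hpq
    have h1 : (g (p.1.1, p.2) : G ⧸ M) = (g (q.1.1, q.2) : G ⧸ M) := congrArg Subtype.val hpq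
    rw [QuotientGroup.eq] at h1
    set u := g (p.1.1, p.2) with hu
    set v := g (q.1.1, q.2) with hv
    have huv : u * v ∈ M := by
      rwa [inv_eq_of_mul_eq_one_left (g2 (p.1.1, p.2))] at h1
    by_cases hne : u = v
    · have h2 := ginj hne
      have h3 : p.1.1 = q.1.1 := (Prod.mk.inj h2).1
      have h4 : p.2 = q.2 := (Prod.mk.inj h2).2
      exact Prod.ext (Subtype.ext h3) h4
    exfalso
    have hu2 : u * u = 1 := g2 _
    have hv2 : v * v = 1 := g2 _
    have hx1 : u * v ≠ 1 := by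
      intro h
      apply hne
      rw [← inv_eq_of_mul_eq_one_left hv2]
      exact eq_inv_of_mul_eq_one_left h
    have hinv : u * (u * v) * u⁻¹ = (u * v)⁻¹ := by
      rw [mul_inv_rev, inv_eq_of_mul_eq_one_left hu2, inv_eq_of_mul_eq_one_left hv2, ← mul_assoc, hu2, one_mul]
    have hxo : ¬ 2 ∣ orderOf (u * v) := by
      rcases dihedral2 hu2 hv2 with h | ⟨z, hz, hz1, hz2, huz, -⟩
      · exact h
      · exfalso
        have hzM : z ∈ M := (zpowers_le.2 huv) hz
        have hzS := hinM z hzM hz2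
        have h3 : u ∈ S := c.mem_of_comm hzS hz1 hu2 huz
        exact p.1.2 (c.uniq (gT (p.1.1, p.2)) h3 (g1 _))
    exact c.real_not_norm S hx1 hxo (g1 _) hu2 hinv huv
  have hcard := Nat.card_le_card_of_injective F hF
  have h1 : Nat.card {T : Sylow 2 G // T ≠ S} = Nat.card (Sylow 2 G) - 1 := by
    have := Set.ncard_sdiff_singleton_of_mem (Set.mem_univ S)
    rw [Set.ncard_univ] at this
    rw [← this, ← Nat.card_coe_set_eq]
    exact Nat.card_congr (Equiv.subtypeEquivRight fun T => by simp)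
  have h2 : Nat.card {q : G ⧸ M // q ≠ ((1 : G) : G ⧸ M)} = Nat.card (G ⧸ M) - 1 := by
    have := Set.ncard_sdiff_singleton_of_mem (Set.mem_univ ((1 : G) : G ⧸ M))
    rw [Set.ncard_univ] at this
    rw [← this, ← Nat.card_coe_set_eq]
    exact Nat.card_congr (Equiv.subtypeEquivRight fun T => by simp)
  rw [Nat.card_prod, h1, h2, ← index_eq_card, Sylow.card_eq_index_normalizer S] at hcard
  have h3 : Nat.card Bool = 2 := by simp
  rw [h3] at hcard
  have h4 : M.index ≠ 1 := fun h => hMtop (index_eq_one.1 h)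
  have h5 : 0 < M.index := Nat.pos_of_ne_zero M.index_ne_zero_of_finite
  have h6 : (M.index - 1) * 2 ≤ M.index - 1 := hcard
  omega

end LC

theorem solvable_aux : ∀ (n : ℕ) (G : Type u) [Group G] [Finite G], Nat.card G = n → Ab2 G → HasHall G →
    Group.IsSolvable G := by
  intro n
  induction n using Nat.strong_induction_on with
  | _ n ih =>
  intro G _ _ hn hab hH
  by_contra hns
  have hcardlt : ∀ X : Subgroup G, X ≠ ⊤ → Nat.card X < n := by
    intro X hX
    rw [← hn]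
    exact lt_of_le_of_ne (card_le_card_group X) fun he => hX (eq_top_of_card_eq X he)
  have hnt : Nontrivial G := by
    by_contra hcon
    rw [not_nontrivial_iff_subsingleton] at hcon
    exact hns inferInstance
  have hsimple : IsSimpleGroup G := by
    refine ⟨fun N hN => ?_⟩
    by_contra hcon
    push Not at hcon
    have hNs : Group.IsSolvable N := ih _ (hcardlt N hcon.2) N rfl (hab.subgroup N) (hH.normal N)
    have hQs : Group.IsSolvable (G ⧸ N) := by
      refine ih (Nat.card (G ⧸ N)) ?_ (G ⧸ N) rfl (hab.quot N) (hH.quot N)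
      rw [← hn, ← index_eq_card]
      have h3 := card_mul_index N
      have h4 : 1 < Nat.card N := by
        have : Nontrivial N := (nontrivial_iff_ne_bot N).2 hcon.1
        exact Finite.one_lt_card
      have h5 : 0 < N.index := Nat.pos_of_ne_zero N.index_ne_zero_of_finite
      nlinarith
    exact hns ((Group.isSolvable_iff_subgroup_quotient N).mpr ⟨hNs, hQs⟩)
  obtain ⟨H, hodd, hidx⟩ := hH
  exact LC.contra (H := H) ⟨hab, hsimple, hns, hodd, hidx, fun X hX hX' =>
    ih _ (hcardlt X hX) X rfl (hab.subgroup X) hX'⟩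

/-- **A finite group with abelian `2`-subgroups and a Hall `2'`-subgroup is solvable.** -/
theorem solvable (hab : Ab2 G) (hH : HasHall G) : Group.IsSolvable G := solvable_aux _ G rfl hab hH

end Cfsg.Agent.H70.HallAb
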