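import Cfsg.Agent.H70.CycP2
import Cfsg.Agent.H70.HallAb
import Cfsg.Agent.BSW.Ident
import Cfsg.Agent.S4133

set_option autoImplicit false
set_option linter.all false

/-! # Cyclic Sylow `p`-subgroups and abelian `p'`-subgroups: the minimal simple case, II -/

namespace Cfsg.Agent.H70.CycP

open Subgroup
open Cfsg.Agent.SigF
open Cfsg.Agent.H23 (opc)
open Cfsg.Agent.H70.AbPP
open scoped commutatorElement

universe u

variable {G : Type u} [Group G] [Finite G] {p : ℕ} [hpf : Fact p.Prime]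

theorem orderOf_conj' (n y : G) : orderOf (n * y * n⁻¹) = orderOf y := by
  have := (MulAut.conj n).orderOf_eq y
  rwa [MulAut.conj_apply] at this

theorem not_dvd_of_inv (hp2 : p ≠ 2) {t : G} (ht : t * t = 1) : ¬ p ∣ orderOf t := by
  intro h
  have h1 : orderOf t ∣ 2 := orderOf_dvd_of_pow_eq_one (by rw [pow_two, ht])
  exact hp2 ((Nat.prime_dvd_prime_iff_eq hpf.out Nat.prime_two).1 (h.trans h1))

/-- the final configuration -/
structure Cz (p : ℕ) [Fact p.Prime] (G : Type u) [Group G] [Finite G] (P : Sylow p G) (S : Sylow 2 G) (t n : G) : Prop where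
  cx : Cx p G
  tC : t ∈ centralizer ((P : Subgroup G) : Set G)
  t1 : t ≠ 1
  tt : t * t = 1
  tS : t ∈ S
  nN : n ∈ normalizer ((S : Subgroup G) : Set G)
  nt : n * t ≠ t * n
  no : ¬ 2 ∣ orderOf n

theorem Cx.exists_cz (c : Cx p G) : ∃ (P : Sylow p G) (S : Sylow 2 G) (t n : G), Cz p G P S t n := by
  obtain ⟨P, t, htC, ht1, htt⟩ := c.exists_t
  obtain ⟨S, hS⟩ := exists_sylow_inv htt
  have := c.ctx.simple
  -- `t` is not centralised by `N(S)`
  have h1 : ∃ n ∈ normalizer ((S : Subgroup G) : Set G), n * t ≠ t * n := by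
    by_contra hcon
    push Not at hcon
    apply ht1
    have hcomm := Transfer.commutator_inf_eq_of_isMulCommutative S (c.ctx.sab S)
    have htop : commutator G = ⊤ := by
      rcases (inferInstance : (commutator G).Normal).eq_bot_or_eq_top with h2 | h2
      · exfalso
        obtain ⟨x, y, hxy⟩ := c.ctx.exists_noncomm
        apply hxy
        have h3 : ⁅x, y⁆ ∈ commutator G := commutator_mem_commutator (mem_top x) (mem_top y)
        rw [h2, mem_bot, commutatorElement_eq_one_iff_mul_comm] at h3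
        exact h3
      · exact h2
    rw [htop, top_inf_eq] at hcomm
    set N := normalizer ((S : Subgroup G) : Set G) with hN
    have hSN : (S : Subgroup G) ≤ N := le_normalizer
    have htN : t ∈ N := hSN hS
    let T : Sylow 2 N := S.subtype hSN
    have hTc : IsMulCommutative (T : Subgroup N) := by
      refine ⟨⟨fun a b => ?_⟩⟩
      exact Subtype.ext (Subtype.ext (c.ctx.scomm S (x := ((a : N) : G)) (y := ((b : N) : G)) a.2 b.2))
    have h2 : (⟨t, htN⟩ : N) ∈ center N := by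
      rw [mem_center_iff]
      intro g
      exact Subtype.ext (hcon g g.2)
    have h3 : (⟨t, htN⟩ : N) ∈ commutator N := by
      have h4 : t ∈ ⁅(S : Subgroup G), N⁆ := by
        have h : t ∈ (S : Subgroup G) := hS
        rw [hcomm] at h
        exact h
      have h5 : ⁅(S : Subgroup G), N⁆ ≤ (commutator N).map N.subtype := by
        rw [_root_.commutator_def, Subgroup.map_commutator, ← MonoidHom.range_eq_map, range_subtype]
        exact commutator_mono hSN le_rfl
      obtain ⟨y, hy, e⟩ := h5 h4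
      have : y = ⟨t, htN⟩ := Subtype.ext e
      rw [← this]; exact hy
    have h4 := Cfsg.Agent.S4133.sylow_center T hTc h2 h3 hS
    exact congrArg Subtype.val h4
  obtain ⟨n, hn, hnt⟩ := h1
  obtain ⟨a, b, hab, ⟨k, hk⟩, hb⟩ := Transfer.exists_pow_decomp p n (orderOf_pos n).ne'
  have h2 : n ^ b ∈ centralizer ((S : Subgroup G) : Set G) :=
    c.ctx.pprime_cent S (pow_mem hn _) ((Nat.Prime.coprime_iff_not_dvd hpf.out).1 hb.symm)
  refine ⟨P, S, t, n ^ a, ⟨c, htC, ht1, htt, hS, pow_mem hn _, ?_, ?_⟩⟩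
  · intro h3
    apply hnt
    have h4 : Commute (n ^ a) t := h3
    have h5 : Commute (n ^ b) t := (mem_centralizer_iff.1 h2 t hS).symm
    rw [hab]
    exact (h4.mul_left h5)
  · rw [hk]
    intro h
    exact c.ctx.p2 ((Nat.prime_dvd_prime_iff_eq Nat.prime_two hpf.out).1 (Nat.prime_two.dvd_of_dvd_pow h)).symm

namespace Cz

variable {P : Sylow p G} {S : Sylow 2 G} {t n : G} (c : Cz p G P S t n)
include c

theorem cent_t : centralizer ({t} : Set G) = normalizer ((P : Subgroup G) : Set G) :=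
  c.cx.cent_eq P c.tC (not_dvd_of_inv c.cx.ctx.p2 c.tt) c.t1

theorem n_not : n ∉ normalizer ((P : Subgroup G) : Set G) := by
  rw [← c.cent_t, mem_centralizer_singleton_iff]
  exact c.nt

theorem S_le : (S : Subgroup G) ≤ normalizer ((P : Subgroup G) : Set G) := by
  rw [← c.cent_t]; exact c.cx.ctx.S_le_cent S c.tS

/-- TI -/
theorem ti {y : G} (hy : y ∈ centralizer ((P : Subgroup G) : Set G)) (hyp : ¬ p ∣ orderOf y) (hy1 : y ≠ 1) :
    n * y * n⁻¹ ∉ centralizer ((P : Subgroup G) : Set G) := fun h =>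
  c.n_not (c.cx.ti P hy hyp hy1 h)

theorem conj_S {s : G} (hs : s ∈ S) : n * s * n⁻¹ ∈ S := (mem_normalizer_iff.1 c.nN s).1 hs

/-- an involution not centralising `P` inverts -/
theorem inv {e : G} (he : e ∈ normalizer ((P : Subgroup G) : Set G)) (hee : e * e = 1)
    (hC : e ∉ centralizer ((P : Subgroup G) : Set G)) : ∀ x ∈ P, e * x * e⁻¹ = x⁻¹ :=
  c.cx.inv_or_cent P he (by rw [hee]; exact one_mem _) hC

/-- the product of two inverting elements centralises -/
theorem mul_cent {e f : G} (he : ∀ x ∈ P, e * x * e⁻¹ = x⁻¹) (hf : ∀ x ∈ P, f * x * f⁻¹ = x⁻¹) :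
    e * f ∈ centralizer ((P : Subgroup G) : Set G) := by
  rw [mem_centralizer_iff]
  intro x hx
  have h1 : e * f * x * (e * f)⁻¹ = x := by
    calc e * f * x * (e * f)⁻¹ = e * (f * x * f⁻¹) * e⁻¹ := by group
      _ = x := by rw [hf x hx, he _ ((P : Subgroup G).inv_mem hx), inv_inv]
  rw [mul_inv_eq_iff_eq_mul] at h1
  exact h1.symm

/-- the only involution of `C_S(P)` is `t` -/
theorem eq_t {e : G} (heS : e ∈ S) (hee : e * e = 1) (he1 : e ≠ 1)
    (hC : e ∈ centralizer ((P : Subgroup G) : Set G)) : e = t := by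
  by_contra hne
  have hte : t * e = e * t := c.cx.ctx.scomm S c.tS heS
  have hte1 : t * e ≠ 1 := by
    intro h
    apply hne
    have : e = t⁻¹ := (eq_inv_of_mul_eq_one_right h)
    rw [this, inv_eq_of_mul_eq_one_left c.tt]
  have hte2 : (t * e) * (t * e) = 1 := by
    calc (t * e) * (t * e) = t * (e * t) * e := by group
      _ = t * (t * e) * e := by rw [hte]
      _ = (t * t) * (e * e) := by group
      _ = 1 := by rw [c.tt, hee, one_mul]
  have hp2 := c.cx.ctx.p2
  have hsq : ∀ {f : G}, f * f = 1 → (n * f * n⁻¹) * (n * f * n⁻¹) = 1 := by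
    intro f hf
    calc (n * f * n⁻¹) * (n * f * n⁻¹) = n * (f * f) * n⁻¹ := by group
      _ = 1 := by rw [hf]; group
  have h1 := c.inv (c.S_le (c.conj_S c.tS)) (hsq c.tt) (c.ti c.tC (not_dvd_of_inv hp2 c.tt) c.t1)
  have h2 := c.inv (c.S_le (c.conj_S heS)) (hsq hee) (c.ti hC (not_dvd_of_inv hp2 hee) he1)
  apply c.ti (mul_mem c.tC hC) (not_dvd_of_inv hp2 hte2) hte1
  have h3 := c.mul_cent h1 h2
  rwa [show n * t * n⁻¹ * (n * e * n⁻¹) = n * (t * e) * n⁻¹ by group] at h3

/-- `b = n t n⁻¹` -/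
theorem b_spec : n * t * n⁻¹ ∈ S ∧ (n * t * n⁻¹) * (n * t * n⁻¹) = 1 ∧ n * t * n⁻¹ ≠ 1 ∧
    n * t * n⁻¹ ∉ centralizer ((P : Subgroup G) : Set G) ∧ ∀ x ∈ P, (n * t * n⁻¹) * x * (n * t * n⁻¹)⁻¹ = x⁻¹ := by
  have h0 : (n * t * n⁻¹) * (n * t * n⁻¹) = 1 := by
    calc (n * t * n⁻¹) * (n * t * n⁻¹) = n * (t * t) * n⁻¹ := by group
      _ = 1 := by rw [c.tt]; group
  have h1 := c.ti c.tC (not_dvd_of_inv c.cx.ctx.p2 c.tt) c.t1
  refine ⟨c.conj_S c.tS, h0, fun h => c.t1 (by simpa using h), h1, c.inv (c.S_le (c.conj_S c.tS)) h0 h1⟩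

/-- the involutions of `S` -/
theorem invS_eq : invS S = {t, n * t * n⁻¹, t * (n * t * n⁻¹)} := by
  obtain ⟨bS, bb, b1, bC, binv⟩ := c.b_spec
  set b := n * t * n⁻¹ with hb
  have htb : t * b = b * t := c.cx.ctx.scomm S c.tS bS
  ext e
  simp only [Set.mem_insert_iff, Set.mem_singleton_iff]
  constructor
  · rintro ⟨heS, he1, hee⟩
    by_cases hC : e ∈ centralizer ((P : Subgroup G) : Set G)
    · exact Or.inl (c.eq_t heS hee he1 hC)
    · right
      have h1 := c.inv (c.S_le heS) hee hC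
      have h2 : b * e ∈ centralizer ((P : Subgroup G) : Set G) := c.mul_cent binv h1
      have hbe : b * e = e * b := c.cx.ctx.scomm S bS heS
      have h3 : (b * e) * (b * e) = 1 := by
        calc (b * e) * (b * e) = b * (e * b) * e := by group
          _ = b * (b * e) * e := by rw [hbe]
          _ = (b * b) * (e * e) := by group
          _ = 1 := by rw [bb, hee, one_mul]
      by_cases h4 : b * e = 1
      · left
        have : e = b⁻¹ := eq_inv_of_mul_eq_one_right h4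
        rw [this, inv_eq_of_mul_eq_one_left bb]
      · right
        have h5 := c.eq_t (mul_mem bS heS) h3 h4 h2
        calc e = (b * b) * e := by rw [bb, one_mul]
          _ = b * (b * e) := by group
          _ = b * t := by rw [h5]
          _ = t * b := htb.symm
  · rintro (rfl | rfl | rfl)
    · exact ⟨c.tS, c.t1, c.tt⟩
    · exact ⟨bS, b1, bb⟩
    · refine ⟨mul_mem c.tS bS, ?_, ?_⟩
      · intro h
        apply bC
        have : b = t⁻¹ := eq_inv_of_mul_eq_one_right h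
        rw [this]
        exact inv_mem c.tC
      · calc (t * b) * (t * b) = t * (b * t) * b := by group
          _ = t * (t * b) * b := by rw [htb]
          _ = (t * t) * (b * b) := by group
          _ = 1 := by rw [c.tt, bb, one_mul]

theorem p_three : p = 3 := by
  have h1 : (invS S).ncard ≤ 3 := by
    rw [c.invS_eq]
    refine (Set.ncard_insert_le _ _).trans ?_
    have := Set.ncard_insert_le (n * t * n⁻¹) {t * (n * t * n⁻¹)}
    rw [Set.ncard_singleton] at this
    omega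
  by_contra hp
  have h2 := hpf.out.two_le
  have h3 := c.cx.ctx.p2
  exact c.cx.ctx.norm_not_le_cent S c.cx.even (c.cx.ctx.norm_le_cent_of_lt S (by omega))

/-- `p'`-elements of `N(P)`: the square centralises `P` -/
theorem sq_cent {h : G} (hh : h ∈ normalizer ((P : Subgroup G) : Set G)) (hp : ¬ p ∣ orderOf h) :
    h * h ∈ centralizer ((P : Subgroup G) : Set G) := by
  obtain rfl := c.p_three
  obtain ⟨x0, hx0, k, hk⟩ := exists_gen P (c.cx.cyc P)
  have hxP : x0 ∈ (P : Subgroup G) := by rw [← hx0]; exact mem_zpowers x0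
  have h1 : h * x0 * h⁻¹ ∈ (P : Subgroup G) := (mem_normalizer_iff.1 hh x0).1 hxP
  rw [← hx0] at h1
  obtain ⟨m, hm⟩ := h1
  have hm' : h * x0 * h⁻¹ = x0 ^ m := hm.symm
  have h2 : (h * h) * x0 * (h * h)⁻¹ = x0 := by
    have e : (h * h) * x0 * (h * h)⁻¹ = h * (h * x0 * h⁻¹) * h⁻¹ := by group
    rw [e]
    rcases cyc_three hk hm' hp with h3 | h3
    · rw [h3, h3]
    · rw [h3]
      have : h * x0⁻¹ * h⁻¹ = (h * x0 * h⁻¹)⁻¹ := by group
      rw [this, h3, inv_inv]
  have h3 : Commute (h * h) x0 := comm_of_conj_eq h2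
  rw [mem_centralizer_iff, ← hx0]
  rintro _ ⟨j, rfl⟩
  exact (h3.zpow_right j).symm

/-- `S` has exponent `2` -/
theorem exp {s : G} (hs : s ∈ S) : s * s = 1 := by
  by_contra hne
  obtain ⟨k, hk⟩ := Transfer.isPGroup_mem_pow S.2 hs
  -- an element of order 4
  obtain ⟨j, hj, hj1⟩ : ∃ j, s ^ 2 ^ (j + 2) = 1 ∧ s ^ 2 ^ (j + 1) ≠ 1 := by
    have hex : ∃ m, s ^ 2 ^ m = 1 := ⟨k, hk⟩
    classical
    have h1 := Nat.find_spec hex
    have h2 : ∀ i < Nat.find hex, s ^ 2 ^ i ≠ 1 := fun i hi => Nat.find_min hex hi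
    have h3 : 2 ≤ Nat.find hex := by
      by_contra h4
      have h5 : Nat.find hex = 0 ∨ Nat.find hex = 1 := by omega
      rcases h5 with h5 | h5
      · rw [h5, pow_zero, pow_one] at h1
        exact hne (by rw [h1, one_mul])
      · rw [h5, pow_one, pow_two] at h1
        exact hne h1
    refine ⟨Nat.find hex - 2, ?_, ?_⟩
    · rw [show Nat.find hex - 2 + 2 = Nat.find hex by omega]; exact h1
    · exact h2 _ (by omega)
  set r := s ^ 2 ^ j with hr
  have hrS : r ∈ S := pow_mem hs _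
  have hr2 : r * r ≠ 1 := by
    rw [← pow_two, hr, ← pow_mul, ← pow_succ]; exact hj1
  have hr4 : (r * r) * (r * r) = 1 := by
    rw [← pow_two, ← pow_two, hr, ← pow_mul, ← pow_mul, show (2 : ℕ) * 2 = 2 ^ 2 by norm_num, ← pow_add]
    exact hj
  have hpr : ∀ {f : G}, f ∈ S → ¬ p ∣ orderOf f := by
    intro f hf hd
    obtain ⟨i, hi⟩ := Transfer.isPGroup_mem_pow S.2 hf
    exact c.cx.ctx.p2 ((Nat.prime_dvd_prime_iff_eq hpf.out Nat.prime_two).1
      (hpf.out.dvd_of_dvd_pow (hd.trans (orderOf_dvd_of_pow_eq_one hi))))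
  have h1 := c.sq_cent (c.S_le hrS) (hpr hrS)
  have h2 := c.eq_t (mul_mem hrS hrS) hr4 hr2 h1
  have h3 := c.sq_cent (c.S_le (c.conj_S hrS)) (hpr (c.conj_S hrS))
  apply c.b_spec.2.2.2.1
  rwa [show n * r * n⁻¹ * (n * r * n⁻¹) = n * (r * r) * n⁻¹ by group, h2] at h3

theorem S_mem {s : G} (hs : s ∈ S) : s = 1 ∨ s = t ∨ s = n * t * n⁻¹ ∨ s = t * (n * t * n⁻¹) := by
  by_cases h : s = 1
  · exact Or.inl h
  · right
    have h1 : s ∈ invS S := ⟨hs, h, c.exp hs⟩
    rw [c.invS_eq] at h1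
    exact h1

theorem not_dvd_S {f : G} (hf : f ∈ S) : ¬ p ∣ orderOf f := by
  intro hd
  obtain ⟨i, hi⟩ := Transfer.isPGroup_mem_pow S.2 hf
  exact c.cx.ctx.p2 ((Nat.prime_dvd_prime_iff_eq hpf.out Nat.prime_two).1
    (hpf.out.dvd_of_dvd_pow (hd.trans (orderOf_dvd_of_pow_eq_one hi))))

theorem P_sq {x : G} (hx : x ∈ P) (h : x * x = 1) : x = 1 := by
  obtain ⟨k, hk⟩ := Transfer.isPGroup_mem_pow P.2 hx
  exact eq_one_of_pgroup hk (not_dvd_of_inv c.cx.ctx.p2 h)

/-- `C(b) ∩ N(P) ≤ S` -/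
theorem mem_S {h : G} (hh : h ∈ normalizer ((P : Subgroup G) : Set G))
    (hb : h * (n * t * n⁻¹) = (n * t * n⁻¹) * h) : h ∈ S := by
  obtain ⟨bS, bb, b1, bC, binv⟩ := c.b_spec
  set b := n * t * n⁻¹ with hbdef
  set H : Subgroup G := centralizer ({b} : Set G) ⊓ normalizer ((P : Subgroup G) : Set G) with hH
  have hHp : ¬ p ∣ Nat.card H := by
    intro hd
    obtain ⟨⟨x, hx⟩, hxo⟩ := exists_prime_orderOf_dvd_card' p hd
    rw [orderOf_mk] at hxo
    have h1 : x ∈ P := Transfer.mem_sylow_of_mem_normalizer (k := 1) hx.2 (by rw [pow_one, ← hxo, pow_orderOf_eq_one])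
    have h2 := binv x h1
    have h3 : x * b = b * x := mem_centralizer_singleton_iff.1 hx.1
    rw [← h3, mul_inv_cancel_right] at h2
    have h4 : x * x = 1 := by
      nth_rewrite 1 [h2]
      rw [inv_mul_cancel]
    have h5 := c.P_sq h1 h4
    rw [h5, orderOf_one] at hxo
    exact hpf.out.ne_one hxo.symm
  have hSH : (S : Subgroup G) ≤ H := fun s hs =>
    ⟨mem_centralizer_singleton_iff.2 (c.cx.ctx.scomm S hs bS), c.S_le hs⟩
  have hHS : ∀ x ∈ H, ∀ s ∈ S, x * s = s * x := fun x hx s hs => c.cx.ctx.abp.comm hHp hx (hSH hs)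
  have hop : ∀ x ∈ H, ¬ p ∣ orderOf x := by
    intro x hx hd
    have := orderOf_dvd_natCard (⟨x, hx⟩ : H)
    rw [orderOf_mk] at this
    exact hHp (hd.trans this)
  -- `n` normalises `H = C(S)`
  have hnH : ∀ x ∈ H, n * x * n⁻¹ ∈ H := by
    intro x hx
    have h1 : ∀ s ∈ S, (n * x * n⁻¹) * s = s * (n * x * n⁻¹) := by
      intro s hs
      have h2 : n⁻¹ * s * n ∈ S := by
        have := (mem_normalizer_iff.1 (inv_mem c.nN) s).1 hs
        rwa [inv_inv] at this
      have h3 := hHS x hx _ h2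
      calc (n * x * n⁻¹) * s = n * (x * (n⁻¹ * s * n)) * n⁻¹ := by group
        _ = n * ((n⁻¹ * s * n) * x) * n⁻¹ := by rw [h3]
        _ = s * (n * x * n⁻¹) := by group
    refine ⟨mem_centralizer_singleton_iff.2 (h1 b bS), ?_⟩
    show n * x * n⁻¹ ∈ normalizer ((P : Subgroup G) : Set G)
    rw [← c.cent_t]
    exact mem_centralizer_singleton_iff.2 (h1 t c.tS)
  have hhH : h ∈ H := ⟨mem_centralizer_singleton_iff.2 hb, hh⟩
  have h2 : h * h = 1 := by
    by_contra hne
    have h3 := c.sq_cent hh (hop h hhH)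
    have h4 := c.sq_cent (hnH h hhH).2 (hop _ (hnH h hhH))
    apply c.ti h3 (hop _ (mul_mem hhH hhH)) hne
    rwa [show n * h * n⁻¹ * (n * h * n⁻¹) = n * (h * h) * n⁻¹ by group] at h4
  have h3 : h ∈ normalizer ((S : Subgroup G) : Set G) := by
    apply centralizer_le_normalizer
    rw [mem_centralizer_iff]
    intro s hs
    exact (hHS h hhH s hs).symm
  exact Transfer.mem_sylow_of_mem_normalizer (k := 1) h3 (by rw [pow_one, pow_two]; exact h2)

/-- `N(P) = P S` -/
theorem norm_eq {g : G} (hg : g ∈ normalizer ((P : Subgroup G) : Set G)) : ∃ x ∈ P, ∃ s ∈ S, g = x * s := by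
  obtain ⟨bS, bb, b1, bC, binv⟩ := c.b_spec
  set b := n * t * n⁻¹ with hbdef
  obtain ⟨L, hLN, hLp, hL⟩ := exists_compl P
  have hbN := c.S_le bS
  obtain ⟨x, hx, l, hl, e1⟩ := hL g hg
  obtain ⟨y, hy, m, hm, e2⟩ := hL b hbN
  have hlm : m * l = l * m := c.cx.ctx.abp.comm hLp hm hl
  have h1 : b * g * b⁻¹ * g⁻¹ ∈ (P : Subgroup G) := by
    have h2 : m * x * m⁻¹ ∈ (P : Subgroup G) := (mem_normalizer_iff.1 (hLN hm) x).1 hx
    have h3 : l * y⁻¹ * l⁻¹ ∈ (P : Subgroup G) := (mem_normalizer_iff.1 (hLN hl) y⁻¹).1 (inv_mem hy)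
    have e3 : b * g * b⁻¹ * g⁻¹ = y * (m * x * m⁻¹) * (l * y⁻¹ * l⁻¹) * x⁻¹ := by
      calc b * g * b⁻¹ * g⁻¹ = y * (m * x * m⁻¹) * (m * l) * (m⁻¹ * y⁻¹) * (l⁻¹ * x⁻¹) := by
            rw [e1, e2]; group
        _ = y * (m * x * m⁻¹) * (l * m) * (m⁻¹ * y⁻¹) * (l⁻¹ * x⁻¹) := by rw [hlm]
        _ = y * (m * x * m⁻¹) * (l * y⁻¹ * l⁻¹) * x⁻¹ := by group
    rw [e3]
    exact mul_mem (mul_mem (mul_mem hy h2) h3) (inv_mem hx)
  obtain ⟨z, hz⟩ : ∃ z, z = b * g * b⁻¹ * g⁻¹ := ⟨_, rfl⟩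
  rw [← hz] at h1
  obtain ⟨w, hw, hww⟩ : ∃ w ∈ P, w * w = z := by
    have hodd : ¬ 2 ∣ orderOf z := by
      intro hd
      obtain ⟨k, hk⟩ := Transfer.isPGroup_mem_pow P.2 h1
      exact c.cx.ctx.p2 ((Nat.prime_dvd_prime_iff_eq Nat.prime_two hpf.out).1
        (Nat.prime_two.dvd_of_dvd_pow (hd.trans (orderOf_dvd_of_pow_eq_one hk)))).symm
    refine ⟨z ^ ((orderOf z + 1) / 2), (P : Subgroup G).pow_mem h1 _, ?_⟩
    rw [← pow_add, show (orderOf z + 1) / 2 + (orderOf z + 1) / 2 = orderOf z + 1 by omega, pow_add,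
      pow_orderOf_eq_one, one_mul, pow_one]
  have hbg : b * g * b⁻¹ = z * g := by rw [hz]; group
  have h4 : b * (w * g) * b⁻¹ = w * g := by
    calc b * (w * g) * b⁻¹ = (b * w * b⁻¹) * (b * g * b⁻¹) := by group
      _ = w⁻¹ * (z * g) := by rw [hbg, binv w hw]
      _ = w⁻¹ * (w * w * g) := by rw [hww]
      _ = w * g := by group
  have h5 : w * g ∈ S := c.mem_S (mul_mem (le_normalizer hw) hg) (comm_of_conj_eq h4).symm
  exact ⟨w⁻¹, inv_mem hw, w * g, h5, by group⟩

theorem K_mem {u : G} (hu : u ∈ centralizer ((P : Subgroup G) : Set G)) : u ∈ P ∨ ∃ x ∈ P, u = x * t := by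
  obtain ⟨bS, bb, b1, bC, binv⟩ := c.b_spec
  obtain ⟨x, hx, s, hs, e⟩ := c.norm_eq (centralizer_le_normalizer _ hu)
  have hxC : x ∈ centralizer ((P : Subgroup G) : Set G) := by
    rw [mem_centralizer_iff]
    intro y hy
    exact c.cx.pcomm P hy hx
  have hsC : s ∈ centralizer ((P : Subgroup G) : Set G) := by
    have : s = x⁻¹ * u := by rw [e]; group
    rw [this]
    exact mul_mem (inv_mem hxC) hu
  rcases c.S_mem hs with rfl | rfl | rfl | rfl
  · left; rw [e, mul_one]; exact hx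
  · right; exact ⟨x, hx, e⟩
  · exact absurd hsC bC
  · exfalso
    apply bC
    have h1 := mul_mem (inv_mem c.tC) hsC
    rwa [inv_mul_cancel_left] at h1

theorem nbn : n * (n * t * n⁻¹) * n⁻¹ = t * (n * t * n⁻¹) := by
  obtain ⟨bS, bb, b1, bC, binv⟩ := c.b_spec
  have h1 : n * (n * t * n⁻¹) * n⁻¹ ∈ S := c.conj_S bS
  rcases c.S_mem h1 with h2 | h2 | h2 | h2
  · exact absurd (by simpa using h2) c.t1
  · exfalso
    apply c.nt
    have h3 : Commute (n ^ 2) t := by
      apply comm_of_conj_eq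
      rw [pow_two]
      calc n * n * t * (n * n)⁻¹ = n * (n * t * n⁻¹) * n⁻¹ := by group
        _ = t := h2
    have h4 : (orderOf n).Coprime 2 := Nat.coprime_comm.1 ((Nat.Prime.coprime_iff_not_dvd Nat.prime_two).2 c.no)
    obtain ⟨r, hr⟩ := exists_pow_eq_self_of_coprime h4.symm
    have h5 := h3.pow_left r
    rw [hr] at h5
    exact h5
  · exfalso
    apply bC
    have h3 : n * t * n⁻¹ = t := by
      have h4 : n * (n * t * n⁻¹) * n⁻¹ = n * t * n⁻¹ := h2
      have h5 : n * (n * t * n⁻¹) = n * t := mul_right_cancel h4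
      exact mul_left_cancel h5
    rw [h3]; exact c.tC
  · exact h2

theorem conf : BSW.Conf (centralizer ((P : Subgroup G) : Set G)) t (n * t * n⁻¹) := by
  obtain ⟨bS, bb, b1, bC, binv⟩ := c.b_spec
  have hbn := c.nbn
  set b := n * t * n⁻¹ with hbdef
  have htb : t * b = b * t := c.cx.ctx.scomm S c.tS bS
  have hCt : ∀ u ∈ centralizer ((P : Subgroup G) : Set G), u * t = t * u := by
    intro u hu
    have h1 : u ∈ centralizer ({t} : Set G) := by rw [c.cent_t]; exact centralizer_le_normalizer _ hu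
    exact mem_centralizer_singleton_iff.1 h1
  have hPC : ∀ x ∈ P, x ∈ centralizer ((P : Subgroup G) : Set G) := by
    intro x hx
    rw [mem_centralizer_iff]
    intro y hy
    exact c.cx.pcomm P hy hx
  have hPt : ∀ x ∈ P, t * x = x * t := fun x hx => (hCt x (hPC x hx)).symm
  have hsq : ∀ x ∈ P, (x * t) * (x * t) = x * x := by
    intro x hx
    calc (x * t) * (x * t) = x * (t * x) * t := by group
      _ = x * (x * t) * t := by rw [hPt x hx]
      _ = x * x * (t * t) := by group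
      _ = x * x := by rw [c.tt, mul_one]
  refine ⟨?_, c.tC, c.t1, c.tt, ?_, bC, bb, ?_, ?_, ?_, ?_⟩
  · intro u hu v hv
    rcases c.K_mem hv with h1 | ⟨x, hx, rfl⟩
    · exact (mem_centralizer_iff.1 hu v h1).symm
    · have h1 : x * u = u * x := mem_centralizer_iff.1 hu x hx
      calc u * (x * t) = (u * x) * t := by group
        _ = (x * u) * t := by rw [h1]
        _ = x * (u * t) := by group
        _ = x * (t * u) := by rw [hCt u hu]
        _ = x * t * u := by group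
  · intro u hu huu
    rcases c.K_mem hu with h1 | ⟨x, hx, rfl⟩
    · exact Or.inl (c.P_sq h1 huu)
    · right
      rw [hsq x hx] at huu
      rw [c.P_sq hx huu, one_mul]
  · intro u hu
    rcases c.K_mem hu with h1 | ⟨x, hx, rfl⟩
    · exact binv u h1
    · calc b * (x * t) * b⁻¹ = (b * x * b⁻¹) * (b * t) * b⁻¹ := by group
        _ = x⁻¹ * (t * b) * b⁻¹ := by rw [binv x hx, htb]
        _ = x⁻¹ * t := by group
        _ = t * x⁻¹ := by rw [hPt _ (inv_mem hx)]
        _ = (x * t)⁻¹ := by rw [mul_inv_rev, inv_eq_of_mul_eq_one_left c.tt]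
  · intro x hx
    have h1 : x ∈ normalizer ((P : Subgroup G) : Set G) := by
      rw [← c.cent_t]; exact mem_centralizer_singleton_iff.2 hx
    obtain ⟨y, hy, s, hs, e⟩ := c.norm_eq h1
    rcases c.S_mem hs with rfl | rfl | h2 | h2
    · left; rw [e, mul_one]; exact hPC y hy
    · left; rw [e]; exact mul_mem (hPC y hy) c.tC
    · right
      rw [e, h2, mul_assoc, bb, mul_one]
      exact hPC y hy
    · right
      rw [e, h2, mul_assoc, mul_assoc, bb, mul_one]
      exact mul_mem (hPC y hy) c.tC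
  · intro u hu hu1 hut x hxu
    have h1 : ∃ y ∈ P, y ≠ 1 ∧ u * u = y * y := by
      rcases c.K_mem hu with h1 | ⟨y, hy, rfl⟩
      · exact ⟨u, h1, hu1, rfl⟩
      · exact ⟨y, hy, fun h => hut (by rw [h, one_mul]), hsq y hy⟩
    obtain ⟨y, hy, hy1, e⟩ := h1
    have h2 : y * y ≠ 1 := fun h => hy1 (c.P_sq hy h)
    apply c.cx.cent_le P (mul_mem hy hy) h2
    rw [mem_centralizer_singleton_iff, ← e]
    exact (show Commute x u from hxu).mul_right hxu
  · intro x hx1 hxx
    obtain ⟨T, hT⟩ := exists_sylow_inv hxx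
    obtain ⟨g, hg⟩ := MulAction.exists_smul_eq G T S
    have h1 : g * x * g⁻¹ ∈ S := by
      rw [← hg]
      exact ⟨x, hT, rfl⟩
    rcases c.S_mem h1 with h2 | h2 | h2 | h2
    · exact absurd (by simpa using h2) hx1
    · exact ⟨g, h2⟩
    · refine ⟨n⁻¹ * g, ?_⟩
      calc n⁻¹ * g * x * (n⁻¹ * g)⁻¹ = n⁻¹ * (g * x * g⁻¹) * n := by group
        _ = n⁻¹ * b * n := by rw [h2]
        _ = t := by rw [hbdef]; group
    · refine ⟨n⁻¹ * n⁻¹ * g, ?_⟩
      calc n⁻¹ * n⁻¹ * g * x * (n⁻¹ * n⁻¹ * g)⁻¹ = n⁻¹ * (n⁻¹ * (g * x * g⁻¹) * n) * n := by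
            simp only [mul_inv_rev, inv_inv, mul_assoc]
        _ = n⁻¹ * (n⁻¹ * (n * b * n⁻¹) * n) * n := by rw [h2, hbn]
        _ = n⁻¹ * b * n := by group
        _ = t := by rw [hbdef]; group

theorem false : False := by
  have hconf := c.conf
  obtain rfl := c.p_three
  set K : Subgroup G := centralizer ((P : Subgroup G) : Set G) with hK
  have h2 : 2 ∣ Nat.card K := hconf.even_card
  have h3 : 3 ∣ Nat.card K := by
    have h4 : (P : Subgroup G) ≤ K := by
      intro x hx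
      rw [hK, mem_centralizer_iff]
      intro y hy
      exact c.cx.pcomm P hy hx
    refine dvd_trans ?_ (card_dvd_of_le h4)
    have h5 := P.card_eq_multiplicity
    rw [h5]
    exact dvd_pow_self 3 (Nat.Prime.factorization_pos_of_dvd Nat.prime_three Nat.card_pos.ne' c.cx.p_dvd).ne'
  obtain ⟨k, hk6⟩ : 6 ∣ Nat.card K := by omega
  have hK0 : 0 < Nat.card K := Nat.card_pos
  have hk : 4 ≤ Nat.card K := by omega
  letI := Fintype.ofFinite G
  obtain ⟨δ, q, ψ, χ, ν, Dt⟩ := hconf.exists_data hk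
  have hn0 : 0 ≤ (Nat.card K : ℤ) + δ := by
    rcases Dt.hδ with h | h <;> rw [h] <;> omega
  obtain ⟨r, hr⟩ : ∃ r : ℕ, (r : ℤ) = Nat.card K + δ := ⟨_, Int.toNat_of_nonneg hn0⟩
  have N : BSW.Num (Nat.card K) q r (Nat.card G) δ := by
    refine ⟨Dt.hδ, hk, hconf.even_card, hr, Dt.hq, ?_⟩
    have := Dt.hg
    rw [← hr] at this
    exact_mod_cast this
  obtain ⟨Q, hQ⟩ := BSW.exists_selfCent hconf Dt N
  have hNQ := BSW.card_normalizer hconf Dt N hQ
  have hQc := hQ.card
  have hqe := Dt.hq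
  have hQN : Q ≤ normalizer (Q : Set G) := le_normalizer
  have hQne : ∃ y ∈ Q, y ≠ 1 := by
    by_contra hcon
    push Not at hcon
    have : Q = ⊥ := (eq_bot_iff_forall Q).2 hcon
    rw [this, card_bot] at hQc
    have := N.q_ge
    omega
  obtain ⟨y, hy, hy1⟩ := hQne
  rcases Dt.hδ with h | h
  · -- `δ = 1`
    rw [h, hk6] at hqe
    have hq : q = 12 * k + 1 := by push_cast at hqe; omega
    have h4 : Nat.card (normalizer (Q : Set G)) = (6 * k) * q := by
      have h5 : q - 1 = 2 * (6 * k) := by omega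
      rw [h5, mul_assoc] at hNQ
      exact Nat.eq_of_mul_eq_mul_left (by norm_num) hNQ
    have h5 : 2 ∣ Nat.card (normalizer (Q : Set G)) := by
      rw [h4]; exact ⟨3 * k * q, by ring⟩
    obtain ⟨⟨z, hz⟩, hzo⟩ := exists_prime_orderOf_dvd_card' 2 h5
    rw [orderOf_mk] at hzo
    have h6 : ¬ 3 ∣ Nat.card ↥(Q ⊔ zpowers z) := by
      apply not_dvd_sup
      · rw [hQc]; omega
      · rw [Nat.card_zpowers, hzo]; norm_num
      · rw [zpowers_le]; exact hz
    have h7 : z * y = y * z := c.cx.ctx.abp.comm h6 ((le_sup_right : zpowers z ≤ _) (mem_zpowers z))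
      ((le_sup_left : Q ≤ _) hy)
    have h8 := hQ.cent y hy hy1 z h7
    have h9 := orderOf_dvd_natCard (⟨z, h8⟩ : Q)
    rw [orderOf_mk, hzo, hQc] at h9
    omega
  · -- `δ = -1`
    rw [h, hk6] at hqe
    have hk1 : 1 ≤ k := by
      by_contra h'
      have : k = 0 := by omega
      rw [this] at hk6
      omega
    have hq : q = 12 * k - 1 := by push_cast at hqe; omega
    have h4 : Nat.card (normalizer (Q : Set G)) = (6 * k - 1) * q := by
      have h5 : q - 1 = 2 * (6 * k - 1) := by omega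
      rw [h5, mul_assoc] at hNQ
      exact Nat.eq_of_mul_eq_mul_left (by norm_num) hNQ
    have h5 : ¬ 3 ∣ Nat.card (normalizer (Q : Set G)) := by
      rw [h4]
      intro h6
      rcases Nat.prime_three.dvd_mul.1 h6 with h7 | h7 <;> omega
    have h6 : normalizer (Q : Set G) ≤ Q := by
      intro z hz
      exact hQ.cent y hy hy1 z (c.cx.ctx.abp.comm h5 hz (hQN hy))
    have h7 : Nat.card (normalizer (Q : Set G)) ≤ Nat.card Q := card_le_of_le h6
    rw [h4, hQc] at h7
    have h8 : 2 * q ≤ (6 * k - 1) * q := Nat.mul_le_mul_right q (by omega)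
    have := N.q_ge
    omega

end Cz

theorem Cx.false (c : Cx p G) : False := by
  obtain ⟨P, S, t, n, h⟩ := c.exists_cz
  exact h.false

end Cfsg.Agent.H70.CycP
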