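import Mathlib
import Cfsg.Agent.S3975
import Cfsg.Agent.Solv.Frattini
import Cfsg.Agent.Frob.Complement
import Cfsg.Agent.OddP.CyclicMaxOmega

/-!
Counting subgroups of given order in a finite `p`-group modulo `p ^ 2`.  Owner: helper70.
-/

set_option autoImplicit false

namespace Cfsg.Agent.H70

open Subgroup

universe u

/-- the number of subgroups of order `p ^ a` -/
noncomputable def ns (p a : ℕ) (P : Type*) [Group P] : ℕ :=
  Nat.card {H : Subgroup P // Nat.card H = p ^ a}

theorem ns_congr {P Q : Type*} [Group P] [Group Q] (e : P ≃* Q) (p a : ℕ) : ns p a P = ns p a Q := by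
  unfold ns
  refine Nat.card_congr (Equiv.subtypeEquiv e.mapSubgroup.toEquiv (fun H => ?_))
  change _ ↔ Nat.card (H.map (e : P →* Q)) = p ^ a
  rw [Nat.card_congr (H.equivMapOfInjective (e : P →* Q) e.injective).symm.toEquiv]

/-- duality: subgroups of given index and given order in a finite abelian group -/
theorem card_index_eq_card_card {Q : Type*} [CommGroup Q] [Finite Q] (m : ℕ) :
    Nat.card {M : Subgroup Q // M.index = m} = Nat.card {M : Subgroup Q // Nat.card M = m} := by
  have hne : NeZero (Monoid.exponent Q : ℕ) := inferInstance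
  obtain ⟨e⟩ := CommGroup.monoidHom_mulEquiv_of_hasEnoughRootsOfUnity Q ℂ
  have h1 : Nat.card {M : Subgroup Q // M.index = m} =
      Nat.card {M : Subgroup (Q →* ℂˣ) // Nat.card M = m} := by
    refine Nat.card_congr (Equiv.subtypeEquiv
      ((CommGroup.subgroupOrderIsoSubgroupMonoidHom Q ℂ).toEquiv.trans OrderDual.ofDual) (fun H => ?_))
    change _ ↔ Nat.card (CommGroup.subgroupOrderIsoSubgroupMonoidHom Q ℂ H).ofDual = m
    rw [CommGroup.card_subgroupOrderIsoSubgroupMonoidHom]
    rfl
  rw [h1]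
  refine Nat.card_congr (Equiv.subtypeEquiv e.mapSubgroup.toEquiv (fun H => ?_))
  change _ ↔ Nat.card (H.map (e : (Q →* ℂˣ) →* Q)) = m
  rw [Nat.card_congr (H.equivMapOfInjective (e : (Q →* ℂˣ) →* Q) e.injective).symm.toEquiv]

/-- the number of subgroups of order `p` in an elementary abelian group -/
theorem card_subgroups_order_prime {Q : Type u} [Group Q] [Finite Q] {p k : ℕ} [hp : Fact p.Prime]
    (hQ : Nat.card Q = p ^ k) (hexp : ∀ x : Q, x ^ p = 1) :
    Nat.card {H : Subgroup Q // Nat.card H = p} * (p - 1) + 1 = p ^ k := by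
  classical
  have hp1 := hp.out.one_lt
  have hord : ∀ x : Q, x ≠ 1 → orderOf x = p := fun x hx => orderOf_eq_prime (hexp x) hx
  let e : {x : Q // x ≠ 1} ≃ Σ H : {H : Subgroup Q // Nat.card H = p}, {x : H.1 // x ≠ 1} :=
    { toFun := fun x => ⟨⟨zpowers (x : Q), by rw [Nat.card_zpowers, hord x x.2]⟩,
        ⟨⟨x, mem_zpowers _⟩, fun h => x.2 (congrArg Subtype.val h)⟩⟩
      invFun := fun y => ⟨(y.2.1 : Q), fun h => y.2.2 (Subtype.ext h)⟩
      left_inv := by rintro ⟨x, hx⟩; rfl
      right_inv := by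
        rintro ⟨⟨H, hH⟩, ⟨⟨x, hxH⟩, hx⟩⟩
        have hx1 : x ≠ 1 := fun h => hx (Subtype.ext h)
        have hz : zpowers x = H := by
          apply Subgroup.eq_of_le_of_card_ge
          · rw [zpowers_le]; exact hxH
          · rw [hH, Nat.card_zpowers, hord x hx1]
        subst hz
        rfl }
  have h1 := Nat.card_congr e
  have hfin : Finite {H : Subgroup Q // Nat.card H = p} := inferInstance
  have : Fintype {H : Subgroup Q // Nat.card H = p} := Fintype.ofFinite _
  rw [Nat.card_sigma] at h1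
  have hne : ∀ (α : Type u) [Group α] [Finite α], Nat.card {x : α // x ≠ 1} = Nat.card α - 1 := by
    intro α _ _
    have : Fintype α := Fintype.ofFinite α
    rw [Nat.card_eq_fintype_card, Nat.card_eq_fintype_card, Fintype.card_subtype_compl,
      Fintype.card_subtype_eq]
  rw [hne, hQ] at h1
  have h2 : ∀ H : {H : Subgroup Q // Nat.card H = p}, Nat.card {x : H.1 // x ≠ 1} = p - 1 := by
    rintro ⟨H, hH⟩
    rw [hne, hH]
  simp only [h2] at h1
  rw [Finset.sum_const, Finset.card_univ, smul_eq_mul] at h1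
  rw [Nat.card_eq_fintype_card, ← h1]
  have : 0 < p ^ k := pow_pos hp.out.pos k
  omega

/-- number of index `p` subgroups of an elementary abelian group of order `p ^ k` -/
theorem card_index_prime_elem {Q : Type u} [CommGroup Q] [Finite Q] {p k : ℕ} [hp : Fact p.Prime]
    (hQ : Nat.card Q = p ^ k) (hexp : ∀ x : Q, x ^ p = 1) :
    Nat.card {H : Subgroup Q // H.index = p} * (p - 1) + 1 = p ^ k := by
  rw [card_index_eq_card_card]
  exact card_subgroups_order_prime hQ hexp

theorem modEq_of_geom {p N k : ℕ} (hp : 1 < p) (h : N * (p - 1) + 1 = p ^ k) (hk : 2 ≤ k) :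
    N ≡ 1 + p [MOD p ^ 2] := by
  have h1 : (1 + p) * (p - 1) + 1 = p ^ 2 := by
    obtain ⟨q, rfl⟩ : ∃ q, p = q + 1 := ⟨p - 1, by omega⟩
    simp only [Nat.add_sub_cancel]
    ring
  have h2 : N * (p - 1) + 1 ≡ (1 + p) * (p - 1) + 1 [MOD p ^ 2] := by
    rw [h, h1]
    have h3 : p ^ 2 ∣ p ^ k := pow_dvd_pow p hk
    exact ((Nat.modEq_zero_iff_dvd.mpr h3)).trans (Nat.modEq_zero_iff_dvd.mpr dvd_rfl).symm
  have h3 := Nat.ModEq.add_right_cancel' 1 h2
  apply Nat.ModEq.cancel_right_of_coprime _ h3
  apply Nat.Coprime.pow_left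
  have : Nat.Coprime p (p - 1) := by
    rw [Nat.coprime_comm]
    have := Nat.coprime_self_add_right (m := p - 1) (n := 1)
    have h4 : p - 1 + 1 = p := by omega
    rw [h4] at this
    exact this.mpr (Nat.coprime_one_right _)
  exact this

theorem eq_one_of_geom {p N : ℕ} (hp : 1 < p) (h : N * (p - 1) + 1 = p ^ 1) : N = 1 := by
  rw [pow_one] at h
  have : N * (p - 1) = 1 * (p - 1) := by omega
  exact Nat.eq_of_mul_eq_mul_right (by omega) this

/-- correspondence with the quotient -/
theorem card_above {P : Type*} [Group P] (L : Subgroup P) [L.Normal] (m : ℕ) :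
    Nat.card {M : Subgroup P // L ≤ M ∧ M.index = m} =
      Nat.card {M : Subgroup (P ⧸ L) // M.index = m} := by
  apply Nat.card_congr
  refine
    { toFun := fun M => ⟨M.1.map (QuotientGroup.mk' L), ?_⟩
      invFun := fun M => ⟨M.1.comap (QuotientGroup.mk' L), ?_, ?_⟩
      left_inv := ?_
      right_inv := ?_ }
  · rw [Subgroup.index_map_eq M.1 (QuotientGroup.mk'_surjective _)
      (by rw [QuotientGroup.ker_mk']; exact M.2.1), M.2.2]
  · intro x hx
    have : QuotientGroup.mk' L x = 1 := (QuotientGroup.eq_one_iff x).mpr hx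
    rw [Subgroup.mem_comap, this]
    exact M.1.one_mem
  · rw [Subgroup.index_comap_of_surjective _ (QuotientGroup.mk'_surjective _), M.2]
  · rintro ⟨M, hM1, hM2⟩
    apply Subtype.ext
    change (M.map (QuotientGroup.mk' L)).comap (QuotientGroup.mk' L) = M
    rw [Subgroup.comap_map_eq, QuotientGroup.ker_mk', sup_eq_left.mpr hM1]
  · rintro ⟨M, hM⟩
    apply Subtype.ext
    change (M.comap (QuotientGroup.mk' L)).map (QuotientGroup.mk' L) = M
    exact Subgroup.map_comap_eq_self_of_surjective (QuotientGroup.mk'_surjective _) _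

theorem index_prime_coatom {P : Type*} [Group P] [Finite P] {p : ℕ} (hp : p.Prime)
    (M : Subgroup P) (hM : M.index = p) : IsCoatom M := by
  constructor
  · rintro rfl
    rw [Subgroup.index_top] at hM
    exact hp.one_lt.ne hM
  · intro K hK
    have h1 : M.relIndex K * K.index = p := by rw [Subgroup.relIndex_mul_index hK.le, hM]
    have h2 : M.relIndex K ≠ 1 := by
      intro h
      exact hK.not_ge (Subgroup.relIndex_eq_one.mp h)
    have h3 : K.index ∣ p := ⟨M.relIndex K, by rw [mul_comm, h1]⟩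
    rcases (Nat.dvd_prime hp).mp h3 with h4 | h4
    · exact Subgroup.index_eq_one.mp h4
    · exfalso
      rw [h4] at h1
      exact h2 (Nat.eq_of_mul_eq_mul_right hp.pos (by rw [h1, one_mul]))

/-- maximal subgroups containing `H` -/
noncomputable def t1 {P : Type*} [Group P] (p : ℕ) (H : Subgroup P) : ℕ :=
  Nat.card {M : Subgroup P // H ≤ M ∧ M.index = p}

/-- index `p ^ 2` subgroups containing `H` and the Frattini subgroup -/
noncomputable def t2 {P : Type*} [Group P] (p : ℕ) (H : Subgroup P) : ℕ :=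
  Nat.card {N : Subgroup P // H ≤ N ∧ (frattini P ≤ N ∧ N.index = p ^ 2)}

section frat

variable {P : Type*} [Group P] [Finite P] {p : ℕ} [hp : Fact p.Prime] (hP : IsPGroup p P)

include hP in
theorem comm_le_sup (H : Subgroup P) : commutator P ≤ H ⊔ frattini P :=
  (Solv.commutator_le_frattini_of_pGroup hP).trans le_sup_right

include hP in
theorem t_formulas (H : Subgroup P) (k : ℕ) (hk : (H ⊔ frattini P).index = p ^ k) :
    t1 p H * (p - 1) + 1 = p ^ k ∧ (2 ≤ k → t2 p H ≡ 1 [MOD p]) ∧ (k < 2 → t2 p H = 0) := by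
  set L := H ⊔ frattini P with hL
  have hLn : L.Normal := Subgroup.Normal.of_commutator_le _ (comm_le_sup hP H)
  let inst : CommGroup (P ⧸ L) :=
    { (inferInstance : Group (P ⧸ L)) with
      mul_comm := ((Subgroup.Normal.quotient_commutative_iff_commutator_le).mpr
        (comm_le_sup hP H)).is_comm.comm }
  have hexp : ∀ x : P ⧸ L, x ^ p = 1 := by
    intro x
    obtain ⟨a, rfl⟩ := QuotientGroup.mk'_surjective L x
    rw [← map_pow]
    exact (QuotientGroup.eq_one_iff _).mpr
      ((le_sup_right : frattini P ≤ L) (Solv.pow_mem_frattini_of_pGroup hP a))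
  have hcard : Nat.card (P ⧸ L) = p ^ k := by rw [← hk]; rfl
  have h1 : t1 p H = Nat.card {M : Subgroup (P ⧸ L) // M.index = p} := by
    rw [← card_above]
    unfold t1
    refine Nat.card_congr (Equiv.subtypeEquivRight (fun M => ?_))
    constructor
    · rintro ⟨h1, h2⟩
      exact ⟨sup_le h1 (frattini_le_coatom (index_prime_coatom hp.out M h2)), h2⟩
    · rintro ⟨h1, h2⟩
      exact ⟨le_sup_left.trans h1, h2⟩
  have h2 : t2 p H = Nat.card {M : Subgroup (P ⧸ L) // M.index = p ^ 2} := by
    rw [← card_above]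
    unfold t2
    refine Nat.card_congr (Equiv.subtypeEquivRight (fun M => ?_))
    constructor
    · rintro ⟨h1, h2, h3⟩
      exact ⟨sup_le h1 h2, h3⟩
    · rintro ⟨h1, h2⟩
      exact ⟨le_sup_left.trans h1, le_sup_right.trans h1, h2⟩
  refine ⟨?_, ?_, ?_⟩
  · rw [h1]
    exact card_index_prime_elem hcard hexp
  · intro hk2
    have h3 : Nat.card {M : Subgroup (P ⧸ L) // M.index = p ^ 2} =
        Nat.card {M : Subgroup (P ⧸ L) // Nat.card M = p ^ (k - 2)} := by
      refine Nat.card_congr (Equiv.subtypeEquivRight (fun M => ?_))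
      have h4 := Subgroup.card_mul_index M
      have h5 : p ^ k = p ^ (k - 2) * p ^ 2 := by rw [← pow_add]; congr 1; omega
      rw [hcard, h5] at h4
      constructor
      · intro h6
        rw [h6] at h4
        exact Nat.eq_of_mul_eq_mul_right (pow_pos hp.out.pos 2) h4
      · intro h6
        rw [h6] at h4
        exact Nat.eq_of_mul_eq_mul_left (pow_pos hp.out.pos _) h4
    rw [h2, h3]
    exact S3975.result p (k - 2) hp.out (by rw [hcard]; exact pow_dvd_pow p (by omega))
  · intro hk2
    rw [h2]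
    have hemp : IsEmpty {M : Subgroup (P ⧸ L) // M.index = p ^ 2} := by
      constructor
      rintro ⟨M, hM⟩
      have h4 : M.index ∣ p ^ k := by rw [← hcard]; exact Subgroup.index_dvd_card M
      rw [hM] at h4
      have := (Nat.pow_dvd_pow_iff_le_right hp.out.one_lt).mp h4
      omega
    exact Nat.card_of_isEmpty

include hP in
theorem t_rel (H : Subgroup P) (hH : H ≠ ⊤) : t1 p H ≡ 1 + p * t2 p H [MOD p ^ 2] := by
  obtain ⟨k, hk⟩ := hP.index (H ⊔ frattini P)
  obtain ⟨h1, h2, h3⟩ := t_formulas hP H k hk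
  have hk0 : k ≠ 0 := by
    rintro rfl
    rw [pow_zero, Subgroup.index_eq_one] at hk
    exact hH (frattini_nongenerating hk)
  by_cases hk1 : k = 1
  · subst hk1
    rw [eq_one_of_geom hp.out.one_lt h1, h3 (by norm_num), mul_zero, add_zero]
  · have hk2 : 2 ≤ k := by omega
    have h4 := modEq_of_geom hp.out.one_lt h1 hk2
    have h5 : p * t2 p H ≡ p * 1 [MOD p * p] := Nat.ModEq.mul_left' p (h2 hk2)
    rw [mul_one, ← pow_two] at h5
    exact h4.trans (Nat.ModEq.add_left 1 h5.symm)

include hP in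
theorem exists_index_frattini (hc : ¬ IsCyclic P) : ∃ k, 2 ≤ k ∧ (frattini P).index = p ^ k := by
  obtain ⟨k, hk⟩ := hP.index (frattini P)
  refine ⟨k, ?_, hk⟩
  by_contra hlt
  apply hc
  have h1 := (Solv.burnside_basis hP hk ⊤ (by simp)).1
  obtain ⟨T, -, hT2, hT3⟩ := h1
  have hT1 : T.ncard ≤ 1 := by omega
  have hfin : T.Finite := Set.toFinite T
  rcases Set.eq_empty_or_nonempty T with rfl | ⟨x, hx⟩
  · rw [Subgroup.closure_empty] at hT3
    have : Subsingleton P := by
      constructor
      intro a b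
      have ha : a ∈ (⊥ : Subgroup P) := by rw [hT3]; exact Subgroup.mem_top _
      have hb : b ∈ (⊥ : Subgroup P) := by rw [hT3]; exact Subgroup.mem_top _
      rw [Subgroup.mem_bot.mp ha, Subgroup.mem_bot.mp hb]
    infer_instance
  · have hTx : T ⊆ {x} := by
      intro y hy
      exact (Set.ncard_le_one hfin).mp hT1 y hy x hx
    refine ⟨x, fun y => ?_⟩
    change y ∈ zpowers x
    rw [Subgroup.zpowers_eq_closure]
    exact Subgroup.closure_mono hTx (by rw [hT3]; exact Subgroup.mem_top y)

include hP in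
/-- the number of maximal subgroups of a non-cyclic `p`-group -/
theorem card_max (hc : ¬ IsCyclic P) :
    Nat.card {M : Subgroup P // M.index = p} ≡ 1 + p [MOD p ^ 2] := by
  obtain ⟨k, hk2, hk⟩ := exists_index_frattini hP hc
  obtain ⟨h1, h2, h3⟩ := t_formulas hP (⊥ : Subgroup P) k (by rw [bot_sup_eq, hk])
  have h4 := modEq_of_geom hp.out.one_lt h1 hk2
  have h5 : t1 p (⊥ : Subgroup P) = Nat.card {M : Subgroup P // M.index = p} := by
    unfold t1
    refine Nat.card_congr (Equiv.subtypeEquivRight (fun M => ?_))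
    simp
  rwa [h5] at h4

include hP in
theorem card_index_sq (hc : ¬ IsCyclic P) :
    Nat.card {N : Subgroup P // frattini P ≤ N ∧ N.index = p ^ 2} ≡ 1 [MOD p] := by
  obtain ⟨k, hk2, hk⟩ := exists_index_frattini hP hc
  obtain ⟨h1, h2, h3⟩ := t_formulas hP (⊥ : Subgroup P) k (by rw [bot_sup_eq, hk])
  have h4 := h2 hk2
  have h5 : t2 p (⊥ : Subgroup P) = Nat.card {N : Subgroup P // frattini P ≤ N ∧ N.index = p ^ 2} := by
    unfold t2
    refine Nat.card_congr (Equiv.subtypeEquivRight (fun M => ?_))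
    simp
  rwa [h5] at h4

end frat

theorem double_count {α β : Type*} [Fintype α] [Fintype β] (r : α → β → Prop) :
    ∑ a : α, Nat.card {b // r a b} = ∑ b : β, Nat.card {a // r a b} := by
  rw [← Nat.card_sigma, ← Nat.card_sigma]
  exact Nat.card_congr
    { toFun := fun x => ⟨x.2.1, x.1, x.2.2⟩
      invFun := fun x => ⟨x.2.1, x.1, x.2.2⟩
      left_inv := fun x => rfl
      right_inv := fun x => rfl }

theorem ns_subgroup {P : Type*} [Group P] (p a : ℕ) (M : Subgroup P) :
    ns p a M = Nat.card {H : {H : Subgroup P // Nat.card H = p ^ a} // H.1 ≤ M} := by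
  unfold ns
  refine Nat.card_congr
    { toFun := fun H => ⟨⟨H.1.map M.subtype, ?_⟩, ?_⟩
      invFun := fun H => ⟨H.1.1.subgroupOf M, ?_⟩
      left_inv := ?_
      right_inv := ?_ }
  · exact (Nat.card_congr
      (H.1.equivMapOfInjective M.subtype M.subtype_injective).symm.toEquiv).trans H.2
  · exact Subgroup.map_subtype_le _
  · exact (Nat.card_congr (Subgroup.subgroupOfEquivOfLe H.2).toEquiv).trans H.1.2
  · rintro ⟨H, hH⟩
    apply Subtype.ext
    change (H.map M.subtype).subgroupOf M = H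
    exact Subgroup.comap_map_eq_self_of_injective M.subtype_injective H
  · rintro ⟨⟨H, hH1⟩, hH2⟩
    apply Subtype.ext
    apply Subtype.ext
    change (H.subgroupOf M).map M.subtype = H
    exact Subgroup.map_subgroupOf_eq_of_le hH2

/-- **Hall's enumeration** modulo `p ^ 2`. -/
theorem enum_principle {P : Type*} [Group P] [Finite P] {p : ℕ} [hp : Fact p.Prime]
    {n : ℕ} (hn : Nat.card P = p ^ n) (hc : ¬ IsCyclic P) (a : ℕ) (ha : a + 2 ≤ n)
    [Fintype {M : Subgroup P // M.index = p}] :
    ∑ M : {M : Subgroup P // M.index = p}, ns p a M.1 ≡ ns p a P + p [MOD p ^ 2] := by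
  have hP : IsPGroup p P := IsPGroup.of_card hn
  have f1 : Fintype {H : Subgroup P // Nat.card H = p ^ a} := Fintype.ofFinite _
  have f2 : Fintype {N : Subgroup P // frattini P ≤ N ∧ N.index = p ^ 2} := Fintype.ofFinite _
  -- first sum
  have e1 : ∑ M : {M : Subgroup P // M.index = p}, ns p a M.1 =
      ∑ H : {H : Subgroup P // Nat.card H = p ^ a}, t1 p H.1 := by
    simp only [ns_subgroup]
    rw [double_count (fun (M : {M : Subgroup P // M.index = p})
      (H : {H : Subgroup P // Nat.card H = p ^ a}) => H.1 ≤ M.1)]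
    refine Finset.sum_congr rfl (fun H _ => ?_)
    unfold t1
    exact Nat.card_congr
      { toFun := fun M => ⟨M.1.1, M.2, M.1.2⟩
        invFun := fun M => ⟨⟨M.1, M.2.2⟩, M.2.1⟩
        left_inv := fun M => rfl
        right_inv := fun M => rfl }
  have e2 : ∑ N : {N : Subgroup P // frattini P ≤ N ∧ N.index = p ^ 2}, ns p a N.1 =
      ∑ H : {H : Subgroup P // Nat.card H = p ^ a}, t2 p H.1 := by
    simp only [ns_subgroup]
    rw [double_count (fun (M : {N : Subgroup P // frattini P ≤ N ∧ N.index = p ^ 2})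
      (H : {H : Subgroup P // Nat.card H = p ^ a}) => H.1 ≤ M.1)]
    refine Finset.sum_congr rfl (fun H _ => ?_)
    unfold t2
    exact Nat.card_congr
      { toFun := fun M => ⟨M.1.1, M.2, M.1.2⟩
        invFun := fun M => ⟨⟨M.1, M.2.2⟩, M.2.1⟩
        left_inv := fun M => rfl
        right_inv := fun M => rfl }
  -- second sum mod p
  have e3 : ∑ H : {H : Subgroup P // Nat.card H = p ^ a}, t2 p H.1 ≡ 1 [MOD p] := by
    rw [← e2]
    have h1 : ∑ N : {N : Subgroup P // frattini P ≤ N ∧ N.index = p ^ 2}, ns p a N.1 ≡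
        ∑ N : {N : Subgroup P // frattini P ≤ N ∧ N.index = p ^ 2}, 1 [MOD p] := by
      apply Nat.ModEq.sum
      intro N _
      have hcN : Nat.card N.1 = p ^ (n - 2) := by
        have h2 := Subgroup.card_mul_index N.1
        rw [N.2.2, hn] at h2
        have h3 : p ^ n = p ^ (n - 2) * p ^ 2 := by rw [← pow_add]; congr 1; omega
        rw [h3] at h2
        exact Nat.eq_of_mul_eq_mul_right (pow_pos hp.out.pos 2) h2
      exact S3975.result p a hp.out (by rw [hcN]; exact pow_dvd_pow p (by omega))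
    refine h1.trans ?_
    rw [Finset.sum_const, Finset.card_univ, smul_eq_mul, mul_one, ← Nat.card_eq_fintype_card]
    exact card_index_sq hP hc
  have e4 : ∑ H : {H : Subgroup P // Nat.card H = p ^ a}, t1 p H.1 ≡
      ∑ H : {H : Subgroup P // Nat.card H = p ^ a}, (1 + p * t2 p H.1) [MOD p ^ 2] := by
    apply Nat.ModEq.sum
    intro H _
    apply t_rel hP
    intro htop
    have h1 := H.2
    rw [htop, Subgroup.card_top, hn] at h1
    have := Nat.pow_right_injective hp.out.two_le h1
    omega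
  rw [e1]
  refine e4.trans ?_
  rw [Finset.sum_add_distrib, Finset.sum_const, Finset.card_univ, smul_eq_mul, mul_one,
    ← Nat.card_eq_fintype_card, ← Finset.mul_sum]
  apply Nat.ModEq.add_left
  have h5 : p * ∑ H : {H : Subgroup P // Nat.card H = p ^ a}, t2 p H.1 ≡ p * 1 [MOD p * p] :=
    Nat.ModEq.mul_left' p e3
  rwa [mul_one, ← pow_two] at h5

theorem ns_top {P : Type*} [Group P] [Finite P] {p : ℕ} [hp : Fact p.Prime]
    {n : ℕ} (hn : Nat.card P = p ^ n) (h1 : 1 ≤ n) (hc : ¬ IsCyclic P) :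
    ns p (n - 1) P ≡ 1 + p [MOD p ^ 2] := by
  have hP : IsPGroup p P := IsPGroup.of_card hn
  have h2 : ns p (n - 1) P = Nat.card {M : Subgroup P // M.index = p} := by
    unfold ns
    refine Nat.card_congr (Equiv.subtypeEquivRight (fun M => ?_))
    have h4 := Subgroup.card_mul_index M
    have h5 : p ^ n = p ^ (n - 1) * p := by rw [← pow_succ]; congr 1; omega
    rw [hn, h5] at h4
    constructor
    · intro h6
      rw [h6] at h4
      exact Nat.eq_of_mul_eq_mul_left (pow_pos hp.out.pos _) h4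
    · intro h6
      rw [h6] at h4
      exact Nat.eq_of_mul_eq_mul_right hp.out.pos h4
  rw [h2]
  exact card_max hP hc

theorem ns_cyclic {P : Type*} [Group P] [Finite P] {p : ℕ} [hp : Fact p.Prime] [hc : IsCyclic P]
    {n : ℕ} (hn : Nat.card P = p ^ n) (a : ℕ) (ha : a ≤ n) : ns p a P = 1 := by
  unfold ns
  rw [Nat.card_eq_one_iff_unique]
  constructor
  · constructor
    rintro ⟨H, hH⟩ ⟨K, hK⟩
    apply Subtype.ext
    exact Frob.eq_of_card_eq_of_isCyclic H K (hH.trans hK.symm)
  · obtain ⟨g, hg⟩ := hc.exists_generator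
    have ho : orderOf g = p ^ n := by
      rw [← hn]
      exact orderOf_eq_card_of_forall_mem_zpowers hg
    refine ⟨⟨zpowers (g ^ p ^ (n - a)), ?_⟩⟩
    rw [Nat.card_zpowers, orderOf_pow, ho]
    rw [Nat.gcd_eq_right (pow_dvd_pow p (by omega)), Nat.pow_div (by omega) hp.out.pos]
    congr 1
    omega

theorem card_cyclic_max {P : Type u} [Group P] [Finite P] {p : ℕ} [hp : Fact p.Prime]
    {n : ℕ} (hn : Nat.card P = p ^ n) (hn3 : 3 ≤ n) (hc : ¬ IsCyclic P)
    (hhom : (∃ C : Subgroup P, IsCyclic C ∧ C.index = p) →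
      ∀ x y : P, (x * y) ^ p ^ (n - 2) = x ^ p ^ (n - 2) * y ^ p ^ (n - 2)) :
    p ∣ Nat.card {C : Subgroup P // IsCyclic C ∧ C.index = p} := by
  classical
  by_cases hex : ∃ C : Subgroup P, IsCyclic C ∧ C.index = p
  swap
  · have hemp : IsEmpty {C : Subgroup P // IsCyclic C ∧ C.index = p} := ⟨fun C => hex ⟨C.1, C.2⟩⟩
    rw [Nat.card_of_isEmpty]
    exact dvd_zero p
  have hP : IsPGroup p P := IsPGroup.of_card hn
  have hcardC : ∀ C : Subgroup P, C.index = p → Nat.card C = p ^ (n - 1) := by
    intro C hC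
    have h4 := Subgroup.card_mul_index C
    have h5 : p ^ n = p ^ (n - 1) * p := by rw [← pow_succ]; congr 1; omega
    rw [hn, h5, hC] at h4
    exact Nat.eq_of_mul_eq_mul_right hp.out.pos h4
  have hord : ∀ x : P, x ^ p ^ (n - 1) = 1 := by
    intro x
    have h1 : orderOf x ∣ p ^ n := by rw [← hn]; exact orderOf_dvd_natCard x
    obtain ⟨k, hk, hk2⟩ := (Nat.dvd_prime_pow hp.out).mp h1
    have hkn : k ≠ n := by
      rintro rfl
      exact hc (isCyclic_of_orderOf_eq_card x (by rw [hk2, hn]))
    apply orderOf_dvd_iff_pow_eq_one.mp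
    rw [hk2]
    exact pow_dvd_pow p (by omega)
  obtain ⟨A, hA, hAi⟩ := hex
  have hAn : A.Normal :=
    (Solv.coatom_of_pGroup hP A (index_prime_coatom hp.out A hAi)).1
  let f : P →* P :=
    { toFun := fun x => x ^ p ^ (n - 2)
      map_one' := one_pow _
      map_mul' := hhom ⟨A, hA, hAi⟩ }
  have hf : ∀ x, f x = x ^ p ^ (n - 2) := fun x => rfl
  have hrangeA : f.range ≤ A := by
    rintro _ ⟨x, rfl⟩
    rw [hf]
    have h1 : x ^ p ∈ A := by
      have := Subgroup.pow_index_mem A x
      rwa [hAi] at this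
    have h2 : p ^ (n - 2) = p * p ^ (n - 3) := by rw [← pow_succ']; congr 1; omega
    rw [h2, pow_mul]
    exact A.pow_mem h1 _
  have hrexp : ∀ y ∈ f.range, y ^ p = 1 := by
    rintro _ ⟨x, rfl⟩
    rw [hf, ← pow_mul, ← pow_succ, show n - 2 + 1 = n - 1 by omega]
    exact hord x
  obtain ⟨a, ha⟩ := hA.exists_generator
  have hao : orderOf (a : P) = p ^ (n - 1) := by
    rw [Subgroup.orderOf_coe, orderOf_eq_card_of_forall_mem_zpowers ha, hcardC A hAi]
  have hfa : f a ≠ 1 := by
    rw [hf]
    intro h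
    have h1 := orderOf_dvd_of_pow_eq_one h
    rw [hao] at h1
    have := (Nat.pow_dvd_pow_iff_le_right hp.out.one_lt).mp h1
    omega
  have hrcard : Nat.card f.range = p := by
    have hcyc : IsCyclic f.range := by
      have : IsCyclic (f.range.subgroupOf A) := inferInstance
      exact isCyclic_of_surjective (Subgroup.subgroupOfEquivOfLe hrangeA)
        (Subgroup.subgroupOfEquivOfLe hrangeA).surjective
    have h1 : Nat.card f.range ∣ p := by
      rw [← IsCyclic.exponent_eq_card]
      apply Monoid.exponent_dvd_of_forall_pow_eq_one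
      intro x
      exact Subtype.ext (hrexp x x.2)
    rcases (Nat.dvd_prime hp.out).mp h1 with h2 | h2
    · exfalso
      have h3 := Subgroup.card_eq_one.mp h2
      have h4 : f a ∈ f.range := ⟨a, rfl⟩
      rw [h3, Subgroup.mem_bot] at h4
      exact hfa h4
    · exact h2
  have hker : Nat.card f.ker = p ^ (n - 1) := by
    have h1 := Subgroup.card_mul_index f.ker
    rw [Subgroup.index_ker, hrcard, hn] at h1
    have h5 : p ^ n = p ^ (n - 1) * p := by rw [← pow_succ]; congr 1; omega
    rw [h5] at h1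
    exact Nat.eq_of_mul_eq_mul_right hp.out.pos h1
  -- elements of order p ^ (n-1)
  have hordiff : ∀ x : P, orderOf x = p ^ (n - 1) ↔ ¬ x ∈ f.ker := by
    intro x
    rw [MonoidHom.mem_ker, hf]
    constructor
    · intro h1 h2
      have h3 := orderOf_dvd_of_pow_eq_one h2
      rw [h1] at h3
      have := (Nat.pow_dvd_pow_iff_le_right hp.out.one_lt).mp h3
      omega
    · intro h1
      have h2 : orderOf x ∣ p ^ (n - 1) := orderOf_dvd_of_pow_eq_one (hord x)
      obtain ⟨k, hk, hk2⟩ := (Nat.dvd_prime_pow hp.out).mp h2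
      by_cases hkn : k = n - 1
      · rw [hk2, hkn]
      · exfalso
        apply h1
        apply orderOf_dvd_iff_pow_eq_one.mp
        rw [hk2]
        exact pow_dvd_pow p (by omega)
  have hcount1 : Nat.card {x : P // orderOf x = p ^ (n - 1)} + p ^ (n - 1) = p ^ n := by
    have : Fintype P := Fintype.ofFinite P
    rw [Nat.card_congr (Equiv.subtypeEquivRight hordiff), ← hker, ← hn]
    have h1 := Fintype.card_subtype_compl (fun x : P => x ∈ f.ker)
    rw [Nat.card_eq_fintype_card, Nat.card_eq_fintype_card, Nat.card_eq_fintype_card]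
    have h2 : Fintype.card {x : P // x ∈ f.ker} ≤ Fintype.card P := Fintype.card_subtype_le _
    have h3 : Fintype.card f.ker = Fintype.card {x : P // x ∈ f.ker} := rfl
    rw [h3]
    omega
  have hC : Fintype {C : Subgroup P // IsCyclic C ∧ C.index = p} := Fintype.ofFinite _
  let e : {x : P // orderOf x = p ^ (n - 1)} ≃
      Σ C : {C : Subgroup P // IsCyclic C ∧ C.index = p}, {x : C.1 // orderOf x = p ^ (n - 1)} :=
    { toFun := fun x => ⟨⟨zpowers (x : P), inferInstance, by
          have h4 := Subgroup.card_mul_index (zpowers (x : P))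
          have h5 : p ^ n = p ^ (n - 1) * p := by rw [← pow_succ]; congr 1; omega
          rw [hn, Nat.card_zpowers, x.2, h5] at h4
          exact Nat.eq_of_mul_eq_mul_left (pow_pos hp.out.pos _) h4⟩,
        ⟨⟨x, mem_zpowers _⟩, by rw [Subgroup.orderOf_mk]; exact x.2⟩⟩
      invFun := fun y => ⟨(y.2.1 : P), by rw [Subgroup.orderOf_coe]; exact y.2.2⟩
      left_inv := fun x => rfl
      right_inv := by
        rintro ⟨⟨H, hH1, hH2⟩, ⟨⟨x, hxH⟩, hx⟩⟩
        have hz : zpowers x = H := by
          apply Subgroup.eq_of_le_of_card_ge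
          · rw [zpowers_le]; exact hxH
          · rw [hcardC H hH2, Nat.card_zpowers]
            rw [Subgroup.orderOf_mk] at hx
            rw [hx]
        subst hz
        rfl }
  have h1 := Nat.card_congr e
  rw [Nat.card_sigma] at h1
  have h2 : ∀ C : {C : Subgroup P // IsCyclic C ∧ C.index = p},
      Nat.card {x : C.1 // orderOf x = p ^ (n - 1)} = p ^ (n - 2) * (p - 1) := by
    rintro ⟨C, hC1, hC2⟩
    have : Fintype C := Fintype.ofFinite C
    have h3 : Fintype.card C = p ^ (n - 1) := by rw [← Nat.card_eq_fintype_card, hcardC C hC2]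
    have h4 := IsCyclic.card_orderOf_eq_totient (α := C) (d := p ^ (n - 1)) (by rw [h3])
    rw [Nat.card_eq_fintype_card, Fintype.card_subtype, h4,
      show n - 1 = (n - 2) + 1 by omega, Nat.totient_prime_pow_succ hp.out]
  simp only [h2] at h1
  rw [Finset.sum_const, Finset.card_univ, smul_eq_mul, ← Nat.card_eq_fintype_card] at h1
  set c := Nat.card {C : Subgroup P // IsCyclic C ∧ C.index = p} with hcdef
  rw [h1] at hcount1
  -- c * (p^(n-2) (p-1)) + p^(n-1) = p^n
  have h5 : p ^ n = p ^ (n - 2) * (p * p) := by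
    rw [← pow_two, ← pow_add]; congr 1; omega
  have h6 : p ^ (n - 1) = p ^ (n - 2) * p := by rw [← pow_succ]; congr 1; omega
  rw [h5, h6] at hcount1
  have h7 : p ^ (n - 2) * (c * (p - 1) + p) = p ^ (n - 2) * (p * p) := by
    rw [← hcount1]; ring
  have h8 := Nat.eq_of_mul_eq_mul_left (pow_pos hp.out.pos _) h7
  have h9 : p ∣ c * (p - 1) := by
    have h10 : p ∣ c * (p - 1) + p := by rw [h8]; exact dvd_mul_right _ _
    exact (Nat.dvd_add_left dvd_rfl).mp h10
  apply Nat.Coprime.dvd_of_dvd_mul_right _ h9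
  have := Nat.coprime_self_add_right (m := p - 1) (n := 1)
  have h4 : p - 1 + 1 = p := by have := hp.out.one_lt; omega
  rw [h4] at this
  exact (this.mpr (Nat.coprime_one_right _)).symm

theorem pow_hom_of_cyclic_max {P : Type u} [Group P] [Finite P] {p : ℕ} [hp : Fact p.Prime]
    (hp2 : p ≠ 2) (hP : IsPGroup p P) (hex : ∃ C : Subgroup P, IsCyclic C ∧ C.index = p) (k : ℕ)
    (x y : P) : (x * y) ^ p ^ k = x ^ p ^ k * y ^ p ^ k := by
  obtain ⟨C, hC, hCi⟩ := hex
  induction k with
  | zero => simp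
  | succ k ih =>
    rw [pow_succ, pow_mul, ih, OddP.mul_pow_of_cyclic_max hp2 hP C hC hCi, ← pow_mul, ← pow_mul]

/-- the bookkeeping: maximal subgroups with `ns = 1` and with `ns ≡ 1 + p` -/
theorem sum_book {ι : Type*} [Fintype ι] {p : ℕ} (hcard : Nat.card ι ≡ 1 + p [MOD p ^ 2])
    (f : ι → ℕ) (X : ι → Prop) (h1 : ∀ i, X i → f i ≡ 1 [MOD p ^ 2])
    (h2 : ∀ i, ¬ X i → f i ≡ 1 + p [MOD p ^ 2]) (hX : p ∣ Nat.card {i // X i}) (s : ℕ)
    (hs : ∑ i, f i ≡ s + p [MOD p ^ 2]) : s ≡ 1 + p [MOD p ^ 2] := by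
  classical
  have h3 : ∑ i, f i + p * Nat.card {i // X i} ≡ (1 + p) * Nat.card ι [MOD p ^ 2] := by
    have h4 : ∑ i, f i + p * Nat.card {i // X i} = ∑ i, (f i + if X i then p else 0) := by
      rw [Finset.sum_add_distrib]
      congr 1
      rw [Finset.sum_ite, Finset.sum_const_zero, add_zero, Finset.sum_const, smul_eq_mul,
        Nat.card_eq_fintype_card, Fintype.card_subtype, mul_comm]
    rw [h4]
    have h5 : ∑ i, (f i + if X i then p else 0) ≡ ∑ _i : ι, (1 + p) [MOD p ^ 2] := by
      apply Nat.ModEq.sum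
      intro i _
      by_cases hi : X i
      · rw [if_pos hi]
        exact Nat.ModEq.add_right p (h1 i hi)
      · rw [if_neg hi, add_zero]
        exact h2 i hi
    refine h5.trans ?_
    rw [Finset.sum_const, Finset.card_univ, smul_eq_mul, mul_comm, Nat.card_eq_fintype_card]
  have h4 : p * Nat.card {i // X i} ≡ 0 [MOD p ^ 2] := by
    rw [Nat.modEq_zero_iff_dvd, pow_two]
    exact mul_dvd_mul_left p hX
  have h5 : s + p + 0 ≡ (1 + p) * (1 + p) [MOD p ^ 2] := by
    refine (Nat.ModEq.add hs.symm h4.symm).trans (h3.trans ?_)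
    exact Nat.ModEq.mul_left _ hcard
  have h6 : (1 + p) * (1 + p) = 1 + p + p + p ^ 2 := by ring
  rw [h6, add_zero] at h5
  have h7 : 1 + p + p + p ^ 2 ≡ 1 + p + p [MOD p ^ 2] := by
    simp [Nat.ModEq]
  exact Nat.ModEq.add_right_cancel' p (h5.trans h7)

theorem card_of_index {P : Type*} [Group P] [Finite P] {p : ℕ} [hp : Fact p.Prime]
    {n : ℕ} (hn : Nat.card P = p ^ n) (h1 : 1 ≤ n) (C : Subgroup P) (hC : C.index = p) :
    Nat.card C = p ^ (n - 1) := by
  have h4 := Subgroup.card_mul_index C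
  have h5 : p ^ n = p ^ (n - 1) * p := by rw [← pow_succ]; congr 1; omega
  rw [hn, h5, hC] at h4
  exact Nat.eq_of_mul_eq_mul_right hp.out.pos h4

/-- **Kulakoff** -/
theorem kulakoff {p : ℕ} [hp : Fact p.Prime] (hp2 : p ≠ 2) (n : ℕ) :
    ∀ (P : Type u) [Group P] [Finite P], Nat.card P = p ^ n → ¬ IsCyclic P → ∀ a, 1 ≤ a → a < n →
      ns p a P ≡ 1 + p [MOD p ^ 2] := by
  induction n with
  | zero => intro P _ _ _ _ a h1 h2; omega
  | succ n ih =>
    intro P _ _ hn hc a ha1 ha2
    by_cases han : a = n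
    · subst han
      exact ns_top hn (by omega) hc
    · have hP : IsPGroup p P := IsPGroup.of_card hn
      have : Fintype {M : Subgroup P // M.index = p} := Fintype.ofFinite _
      have hcM : ∀ M : {M : Subgroup P // M.index = p}, Nat.card M.1 = p ^ n := fun M =>
        card_of_index hn (by omega) M.1 M.2
      refine sum_book (card_max hP hc) (fun M : {M : Subgroup P // M.index = p} => ns p a M.1)
        (fun M => IsCyclic M.1) ?_ ?_ ?_ _ (enum_principle hn hc a (by omega))
      · intro M hM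
        have hM' : IsCyclic M.1 := hM
        change ns p a M.1 ≡ 1 [MOD p ^ 2]
        rw [ns_cyclic (hcM M) a (by omega)]
      · intro M hM
        exact ih M.1 (hcM M) hM a ha1 (by omega)
      · have h1 := card_cyclic_max hn (by omega) hc
          (fun hex x y => pow_hom_of_cyclic_max hp2 hP hex _ x y)
        have h2 : Nat.card {C : Subgroup P // IsCyclic C ∧ C.index = p} =
            Nat.card {M : {M : Subgroup P // M.index = p} // IsCyclic M.1} :=
          Nat.card_congr
            { toFun := fun C => ⟨⟨C.1, C.2.2⟩, C.2.1⟩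
              invFun := fun C => ⟨C.1.1, C.2, C.1.2⟩
              left_inv := fun x => rfl
              right_inv := fun x => rfl }
        rwa [h2] at h1

end Cfsg.Agent.H70
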