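import Mathlib
import Cfsg.Agent.BlkInd.HomoChar
import Cfsg.Agent.BlkC.PrincipalSum
import Cfsg.Agent.H4.NormSum
import Cfsg.Agent.S0936
import Cfsg.Agent.S0942
import Cfsg.Agent.S0947
import Cfsg.Agent.Char.AvgN
import Cfsg.Agent.Char.ModP
import Cfsg.Agent.H76.RealOdd
import Cfsg.Agent.H75.BlkSum
import Cfsg.Agent.H79.Columns

set_option autoImplicit false
set_option linter.style.haveILetI false
set_option linter.unusedSimpArgs false
set_option linter.unusedSectionVars false
set_option linter.unusedVariables false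

/-!
# The kernel of the principal 2-block (for S4514)
-/

namespace Cfsg.Agent.H70.PB

open scoped BigOperators ComplexConjugate
open Cfsg Cfsg.Agent.CharBase Cfsg.Agent.Blk Cfsg.Agent.BlkC

universe u

section kernel

variable {G : Type u} [Group G] [Finite G]

/-- the principal block as a finset -/
noncomputable def PBlk (M : Ideal AlgInt) (G : Type u) [Group G] [Finite G] :
    Finset (IrrCharacter G) := (Set.toFinite (principalBlock M G)).toFinset

theorem mem_PBlk {M : Ideal AlgInt} {χ : IrrCharacter G} :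
    χ ∈ PBlk M G ↔ χ ∈ principalBlock M G := Set.Finite.mem_toFinset _

theorem finsum_PBlk {M : Ideal AlgInt} {A : Type*} [AddCommMonoid A] (f : IrrCharacter G → A) :
    ∑ᶠ χ ∈ principalBlock M G, f χ = ∑ χ ∈ PBlk M G, f χ :=
  finsum_mem_eq_finite_toFinset_sum f (Set.toFinite _)

/-- the kernel function of the principal block -/
noncomputable def KB (M : Ideal AlgInt) (x y : G) : ℂ :=
  ∑ χ ∈ PBlk M G, (χ : G → ℂ) x * conj ((χ : G → ℂ) y)

variable {M : Ideal AlgInt}

theorem KB_eq_blockKernel (x y : G) : KB M x y = blockKernel (principalBlock M G) x y := by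
  unfold KB blockKernel
  rw [finsum_PBlk]

theorem KB_conj_left (x y g : G) : KB M (g * x * g⁻¹) y = KB M x y := by
  unfold KB
  exact Finset.sum_congr rfl fun χ _ => by rw [irr_isClassFunction χ x g]

theorem KB_conj_right (x y g : G) : KB M x (g * y * g⁻¹) = KB M x y := by
  unfold KB
  exact Finset.sum_congr rfl fun χ _ => by rw [irr_isClassFunction χ y g]

theorem conj_KB (x y : G) : conj (KB M x y) = KB M y x := by
  unfold KB
  rw [map_sum]
  exact Finset.sum_congr rfl fun χ _ => by rw [map_mul, Complex.conj_conj, mul_comm]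

theorem KB_sec (hM : IsPModular 2 M) {x y a b : G} (hx : IsPPart 2 x a) (hy : IsPPart 2 y b)
    (hab : ¬ IsConj a b) : KB M x y = 0 := by
  haveI := isPrime_of_isPModular hM
  haveI := Fintype.ofFinite G
  rw [KB_eq_blockKernel]
  exact block_orthogonality hM isPBlock_principalBlock hx hy hab

theorem KB_reg_sing (hM : IsPModular 2 M) {x y : G} (hx : ¬ 2 ∣ orderOf x) (hy : 2 ∣ orderOf y) :
    KB M x y = 0 := by
  haveI := isPrime_of_isPModular hM
  haveI := Fintype.ofFinite G
  rw [KB_eq_blockKernel]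
  exact weak_block_orthogonality hM isPBlock_principalBlock hx hy

theorem KB_sing_reg (hM : IsPModular 2 M) {x y : G} (hx : ¬ 2 ∣ orderOf x) (hy : 2 ∣ orderOf y) :
    KB M y x = 0 := by
  rw [← conj_KB, KB_reg_sing hM hx hy, map_zero]

theorem KB_loc (hM : IsPModular 2 M) {t : G} (ht : ∃ k, orderOf t = 2 ^ k) {C : Subgroup G}
    (hC : C = Subgroup.centralizer ({t} : Set G)) (x x' : C) (hx : ¬ 2 ∣ orderOf x)
    (hx' : ¬ 2 ∣ orderOf x') : KB M (t * (x : G)) (t * (x' : G)) = KB M x x' := by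
  classical
  subst hC
  haveI := isPrime_of_isPModular hM
  haveI := Fact.mk hM.1
  haveI := Fintype.ofFinite G
  haveI := Fintype.ofFinite (IrrCharacter G)
  haveI := Fintype.ofFinite (Subgroup.centralizer ({t} : Set G))
  haveI := Fintype.ofFinite (IrrCharacter (Subgroup.centralizer ({t} : Set G)))
  have h := H4.principal_kernel_eq hM ht
    (H4.thirdAt_of_forall hM ht fun b hb => Cfsg.Agent.S0936.result 2 M hM _ b hb) x x' hx hx'
  rw [KB_eq_blockKernel, KB_eq_blockKernel]
  unfold blockKernel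
  rw [finsum_mem_eq_sum_ite, finsum_mem_eq_sum_ite]
  exact h

theorem ordOne : ¬ 2 ∣ orderOf (1 : G) := by rw [orderOf_one]; decide

theorem ord_of_sq {t : G} (ht : t * t = 1) : ∃ k, orderOf t = 2 ^ k := by
  have h : orderOf t ∣ 2 ^ 1 := orderOf_dvd_of_pow_eq_one (by rw [pow_one, pow_two, ht])
  obtain ⟨k, -, hk⟩ := (Nat.dvd_prime_pow Nat.prime_two).mp h
  exact ⟨k, hk⟩

theorem ord_two {t : G} (ht : t * t = 1) (h1 : t ≠ 1) : orderOf t = 2 :=
  orderOf_eq_prime (by rw [pow_two, ht]) h1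

theorem real_of_sq (χ : IrrCharacter G) {t : G} (ht : t * t = 1) :
    conj ((χ : G → ℂ) t) = (χ : G → ℂ) t := by
  rw [← irr_inv, inv_eq_of_mul_eq_one_right ht]

/-- value at `t x` and `x` modulo `M` -/
theorem mli_val (hM : IsPModular 2 M) (χ : IrrCharacter G) {t x : G} (ht : ∃ k, orderOf t = 2 ^ k)
    (hx : ¬ 2 ∣ orderOf x) (hc : Commute t x) :
    MemLocalIdeal M ((χ : G → ℂ) (t * x) - (χ : G → ℂ) x) := by
  haveI := isPrime_of_isPModular hM
  have hch := irr_isCharacter χ
  have h1 := Cfsg.Agent.Char.MP.rd_char_ppart hM hch (x := t * x) (a := t) ⟨x, rfl, hc, ht, hx⟩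
  rw [inv_mul_cancel_left] at h1
  exact (rd_eq_iff (Cfsg.Agent.Char.MP.mlr_char hch _) (Cfsg.Agent.Char.MP.mlr_char hch _)).mp h1

end kernel

section mu

variable {G : Type u} [Group G] [Finite G]

open BlkInd

/-- multiplicity of a linear character in the restriction to a subgroup -/
noncomputable def mu (S : Subgroup G) (χ : IrrCharacter G) (l : S →* ℂˣ) : ℕ :=
  haveI := Fintype.ofFinite G
  haveI := Fintype.ofFinite S
  mult S χ (linIrr l)

theorem mu_spec (S : Subgroup G) [Fintype S] (χ : IrrCharacter G) (l : S →* ℂˣ) :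
    (mu S χ l : ℂ) = (Nat.card S : ℂ)⁻¹ * ∑ s : S, (χ : G → ℂ) s * conj ((l s : ℂˣ) : ℂ) := by
  have h := @mult_spec G _ (Fintype.ofFinite G) S (Fintype.ofFinite S) χ (linIrr l)
  unfold mu
  rw [← h]
  unfold classInner
  have : Fintype.ofFinite S = ‹Fintype S› := Subsingleton.elim _ _
  rw [this]
  rfl

theorem mu_spec' (S : Subgroup G) [Fintype S] (χ : IrrCharacter G) (l : S →* ℂˣ) :
    (mu S χ l : ℂ) = classInner (fun s : S => (χ : G → ℂ) s) (linIrr l : S → ℂ) := by
  rw [mu_spec]; rfl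

theorem finite_hom (A : Type u) [Group A] [Finite A] : Finite (A →* ℂˣ) := by
  haveI := Fintype.ofFinite A
  exact Finite.of_injective _ (linIrr_injective (A := A))

theorem exists_linIrr {A : Type u} [Group A] [Fintype A] (hcomm : ∀ a b : A, a * b = b * a)
    (χ : IrrCharacter A) : ∃ l : A →* ℂˣ, linIrr l = χ := by
  have h1 := Cfsg.Agent.Char.BI.irr_comm_degree hcomm χ.2
  let f : A →* ℂˣ := (Cfsg.Agent.Char.linHom (irr_isCharacter χ) h1).toHomUnits
  exact ⟨f, Subtype.ext (funext fun x => rfl)⟩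

/-- sum over the irreducible characters of an abelian group -/
theorem sum_irr_eq {A : Type u} [Group A] [Fintype A] (hcomm : ∀ a b : A, a * b = b * a)
    [Fintype (IrrCharacter A)] [Fintype (A →* ℂˣ)] (f : IrrCharacter A → ℂ) :
    ∑ χ : IrrCharacter A, f χ = ∑ l : A →* ℂˣ, f (linIrr l) := by
  symm
  exact Fintype.sum_bijective linIrr ⟨linIrr_injective, fun χ => exists_linIrr hcomm χ⟩ _ _
    fun _ => rfl

theorem res_sum (S : Subgroup G) [Fintype (S →* ℂˣ)] (hcomm : ∀ a b : S, a * b = b * a)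
    (χ : IrrCharacter G) (s : S) :
    (χ : G → ℂ) s = ∑ l : S →* ℂˣ, (mu S χ l : ℂ) * ((l s : ℂˣ) : ℂ) := by
  classical
  haveI := Fintype.ofFinite S
  haveI := Fintype.ofFinite (IrrCharacter S)
  have h1 : IsClassFunction S (fun s : S => (χ : G → ℂ) s) := fun g x => irr_isClassFunction χ _ _
  have h2 := classFun_apply_eq_sum h1 s
  rw [sum_irr_eq hcomm] at h2
  rw [h2]
  exact Finset.sum_congr rfl fun l _ => by rw [mu_spec']; rfl

theorem mu_one_oneIrr (S : Subgroup G) : mu S (oneIrr G) 1 = 1 := by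
  classical
  haveI := Fintype.ofFinite S
  have h := mu_spec S (oneIrr G) 1
  have hS : (Nat.card S : ℂ) ≠ 0 := by exact_mod_cast Nat.card_pos.ne'
  have h2 : ∑ s : S, ((oneIrr G : IrrCharacter G) : G → ℂ) s * conj (((1 : S →* ℂˣ) s : ℂˣ) : ℂ) =
      (Nat.card S : ℂ) := by
    simp [oneIrr_apply]
  rw [h2, inv_mul_cancel₀ hS] at h
  exact_mod_cast h

theorem mu_oneIrr_ne (S : Subgroup G) {l : S →* ℂˣ} (hl : l ≠ 1) : mu S (oneIrr G) l = 0 := by
  classical
  haveI := Fintype.ofFinite S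
  have h := mu_spec S (oneIrr G) l
  have h3 := sum_lin_mul_conj (1 : S →* ℂˣ) l
  rw [if_neg (Ne.symm hl)] at h3
  have h2 : ∑ s : S, ((oneIrr G : IrrCharacter G) : G → ℂ) s * conj ((l s : ℂˣ) : ℂ) = 0 := by
    rw [← h3]
    exact Finset.sum_congr rfl fun s _ => by simp [oneIrr_apply]
  rw [h2, mul_zero] at h
  exact_mod_cast h

end mu

end Cfsg.Agent.H70.PB
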