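import Cfsg.Agent.H70.PB9
import Cfsg.Agent.BlkC.BrauerFeit

set_option autoImplicit false
set_option linter.style.haveILetI false
set_option linter.unusedSimpArgs false
set_option linter.unusedSectionVars false
set_option linter.unusedVariables false

/-!
# Constant difference of degree and value: the value of the constant (for S4514)
-/

namespace Cfsg.Agent.H70.PB

open scoped BigOperators ComplexConjugate
open Cfsg Cfsg.Agent.CharBase Cfsg.Agent.Blk Cfsg.Agent.BlkC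

universe u

section const

variable {G : Type u} [Group G] [Finite G] {M : Ideal AlgInt} {S : Subgroup G} {s v : G} {k : ℂ}

theorem Con2.val_eq (h : Con2 M S s v k) (χ : IrrCharacter G) {r : G} (hr : r ∈ S) (hr1 : r ≠ 1) :
    (χ : G → ℂ) r = (χ : G → ℂ) s := by
  obtain ⟨g, hg⟩ := isConj_iff.mp (h.two_conj hr hr1)
  rw [← hg]
  exact irr_isClassFunction χ s g

theorem Con2.sum_val (h : Con2 M S s v k) [Fintype S] (χ : IrrCharacter G) (l : S →* ℂˣ) :
    ∑ t : S, (χ : G → ℂ) t * conj ((l t : ℂˣ) : ℂ) =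
      (χ : G → ℂ) s * ∑ t : S, conj ((l t : ℂˣ) : ℂ) + ((χ : G → ℂ) 1 - (χ : G → ℂ) s) := by
  classical
  have h1 : ∀ t : S, (χ : G → ℂ) t * conj ((l t : ℂˣ) : ℂ) =
      (χ : G → ℂ) s * conj ((l t : ℂˣ) : ℂ) +
        (if t = 1 then ((χ : G → ℂ) 1 - (χ : G → ℂ) s) else 0) := by
    intro t
    split_ifs with ht
    · rw [ht, map_one, Units.val_one, map_one, Subgroup.coe_one]; ring
    · rw [h.val_eq χ t.2 (fun h0 => ht (Subtype.ext h0)), add_zero]
  rw [Finset.sum_congr rfl fun t _ => h1 t, Finset.sum_add_distrib, ← Finset.mul_sum,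
    Finset.sum_ite_eq' Finset.univ (1 : S), if_pos (Finset.mem_univ _)]

theorem Con2.mu_ne (h : Con2 M S s v k) (χ : IrrCharacter G) {l : S →* ℂˣ} (hl : l ≠ 1) :
    (Nat.card S : ℂ) * mu S χ l = (χ : G → ℂ) 1 - (χ : G → ℂ) s := by
  haveI := Fintype.ofFinite S
  rw [mu_spec, h.sum_val, sum_conj_lin hl, ← mul_assoc, mul_inv_cancel₀ (card_ne S)]
  ring

theorem Con2.mu_one (h : Con2 M S s v k) (χ : IrrCharacter G) :
    (Nat.card S : ℂ) * mu S χ 1 = (χ : G → ℂ) 1 + ((Nat.card S : ℂ) - 1) * (χ : G → ℂ) s := by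
  haveI := Fintype.ofFinite S
  rw [mu_spec, h.sum_val, ← mul_assoc, mul_inv_cancel₀ (card_ne S)]
  have h1 : ∑ t : S, conj (((1 : S →* ℂˣ) t : ℂˣ) : ℂ) = (Nat.card S : ℂ) := by
    simp
  rw [h1]
  ring

theorem Con2.exists_lin (h : Con2 M S s v k) : ∃ l : S →* ℂˣ, l ≠ 1 := by
  letI : CommGroup S := { (inferInstance : Group S) with
    mul_comm := fun a b => Subtype.ext (comm_of_sq h.sq a.2 b.2) }
  have hne : (⟨s, h.hs⟩ : S) ≠ 1 := fun h0 => h.hs1 (congrArg Subtype.val h0)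
  obtain ⟨φ, hφ⟩ := CommGroup.exists_apply_ne_one_of_hasEnoughRootsOfUnity S ℂ hne
  refine ⟨φ, fun h0 => hφ ?_⟩
  rw [h0]; rfl

theorem Con2.card_fact (h : Con2 M S s v k) : 2 ^ (Nat.card G).factorization 2 = Nat.card S := by
  haveI : Fact (Nat.Prime 2) := ⟨Nat.prime_two⟩
  let P : Sylow 2 G := h.two.toSylow h.idx
  have hP : (P : Subgroup G) = S := rfl
  rw [← hP, P.card_eq_multiplicity]

theorem Con2.dvd_s (h : Con2 M S s v k) : 2 ∣ orderOf s := by
  rw [ord_two (h.sq s h.hs) h.hs1]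

theorem Con2.dvd_u (h : Con2 M S s v k) : 2 ∣ orderOf (s * v) := by
  have hcop : Nat.Coprime (orderOf s) (orderOf v) := by
    rw [ord_two (h.sq s h.hs) h.hs1]
    exact (Nat.Prime.coprime_iff_not_dvd Nat.prime_two).mpr h.hv
  rw [h.comm.orderOf_mul_eq_mul_orderOf_of_coprime hcop]
  exact h.dvd_s.mul_right _

theorem Con2.KB_reg (hM : IsPModular 2 M) (h : Con2 M S s v k) [DecidableEq (IrrCharacter G)] {x : G}
    (hx : ¬ 2 ∣ orderOf x) :
    KB M x 1 = conj k * ∑ χ ∈ (PBlk M G).erase (oneIrr G), (χ : G → ℂ) x := by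
  have h1 := KB_reg_sing (M := M) hM hx h.dvd_u
  have h2 : KB M x 1 = KB M x 1 - KB M x (s * v) := by rw [h1, sub_zero]
  rw [h2]
  unfold KB
  rw [← Finset.sum_sub_distrib, ← Finset.add_sum_erase _ _ (oneIrr_mem_PBlk hM), Finset.mul_sum]
  simp only [oneIrr_apply, sub_self, zero_add]
  refine Finset.sum_congr rfl fun χ hχ => ?_
  rw [Finset.mem_erase] at hχ
  rw [← h.hk χ hχ.2 hχ.1, map_sub]
  ring

theorem Con2.exists_int (hM : IsPModular 2 M) (h : Con2 M S s v k) :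
    ∃ m : ℤ, (Nat.card S : ℂ) = conj k * m := by
  classical
  haveI := Fact.mk hM.1
  haveI := isPrime_of_isPModular hM
  haveI := Fintype.ofFinite G
  set E := (PBlk M G).erase (oneIrr G) with hE
  have h1 : ∑ g : G, KB M g 1 = (Nat.card G : ℂ) := by
    unfold KB
    rw [Finset.sum_comm, ← Finset.add_sum_erase _ _ (oneIrr_mem_PBlk hM)]
    have e1 : ∑ g : G, ((oneIrr G : IrrCharacter G) : G → ℂ) g *
        conj (((oneIrr G : IrrCharacter G) : G → ℂ) 1) = (Nat.card G : ℂ) := by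
      simp [oneIrr_apply]
    rw [e1, Finset.sum_eq_zero, add_zero]
    intro χ hχ
    rw [Finset.mem_erase] at hχ
    rw [← Finset.sum_mul]
    have e2 := classInner_irr_of_ne (χ := χ) (ψ := oneIrr G) hχ.1
    unfold classInner at e2
    simp only [oneIrr_apply, map_one, mul_one] at e2
    rcases mul_eq_zero.mp e2 with h3 | h3
    · exact absurd h3 (inv_ne_zero (card_ne _))
    · rw [h3, zero_mul]
  have h2 : ∑ g : G, KB M g 1 = conj k * ∑ χ ∈ E, ((Nat.card G : ℂ) *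
      regInner 2 (χ : G → ℂ) ((oneIrr G : IrrCharacter G) : G → ℂ)) := by
    have e1 : ∀ g : G, KB M g 1 = conj k * ∑ χ ∈ E,
        ((χ : G → ℂ) g * regConj 2 ((oneIrr G : IrrCharacter G) : G → ℂ) g) := by
      intro g
      unfold regConj
      split_ifs with hg
      · rw [KB_sing_reg hM (ordOne (G := G)) hg]
        simp
      · rw [h.KB_reg hM hg]
        congr 1
        exact Finset.sum_congr rfl fun χ _ => by simp [oneIrr_apply]
    rw [Finset.sum_congr rfl fun g _ => e1 g, ← Finset.mul_sum, Finset.sum_comm]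
    congr 1
    refine Finset.sum_congr rfl fun χ _ => ?_
    unfold regInner
    rw [← mul_assoc, mul_inv_cancel₀ (card_ne G), one_mul]
  rw [h1, ← Finset.mul_sum] at h2
  have h3 : (1 : ℂ) = conj k * ∑ χ ∈ E, regInner 2 (χ : G → ℂ) ((oneIrr G : IrrCharacter G) : G → ℂ) := by
    apply mul_left_cancel₀ (card_ne G)
    rw [mul_one]
    linear_combination h2
  refine ⟨∑ χ ∈ E, contrib 2 (principalBlock M G) χ (oneIrr G), ?_⟩
  have h4 : (Nat.card S : ℂ) = (2 : ℂ) ^ blockDefect 2 (principalBlock M G) := by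
    rw [blockDefect_principalBlock, ← h.card_fact]
    push_cast; rfl
  push_cast
  have h5 : ∀ χ ∈ E, (contrib 2 (principalBlock M G) χ (oneIrr G) : ℂ) =
      (Nat.card S : ℂ) * regInner 2 (χ : G → ℂ) ((oneIrr G : IrrCharacter G) : G → ℂ) := by
    intro χ hχ
    rw [hE, Finset.mem_erase] at hχ
    rw [h4, ← contrib_regInner (mem_PBlk.mp hχ.2)]
    norm_cast
  rw [Finset.sum_congr rfl h5, ← Finset.mul_sum]
  linear_combination (Nat.card S : ℂ) * h3

theorem Con2.exists_real (hM : IsPModular 2 M) (h : Con2 M S s v k) :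
    ∃ κ : ℝ, k = (κ : ℂ) ∧ κ ≤ (Nat.card S : ℝ) := by
  obtain ⟨m, hm⟩ := h.exists_int hM
  have hS : (0 : ℝ) < (Nat.card S : ℝ) := by exact_mod_cast Nat.card_pos
  have hm0 : m ≠ 0 := by
    rintro rfl
    rw [Int.cast_zero, mul_zero] at hm
    exact card_ne S hm
  have hmC : (m : ℂ) ≠ 0 := by exact_mod_cast hm0
  have hmR : (m : ℝ) ≠ 0 := by exact_mod_cast hm0
  refine ⟨(Nat.card S : ℝ) / (m : ℝ), ?_, ?_⟩
  · have h1 : conj k = (Nat.card S : ℂ) / (m : ℂ) := by
      rw [hm]; field_simp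
    have h2 := congrArg conj h1
    rw [Complex.conj_conj, map_div₀, Complex.conj_natCast] at h2
    have h3 : conj (m : ℂ) = (m : ℂ) := map_intCast (starRingEnd ℂ) m
    rw [h2, h3]
    push_cast; rfl
  · rcases lt_or_gt_of_ne hm0 with hneg | hpos
    · have : (m : ℝ) < 0 := by exact_mod_cast hneg
      exact (div_nonpos_of_nonneg_of_nonpos hS.le this.le).trans hS.le
    · have : (1 : ℝ) ≤ (m : ℝ) := by exact_mod_cast hpos
      exact div_le_self hS.le this

theorem Con2.exists_ne (hM : IsPModular 2 M) (h : Con2 M S s v k) :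
    ∃ χ ∈ PBlk M G, χ ≠ oneIrr G := by
  classical
  by_contra hcon
  push Not at hcon
  have h1 := KB_sing_reg (M := M) hM (ordOne (G := G)) h.dvd_s
  unfold KB at h1
  have h2 : PBlk M G = {oneIrr G} := by
    ext χ
    rw [Finset.mem_singleton]
    exact ⟨hcon χ, fun h => h ▸ oneIrr_mem_PBlk hM⟩
  rw [h2, Finset.sum_singleton] at h1
  simp [oneIrr_apply] at h1

theorem Con2.key (hM : IsPModular 2 M) (h : Con2 M S s v k) :
    k = (Nat.card S : ℂ) ∧ ∀ χ ∈ PBlk M G, χ ≠ oneIrr G →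
      (χ : G → ℂ) 1 - (χ : G → ℂ) s = (Nat.card S : ℂ) := by
  classical
  obtain ⟨κ, hκ, hκS⟩ := h.exists_real hM
  obtain ⟨l, hl⟩ := h.exists_lin
  have hS : (0 : ℝ) < (Nat.card S : ℝ) := by exact_mod_cast Nat.card_pos
  set E := (PBlk M G).erase (oneIrr G) with hE
  have hb : ∀ χ ∈ E, 1 ≤ mu S χ l := by
    intro χ hχ
    rw [hE, Finset.mem_erase] at hχ
    rw [Nat.one_le_iff_ne_zero]
    intro h0
    have h1 := h.mu_ne χ hl
    rw [h0, Nat.cast_zero, mul_zero] at h1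
    exact h.faithful hM hχ.2 hχ.1 (sub_eq_zero.mp h1.symm).symm
  have h1 : ∑ χ ∈ E, ((Nat.card S : ℝ) * mu S χ l - κ) * charDegree (χ : G → ℂ) = 0 := by
    have e1 := KB_sing_reg (M := M) hM (ordOne (G := G)) h.dvd_s
    have e2 := KB_sing_reg (M := M) hM (ordOne (G := G)) h.dvd_u
    have e3 : KB M (s * v) 1 - KB M s (1 : G) = 0 := by rw [e1, e2, sub_zero]
    unfold KB at e3
    rw [← Finset.sum_sub_distrib, ← Finset.add_sum_erase _ _ (oneIrr_mem_PBlk hM)] at e3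
    simp only [oneIrr_apply, sub_self, zero_add] at e3
    have e4 : ((∑ χ ∈ E, ((Nat.card S : ℝ) * mu S χ l - κ) * charDegree (χ : G → ℂ) : ℝ) : ℂ) = 0 := by
      rw [← e3]
      push_cast
      refine Finset.sum_congr rfl fun χ hχ => ?_
      rw [Finset.mem_erase] at hχ
      have e5 := h.hk χ hχ.2 hχ.1
      have e6 := h.mu_ne χ hl
      rw [← hκ, ← e5, e6, ← charDegree_spec, charDegree_spec, Complex.conj_natCast]
      ring
    exact_mod_cast e4
  have h2 : ∀ χ ∈ E, 0 ≤ ((Nat.card S : ℝ) * mu S χ l - κ) * charDegree (χ : G → ℂ) := by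
    intro χ hχ
    have e1 : (1 : ℝ) ≤ mu S χ l := by exact_mod_cast hb χ hχ
    refine mul_nonneg ?_ (Nat.cast_nonneg _)
    nlinarith
  have h3 := (Finset.sum_eq_zero_iff_of_nonneg h2).mp h1
  have h4 : ∀ χ ∈ E, (Nat.card S : ℝ) * mu S χ l = κ := by
    intro χ hχ
    rcases mul_eq_zero.mp (h3 χ hχ) with e | e
    · exact sub_eq_zero.mp e
    · exfalso
      have : charDegree (χ : G → ℂ) = 0 := by exact_mod_cast e
      exact (deg_pos χ).ne' this
  obtain ⟨χ₁, hχ₁, hχ₁'⟩ := h.exists_ne hM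
  have hκ2 : κ = (Nat.card S : ℝ) := by
    have e1 := h4 χ₁ (Finset.mem_erase.mpr ⟨hχ₁', hχ₁⟩)
    have e2 : (1 : ℝ) ≤ mu S χ₁ l := by exact_mod_cast hb χ₁ (Finset.mem_erase.mpr ⟨hχ₁', hχ₁⟩)
    apply le_antisymm hκS
    nlinarith
  refine ⟨by rw [hκ, hκ2]; push_cast; rfl, ?_⟩
  intro χ hχ hne
  have e1 := h4 χ (Finset.mem_erase.mpr ⟨hne, hχ⟩)
  rw [← h.mu_ne χ hl]
  have e2 : (((Nat.card S : ℝ) * mu S χ l : ℝ) : ℂ) = ((Nat.card S : ℝ) : ℂ) := by rw [e1, hκ2]
  push_cast at e2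
  exact e2

theorem Con2.exists_chi (hM : IsPModular 2 M) (h : Con2 M S s v k) :
    ∃ χ ∈ PBlk M G, χ ≠ oneIrr G ∧ charDegree (χ : G → ℂ) + 1 = Nat.card S ∧
      (χ : G → ℂ) s = -1 ∧ mu S χ 1 = 0 := by
  classical
  obtain ⟨hk, hkey⟩ := h.key hM
  set E := (PBlk M G).erase (oneIrr G) with hE
  have hmu : ∀ χ ∈ E, (mu S χ 1 : ℤ) = charDegree (χ : G → ℂ) - Nat.card S + 1 := by
    intro χ hχ
    rw [hE, Finset.mem_erase] at hχ
    have e1 := h.mu_one χ
    have e2 := hkey χ hχ.2 hχ.1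
    have e3 : (Nat.card S : ℂ) * mu S χ 1 =
        (Nat.card S : ℂ) * (charDegree (χ : G → ℂ) - Nat.card S + 1) := by
      rw [e1]
      rw [charDegree_spec] at e2 ⊢
      linear_combination (-(Nat.card S : ℂ) + 1) * e2
    have e4 := mul_left_cancel₀ (card_ne S) e3
    exact_mod_cast e4
  obtain ⟨χ, hχ, hlt⟩ : ∃ χ ∈ E, charDegree (χ : G → ℂ) < Nat.card S := by
    by_contra hcon
    push Not at hcon
    have e1 := KB_sing_reg (M := M) hM (ordOne (G := G)) h.dvd_s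
    unfold KB at e1
    rw [← Finset.add_sum_erase _ _ (oneIrr_mem_PBlk hM)] at e1
    simp only [oneIrr_apply, map_one, mul_one] at e1
    have e2 : ∑ χ ∈ E, (χ : G → ℂ) s * conj ((χ : G → ℂ) 1) =
        ((∑ χ ∈ E, (charDegree (χ : G → ℂ) - Nat.card S) * charDegree (χ : G → ℂ) : ℕ) : ℂ) := by
      push_cast
      refine Finset.sum_congr rfl fun χ hχ => ?_
      have e3 := hcon χ hχ
      rw [Finset.mem_erase] at hχ
      have e4 := hkey χ hχ.2 hχ.1
      rw [Nat.cast_sub e3, charDegree_spec, Complex.conj_natCast]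
      rw [charDegree_spec] at e4
      linear_combination (-(charDegree (χ : G → ℂ) : ℂ)) * e4
    rw [e2] at e1
    have e5 : 1 + ∑ χ ∈ E, (charDegree (χ : G → ℂ) - Nat.card S) * charDegree (χ : G → ℂ) = 0 := by
      exact_mod_cast e1
    omega
  have h1 := hmu χ hχ
  rw [hE, Finset.mem_erase] at hχ
  have h2 := hkey χ hχ.2 hχ.1
  have h3 : charDegree (χ : G → ℂ) + 1 = Nat.card S := by omega
  refine ⟨χ, hχ.2, hχ.1, h3, ?_, by omega⟩
  rw [charDegree_spec, ← h3] at h2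
  push_cast at h2
  linear_combination -h2

end const

end Cfsg.Agent.H70.PB
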