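import Cfsg.Agent.H70.PB10

set_option autoImplicit false
set_option linter.style.haveILetI false
set_option linter.unusedSimpArgs false
set_option linter.unusedSectionVars false
set_option linter.unusedVariables false

/-!
# Constant difference of degree and value: the centralizer of `S` (for S4514)
-/

namespace Cfsg.Agent.H70.PB

open scoped BigOperators ComplexConjugate
open Cfsg Cfsg.Agent.CharBase Cfsg.Agent.Blk Cfsg.Agent.BlkC

universe u

section cent

variable {G : Type u} [Group G] [Finite G] {M : Ideal AlgInt} {S : Subgroup G} {s v : G} {k : ℂ}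

/-- 2-elements of the normalizer are in `S` -/
theorem two_mem' (two : IsPGroup 2 S) (idx : ¬ 2 ∣ S.index) {n : G}
    (hn : n ∈ Subgroup.normalizer (S : Set G)) (h2 : ∃ k, orderOf n = 2 ^ k) : n ∈ S := by
  haveI : Fact (Nat.Prime 2) := ⟨Nat.prime_two⟩
  let P : Sylow 2 G := two.toSylow idx
  have hP : (P : Subgroup G) = S := rfl
  have hz : IsPGroup 2 (Subgroup.zpowers n) := by
    obtain ⟨k, hk⟩ := h2
    exact IsPGroup.of_card (by rw [Nat.card_zpowers, hk])
  have h3 : Subgroup.zpowers n ≤ Subgroup.normalizer ((P : Subgroup G) : Set G) := by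
    rw [Subgroup.zpowers_le, hP]; exact hn
  have h4 := P.is_maximal' (Q := (P : Subgroup G) ⊔ Subgroup.zpowers n)
    (IsPGroup.to_sup_of_normal_left' P.isPGroup' hz h3) le_sup_left
  rw [← hP, ← h4]
  exact Subgroup.mem_sup_right (Subgroup.mem_zpowers n)

/-- Burnside fusion -/
theorem fusion' (two : IsPGroup 2 S) (idx : ¬ 2 ∣ S.index) (hsq : ∀ s ∈ S, s * s = 1) {a b : G}
    (ha : a ∈ S) (hb : b ∈ S) (hab : IsConj a b) :
    ∃ n ∈ Subgroup.normalizer (S : Set G), n * a * n⁻¹ = b := by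
  haveI : Fact (Nat.Prime 2) := ⟨Nat.prime_two⟩
  let P : Sylow 2 G := two.toSylow idx
  have hP : (P : Subgroup G) = S := rfl
  have hle : S ≤ Subgroup.centralizer (S : Set G) := fun a ha =>
    Subgroup.mem_centralizer_iff.mpr fun b hb => comm_of_sq hsq hb ha
  obtain ⟨g, hg⟩ := isConj_iff.mp hab
  have h1 : a ∈ Subgroup.centralizer ((P : Subgroup G) : Set G) := by rw [hP]; exact hle ha
  have h2 : (g⁻¹)⁻¹ * a * g⁻¹ ∈ Subgroup.centralizer ((P : Subgroup G) : Set G) := by
    rw [inv_inv, hg, hP]; exact hle hb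
  obtain ⟨n, hn, hn'⟩ := P.conj_eq_normalizer_conj_of_mem_centralizer a g⁻¹ h1 h2
  have hPS : (P : Set G) = (S : Set G) := by rw [← hP]; rfl
  rw [hPS] at hn
  refine ⟨n⁻¹, inv_mem hn, ?_⟩
  rw [inv_inv, ← hn', inv_inv, hg]

theorem sum_two_val [Fintype S] (F : S → ℂ) (a : ℂ) (hF : ∀ t : S, t ≠ 1 → F t = a) (l : S →* ℂˣ) :
    ∑ t : S, F t * conj ((l t : ℂˣ) : ℂ) = a * ∑ t : S, conj ((l t : ℂˣ) : ℂ) + (F 1 - a) := by
  classical
  have h1 : ∀ t : S, F t * conj ((l t : ℂˣ) : ℂ) =
      a * conj ((l t : ℂˣ) : ℂ) + (if t = 1 then (F 1 - a) else 0) := by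
    intro t
    split_ifs with ht
    · rw [ht, map_one, Units.val_one, map_one]; ring
    · rw [hF t ht, add_zero]
  rw [Finset.sum_congr rfl fun t _ => h1 t, Finset.sum_add_distrib, ← Finset.mul_sum,
    Finset.sum_ite_eq' Finset.univ (1 : S), if_pos (Finset.mem_univ _)]

theorem norm_irr_le (χ : IrrCharacter G) (g : G) : ‖(χ : G → ℂ) g‖ ≤ (charDegree (χ : G → ℂ) : ℝ) := by
  obtain ⟨n, ρ, hρ, h⟩ := χ.2
  have h1 := Char.rep_norm_character_le ρ g
  have h2 : ((Module.finrank ℂ (Fin n → ℂ) : ℕ) : ℂ) = (charDegree (χ : G → ℂ) : ℂ) := by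
    rw [← charDegree_spec, ← h, Representation.char_one]
  have h3 : (Module.finrank ℂ (Fin n → ℂ) : ℕ) = charDegree (χ : G → ℂ) := by exact_mod_cast h2
  rw [← h, ← h] at *
  rw [h3] at h1
  exact h1

/-- the kernel of a nonprincipal character of the block -/
theorem Con2.ker_bot (hM : IsPModular 2 M) (h : Con2 M S s v k) {χ : IrrCharacter G}
    (hχ : χ ∈ PBlk M G) (hne : χ ≠ oneIrr G) : H4.charKer χ = ⊥ := by
  haveI : Fact (Nat.Prime 2) := ⟨Nat.prime_two⟩
  have hodd : Odd (Nat.card (H4.charKer χ)) := by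
    by_contra hne'
    have h2 : 2 ∣ Nat.card (H4.charKer χ) := by
      rw [Nat.not_odd_iff_even] at hne'
      exact hne'.two_dvd
    obtain ⟨t, ht⟩ := exists_prime_orderOf_dvd_card' 2 h2
    have h3 : orderOf (t : G) = 2 := by rw [Subgroup.orderOf_coe, ht]
    have ht1 : (t : G) ≠ 1 := by
      intro h0
      rw [h0, orderOf_one] at h3
      omega
    obtain ⟨g, hg⟩ := isConj_iff.mp (h.fus t ht1 ⟨1, by rw [h3, pow_one]⟩)
    have h4 : (χ : G → ℂ) t = (χ : G → ℂ) 1 := t.2
    rw [← hg, irr_isClassFunction χ s g] at h4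
    exact h.faithful hM hχ hne h4
  have := H4.le_pPrimeCore_two (N := H4.charKer χ) inferInstance hodd
  rw [h.core] at this
  exact le_bot_iff.mp this

theorem Con2.cent (hM : IsPModular 2 M) (h : Con2 M S s v k) :
    Subgroup.centralizer (S : Set G) ≤ S := by
  classical
  haveI : Fact (Nat.Prime 2) := ⟨Nat.prime_two⟩
  haveI := isPrime_of_isPModular hM
  haveI := Fintype.ofFinite G
  haveI := Fintype.ofFinite S
  have hcomm : ∀ {a b : G}, a ∈ S → b ∈ S → a * b = b * a := fun ha hb => comm_of_sq h.sq ha hb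
  have hSC : S ≤ Subgroup.centralizer (S : Set G) := fun a ha =>
    Subgroup.mem_centralizer_iff.mpr fun b hb => hcomm hb ha
  obtain ⟨C, hC⟩ : ∃ C : Subgroup G, C = Subgroup.centralizer (S : Set G) := ⟨_, rfl⟩
  have hCe : ∀ c : C, ∀ t ∈ S, t * (c : G) = c * t := fun c t ht =>
    Subgroup.mem_centralizer_iff.mp (hC.le c.2) t ht
  have hSC' : S ≤ C := hC ▸ hSC
  rw [← hC]
  haveI := Fintype.ofFinite C
  -- the numbers
  set m := (S.subgroupOf C).index with hm
  have hmodd : ¬ 2 ∣ m := fun h2 => h.idx (h2.trans (Subgroup.relIndex_dvd_index_of_le hSC'))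
  set z := (Subgroup.center C).index with hz
  have hzm : z ∣ m := by
    apply Subgroup.index_dvd_of_le
    intro c hc
    rw [Subgroup.mem_center_iff]
    intro c'
    exact Subtype.ext (hCe c' (c : G) hc).symm
  have hzodd : ¬ 2 ∣ z := fun h2 => hmodd (h2.trans hzm)
  have hN : ¬ 2 ∣ z * m := by
    intro h2
    rcases (Nat.Prime.dvd_mul Nat.prime_two).mp h2 with h3 | h3
    · exact hzodd h3
    · exact hmodd h3
  have hcardC : Nat.card (S.subgroupOf C) * m = Nat.card C := Subgroup.card_mul_index _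
  have hcardS : Nat.card S = Nat.card (S.subgroupOf C) := Nat.card_congr (eC hSC').toEquiv
  have hpow : ∀ c : C, (c : G) ^ (z * m) ∈ S := by
    intro c
    apply two_mem' h.two h.idx
    · rw [Subgroup.mem_normalizer_iff]
      intro t
      have h1 : Commute (c : G) t ∨ ¬ t ∈ S := by
        by_cases ht : t ∈ S
        · exact Or.inl (hCe c t ht).symm
        · exact Or.inr ht
      constructor
      · intro ht
        have h2 : Commute ((c : G) ^ (z * m)) t := (show Commute (c : G) t from (hCe c t ht).symm).pow_left _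
        rw [h2.eq, mul_inv_cancel_right]
        exact ht
      · intro ht
        have h2 := ((show Commute (c : G) _ from (hCe c _ ht).symm).pow_left (z * m))
        have h3 : t = (c : G) ^ (z * m) * t * ((c : G) ^ (z * m))⁻¹ := by
          have h4 := h2.eq
          -- (cⁿ) * (cⁿ t c⁻ⁿ) = (cⁿ t c⁻ⁿ) * cⁿ
          have h5 : (c : G) ^ (z * m) * ((c : G) ^ (z * m) * t * ((c : G) ^ (z * m))⁻¹) =
            (c : G) ^ (z * m) * t := by rw [h4]; group
          exact (mul_left_cancel h5).symm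
        rw [h3]
        exact ht
    · have h1 : ((c : G) ^ (z * m)) ^ Nat.card S = 1 := by
        have h2 : c ^ Nat.card C = 1 := pow_card_eq_one'
        have h3 : (c : G) ^ Nat.card C = 1 := by
          rw [← Subgroup.coe_pow, h2, Subgroup.coe_one]
        rw [← pow_mul, mul_assoc, mul_comm m, hcardS, hcardC, mul_comm, pow_mul, h3, one_pow]
      obtain ⟨j, hj⟩ := IsPGroup.iff_card.mp h.two
      rw [hj] at h1
      obtain ⟨i, -, hi⟩ := (Nat.dvd_prime_pow Nat.prime_two).mp (orderOf_dvd_of_pow_eq_one h1)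
      exact ⟨i, hi⟩
  -- the projection
  let P : C →* S :=
    { toFun := fun c => ⟨(c : G) ^ (z * m), hpow c⟩
      map_one' := Subtype.ext (by simp)
      map_mul' := fun a b => by
        apply Subtype.ext
        have h1 := ((MonoidHom.transferCenterPow C).map_mul a b)
        have h2 : (a * b) ^ z = a ^ z * b ^ z := congrArg Subtype.val h1
        have h3 : Commute (a ^ z) (b ^ z) := by
          have h4 : a ^ z ∈ Subgroup.center C := (Subgroup.center C).pow_index_mem a
          exact (Subgroup.mem_center_iff.mp h4 (b ^ z)).symm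
        have h5 : (a * b) ^ (z * m) = a ^ (z * m) * b ^ (z * m) := by
          rw [pow_mul, h2, h3.mul_pow, ← pow_mul, ← pow_mul]
        have h6 := congrArg Subtype.val h5
        simpa using h6 }
  have hPval : ∀ c : C, ((P c : S) : G) = (c : G) ^ (z * m) := fun c => rfl
  have hPS : ∀ t : S, P ⟨t, hSC' t.2⟩ = t := by
    intro t
    apply Subtype.ext
    rw [hPval]
    obtain ⟨j, hj⟩ := Nat.odd_iff.mpr (show (z * m) % 2 = 1 by omega)
    show (t : G) ^ (z * m) = t
    rw [hj, pow_succ, pow_mul, pow_two, h.sq t t.2, one_pow, one_mul]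
  have hPsurj : Function.Surjective P := fun t => ⟨_, hPS t⟩
  -- the character
  obtain ⟨χ, hχ, hχne, hdeg, hχs, hmu1⟩ := h.exists_chi hM
  let F : S → ℂ := fun t => ∑ c : C, if P c = t then (χ : G → ℂ) c else 0
  have hF : ∀ t : S, t ≠ 1 → F t = F ⟨s, h.hs⟩ := by
    intro t ht
    have hsS : (⟨s, h.hs⟩ : S) ≠ 1 := fun h0 => h.hs1 (congrArg Subtype.val h0)
    obtain ⟨n, hn, hnt⟩ := fusion' h.two h.idx h.sq h.hs t.2
      (h.two_conj t.2 (fun h0 => ht (Subtype.ext h0)))
    have hnC : ∀ c : C, n * (c : G) * n⁻¹ ∈ C := by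
      intro c
      refine hC.ge (Subgroup.mem_centralizer_iff.mpr fun t' ht' => ?_)
      have h2 : n⁻¹ * t' * n ∈ S := (Subgroup.mem_normalizer_iff''.mp hn t').mp ht'
      have h3 := hCe c _ h2
      calc t' * (n * (c : G) * n⁻¹) = n * (n⁻¹ * t' * n * c) * n⁻¹ := by group
        _ = n * (c * (n⁻¹ * t' * n)) * n⁻¹ := by rw [h3]
        _ = n * (c : G) * n⁻¹ * t' := by group
    have hnC' : ∀ c : C, n⁻¹ * (c : G) * n ∈ C := by
      intro c
      refine hC.ge (Subgroup.mem_centralizer_iff.mpr fun t' ht' => ?_)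
      have h2 : n * t' * n⁻¹ ∈ S := (Subgroup.mem_normalizer_iff.mp hn t').mp ht'
      have h3 := hCe c _ h2
      calc t' * (n⁻¹ * (c : G) * n) = n⁻¹ * (n * t' * n⁻¹ * c) * n := by group
        _ = n⁻¹ * (c * (n * t' * n⁻¹)) * n := by rw [h3]
        _ = n⁻¹ * (c : G) * n * t' := by group
    symm
    refine Fintype.sum_bijective (fun c : C => (⟨n * c * n⁻¹, hnC c⟩ : C)) ?_ _ _ fun c => ?_
    · constructor
      · intro a b hab
        have := congrArg Subtype.val hab
        have h3 : n * (a : G) * n⁻¹ = n * (b : G) * n⁻¹ := this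
        exact Subtype.ext (mul_left_cancel (mul_right_cancel h3))
      · intro b
        exact ⟨⟨n⁻¹ * b * n, hnC' b⟩, Subtype.ext (by
          show n * (n⁻¹ * (b : G) * n) * n⁻¹ = b
          group)⟩
    · have h1 : P c = ⟨s, h.hs⟩ ↔ P ⟨n * c * n⁻¹, hnC c⟩ = t := by
        rw [← Subtype.coe_inj, ← Subtype.coe_inj, hPval, hPval]
        show (c : G) ^ (z * m) = s ↔ (n * (c : G) * n⁻¹) ^ (z * m) = (t : G)
        rw [conj_pow, ← hnt]
        constructor
        · intro h0; rw [h0]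
        · intro h0; exact mul_left_cancel (mul_right_cancel h0)
      by_cases h2 : P c = ⟨s, h.hs⟩
      · rw [if_pos h2, if_pos (h1.mp h2)]
        exact (irr_isClassFunction χ (c : G) n).symm
      · rw [if_neg h2, if_neg (fun h3 => h2 (h1.mpr h3))]
  set a := F ⟨s, h.hs⟩ with ha
  have hmuC : ∀ l : S →* ℂˣ, (Nat.card C : ℂ) * mu C χ (l.comp P) =
      a * ∑ t : S, conj ((l t : ℂˣ) : ℂ) + (F 1 - a) := by
    intro l
    rw [mu_spec, ← mul_assoc, mul_inv_cancel₀ (card_ne C), one_mul, ← sum_two_val F a hF l]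
    have e1 : ∀ t : S, F t * conj ((l t : ℂˣ) : ℂ) =
        ∑ c : C, if P c = t then (χ : G → ℂ) c * conj ((l t : ℂˣ) : ℂ) else 0 := by
      intro t
      rw [Finset.sum_mul]
      exact Finset.sum_congr rfl fun c _ => by split_ifs <;> simp
    rw [Finset.sum_congr rfl fun t _ => e1 t, Finset.sum_comm]
    refine Finset.sum_congr rfl fun c _ => ?_
    rw [Finset.sum_ite_eq Finset.univ (P c), if_pos (Finset.mem_univ _)]
    rfl
  -- the principal character does not occur
  have h10 : mu C χ ((1 : S →* ℂˣ).comp P) = 0 := by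
    by_contra hne
    have h1 : classInner (fun c : C => (χ : G → ℂ) c) ((oneIrr C : IrrCharacter C) : C → ℂ) ≠ 0 := by
      have h2 := mu_spec' C χ ((1 : S →* ℂˣ).comp P)
      have h3 : (BlkInd.linIrr ((1 : S →* ℂˣ).comp P) : C → ℂ) =
          ((oneIrr C : IrrCharacter C) : C → ℂ) := rfl
      rw [← h3, ← h2]
      exact_mod_cast hne
    have h2 := mu_le_of_over hSC' h1 1
    rw [mu_one_oneIrr] at h2
    have h3 : ((1 : S.subgroupOf C →* ℂˣ).comp (eC hSC').toMonoidHom) = 1 := rfl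
    rw [h3, hmu1] at h2
    omega
  obtain ⟨l, hl⟩ := h.exists_lin
  have e1 := hmuC 1
  have e2 := hmuC l
  rw [h10, Nat.cast_zero, mul_zero] at e1
  have e3 : ∑ t : S, conj (((1 : S →* ℂˣ) t : ℂˣ) : ℂ) = (Nat.card S : ℂ) := by simp
  rw [e3] at e1
  rw [sum_conj_lin hl, mul_zero, zero_add] at e2
  -- cardinalities
  have hcardK : Nat.card P.ker * Nat.card S = Nat.card C := by
    have h1 : P.ker.index = Nat.card S := by
      rw [Subgroup.index_ker, MonoidHom.range_eq_top.mpr hPsurj, Subgroup.card_top]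
    rw [← h1, Subgroup.card_mul_index]
  have e4 : F 1 = (Nat.card P.ker : ℂ) * ((charDegree (χ : G → ℂ) : ℂ) * mu C χ (l.comp P)) := by
    have h1 : (charDegree (χ : G → ℂ) : ℂ) = (Nat.card S : ℂ) - 1 := by
      rw [← hdeg]; push_cast; ring
    have h2 : (Nat.card C : ℂ) = (Nat.card P.ker : ℂ) * (Nat.card S : ℂ) := by
      rw [← hcardK]; push_cast; rfl
    apply mul_left_cancel₀ (card_ne S)
    rw [h1]
    rw [h2] at e2
    linear_combination (-1 : ℂ) * e1 + (-((Nat.card S : ℂ) - 1)) * e2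
  have hd0 := irr_one_ne_zero χ.2
  have hkodd : ¬ 2 ∣ Nat.card P.ker := by
    intro h2
    obtain ⟨t, ht⟩ := exists_prime_orderOf_dvd_card' 2 h2
    have h1 : orderOf ((t : C) : G) = 2 := by rw [Subgroup.orderOf_coe, Subgroup.orderOf_coe, ht]
    have h3 : ((t : C) : G) ^ (z * m) = 1 := by
      have := MonoidHom.mem_ker.mp t.2
      rw [← hPval, this]; rfl
    have h4 := orderOf_dvd_of_pow_eq_one h3
    rw [h1] at h4
    exact hN h4
  have hF1 : F 1 ≠ 0 := by
    intro h0
    have h1 : MemLocalIdeal M (∑ c : C, if P c = 1 then ((χ : G → ℂ) c / (χ : G → ℂ) 1 - 1) else 0) := by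
      refine mli_sum _ _ fun c _ => ?_
      split_ifs
      · exact cong_of_index hM hχ (index_cent_odd h.idx (hC.le c.2))
      · exact mli_zero
    have h2 : (∑ c : C, if P c = 1 then ((χ : G → ℂ) c / (χ : G → ℂ) 1 - 1) else 0) =
        F 1 / (χ : G → ℂ) 1 - (Nat.card P.ker : ℂ) := by
      have e5 : (Nat.card P.ker : ℂ) = ∑ c : C, if P c = 1 then (1 : ℂ) else 0 := by
        rw [← Finset.sum_filter, Finset.sum_const, nsmul_eq_mul, mul_one, Nat.card_eq_fintype_card,
          Fintype.card_subtype]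
        congr!
      rw [e5]
      show _ = (∑ c : C, if P c = 1 then (χ : G → ℂ) c else 0) / (χ : G → ℂ) 1 - _
      rw [Finset.sum_div, ← Finset.sum_sub_distrib]
      exact Finset.sum_congr rfl fun c _ => by split_ifs <;> simp
    rw [h2, h0, zero_div, zero_sub] at h1
    have h3 := mli_neg h1
    rw [neg_neg, mli_natCast_iff hM] at h3
    exact hkodd h3
  have hmuge : 1 ≤ mu C χ (l.comp P) := by
    rw [Nat.one_le_iff_ne_zero]
    intro h0
    rw [h0, Nat.cast_zero, mul_zero, mul_zero] at e4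
    exact hF1 e4
  have hre : ∀ g : G, ((χ : G → ℂ) g).re ≤ (charDegree (χ : G → ℂ) : ℝ) := fun g =>
    (Complex.re_le_norm _).trans (norm_irr_le χ g)
  have hsum : ∑ c : C, (if P c = 1 then ((charDegree (χ : G → ℂ) : ℝ) - ((χ : G → ℂ) c).re) else 0) ≤ 0 := by
    have h1 : (F 1).re = (Nat.card P.ker : ℝ) * ((charDegree (χ : G → ℂ) : ℝ) * mu C χ (l.comp P)) := by
      rw [e4]
      norm_cast
    have h2 : (F 1).re = ∑ c : C, if P c = 1 then ((χ : G → ℂ) c).re else 0 := by
      show (∑ c : C, if P c = 1 then (χ : G → ℂ) c else 0).re = _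
      rw [Complex.re_sum]
      exact Finset.sum_congr rfl fun c _ => by split_ifs <;> simp
    have e5 : (Nat.card P.ker : ℝ) * (charDegree (χ : G → ℂ) : ℝ) =
        ∑ c : C, if P c = 1 then (charDegree (χ : G → ℂ) : ℝ) else 0 := by
      rw [← Finset.sum_filter, Finset.sum_const, nsmul_eq_mul, Nat.card_eq_fintype_card,
        Fintype.card_subtype]
      congr!
    have e6 : ∑ c : C, (if P c = 1 then ((charDegree (χ : G → ℂ) : ℝ) - ((χ : G → ℂ) c).re) else 0) =
        (Nat.card P.ker : ℝ) * (charDegree (χ : G → ℂ) : ℝ) - (F 1).re := by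
      rw [e5, h2, ← Finset.sum_sub_distrib]
      exact Finset.sum_congr rfl fun c _ => by split_ifs <;> simp
    rw [e6, h1]
    have h3 : (1 : ℝ) ≤ mu C χ (l.comp P) := by exact_mod_cast hmuge
    have h4 : (0 : ℝ) ≤ (Nat.card P.ker : ℝ) * (charDegree (χ : G → ℂ) : ℝ) := by positivity
    nlinarith
  have hnn : ∀ c ∈ (Finset.univ : Finset C),
      0 ≤ (if P c = 1 then ((charDegree (χ : G → ℂ) : ℝ) - ((χ : G → ℂ) c).re) else 0) := by
    intro c _
    split_ifs
    · linarith [hre (c : G)]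
    · exact le_rfl
  have hzero := (Finset.sum_eq_zero_iff_of_nonneg hnn).mp (le_antisymm hsum (Finset.sum_nonneg hnn))
  have hker : ∀ c : C, P c = 1 → (c : G) = 1 := by
    intro c hc
    have h1 := hzero c (Finset.mem_univ _)
    rw [if_pos hc, sub_eq_zero] at h1
    have h2 := norm_irr_le χ (c : G)
    have h3 : (χ : G → ℂ) c = (χ : G → ℂ) 1 := by
      rw [charDegree_spec]
      have h4 : ((χ : G → ℂ) c).im = 0 := by
        have h5 := Complex.sq_norm ((χ : G → ℂ) c)
        rw [Complex.normSq_apply, ← h1] at h5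
        have h6 : ‖(χ : G → ℂ) c‖ ^ 2 ≤ (charDegree (χ : G → ℂ) : ℝ) ^ 2 :=
          pow_le_pow_left₀ (norm_nonneg _) h2 2
        nlinarith [sq_nonneg ((χ : G → ℂ) c).im]
      apply Complex.ext
      · rw [← h1]; simp
      · rw [h4]; simp
    have h4 : (c : G) ∈ H4.charKer χ := h3
    rw [h.ker_bot hM hχ hχne] at h4
    exact Subgroup.mem_bot.mp h4
  intro c hc
  have h1 : P (⟨c, hc⟩ * (⟨P ⟨c, hc⟩, hSC' (P ⟨c, hc⟩).2⟩)⁻¹) = 1 := by
    rw [map_mul, map_inv, hPS, mul_inv_cancel]
  have h2 := hker _ h1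
  have h3 : c * ((P ⟨c, hc⟩ : S) : G)⁻¹ = 1 := h2
  rw [mul_inv_eq_one] at h3
  rw [h3]
  exact (P ⟨c, hc⟩).2

end cent

end Cfsg.Agent.H70.PB
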