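import Cfsg.Agent.H70.PB11

set_option autoImplicit false
set_option linter.style.haveILetI false
set_option linter.unusedSimpArgs false
set_option linter.unusedSectionVars false
set_option linter.unusedVariables false

/-!
# Constant difference of degree and value: the centralizers of involutions (for S4514)
-/

namespace Cfsg.Agent.H70.PB

open scoped BigOperators ComplexConjugate
open Cfsg Cfsg.Agent.CharBase Cfsg.Agent.Blk Cfsg.Agent.BlkC

universe u

/-- the situation after the second reduction -/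
structure Con3 (M : Ideal AlgInt) {G : Type u} [Group G] [Finite G] (S : Subgroup G) : Prop
    extends Base S where
  core : pPrimeCore 2 G = ⊥
  val : ∀ χ ∈ PBlk M G, χ ≠ oneIrr G → ∀ d ∈ S, d ≠ 1 →
    (χ : G → ℂ) 1 - (χ : G → ℂ) d = (Nat.card S : ℂ)
  fus : ∀ d ∈ S, d ≠ 1 → ∀ r : G, r ≠ 1 → (∃ j, orderOf r = 2 ^ j) → IsConj d r
  chi : ∃ χ ∈ PBlk M G, χ ≠ oneIrr G ∧ charDegree (χ : G → ℂ) + 1 = Nat.card S ∧ H4.charKer χ = ⊥

section loc2

variable {G : Type u} [Group G] [Finite G] {M : Ideal AlgInt} {S : Subgroup G} {s v : G} {k : ℂ}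

theorem Con2.con3 (hM : IsPModular 2 M) (h : Con2 M S s v k) : Con3 M S := by
  refine ⟨⟨h.two, h.idx, h.sq, h.cent hM⟩, h.core, ?_, ?_, ?_⟩
  · intro χ hχ hne d hd hd1
    rw [h.val_eq χ hd hd1]
    exact (h.key hM).2 χ hχ hne
  · intro d hd hd1 r hr1 hr
    exact (h.two_conj hd hd1).symm.trans (h.fus r hr1 hr)
  · obtain ⟨χ, h1, h2, h3, h4, h5⟩ := h.exists_chi hM
    exact ⟨χ, h1, h2, h3, h.ker_bot hM h1 h2⟩

/-- multiplication by a linear character with values `±1` -/
noncomputable def dl {C : Type u} [Group C] [Finite C] (δ : C →* ℂˣ) (η : IrrCharacter C) :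
    IrrCharacter C :=
  ⟨(BlkInd.linIrr δ : C → ℂ) * (η : C → ℂ), H76.isIrr_linear_mul (irr_isCharacter (BlkInd.linIrr δ))
    (by show ((δ 1 : ℂˣ) : ℂ) = 1; rw [map_one]; rfl) η.2⟩

theorem dl_apply {C : Type u} [Group C] [Finite C] (δ : C →* ℂˣ) (η : IrrCharacter C) (x : C) :
    (dl δ η : C → ℂ) x = ((δ x : ℂˣ) : ℂ) * (η : C → ℂ) x := rfl

theorem dl_mem (hM : IsPModular 2 M) {C : Type u} [Group C] [Finite C] {δ : C →* ℂˣ}
    (hδ : ∀ x, δ x * δ x = 1) {η : IrrCharacter C} (hη : η ∈ PBlk M C) : dl δ η ∈ PBlk M C := by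
  haveI := isPrime_of_isPModular hM
  refine mem_PBlk.mpr fun x => ?_
  have h1 := mem_PBlk.mp hη x
  have h2 : centralChar (dl δ η : C → ℂ) x = ((δ x : ℂˣ) : ℂ) * centralChar (η : C → ℂ) x := by
    unfold centralChar
    rw [dl_apply, dl_apply, map_one, Units.val_one, one_mul]
    ring
  have h3 : MemLocalIdeal M (1 - ((δ x : ℂˣ) : ℂ)) := by
    have h4 : ((δ x : ℂˣ) : ℂ) * ((δ x : ℂˣ) : ℂ) = 1 := by
      rw [← Units.val_mul, hδ, Units.val_one]
    rcases mul_self_eq_one_iff.mp h4 with h5 | h5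
    · rw [h5, sub_self]; exact mli_zero
    · have h6 : (1 : ℂ) - -1 = ((2 : ℕ) : ℂ) := by norm_num
      rw [h5, h6, mli_natCast_iff hM]
  have h4 : MemLocalRing M (centralChar (η : C → ℂ) x) := by
    have h5 : MemLocalRing M (centralChar (fun _ : C => (1 : ℂ)) x) := by
      unfold centralChar
      rw [mul_one, div_one]
      exact mlr_natCast _
    have h6 := mlr_sub h5 (mlr_of_mli h1)
    rwa [sub_sub_cancel] at h6
  have h5 : centralChar (fun _ : C => (1 : ℂ)) x - centralChar (dl δ η : C → ℂ) x =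
      (centralChar (fun _ : C => (1 : ℂ)) x - centralChar (η : C → ℂ) x) +
        (1 - ((δ x : ℂˣ) : ℂ)) * centralChar (η : C → ℂ) x := by
    rw [h2]; ring
  rw [h5]
  exact mli_add h1 (mli_mul_right h3 h4)

theorem dl_dl {C : Type u} [Group C] [Finite C] {δ : C →* ℂˣ}
    (hδ : ∀ x, δ x * δ x = 1) (η : IrrCharacter C) : dl δ (dl δ η) = η := by
  apply Subtype.ext
  funext x
  rw [dl_apply, dl_apply, ← mul_assoc, ← Units.val_mul, hδ, Units.val_one, one_mul]

/-- the transfer character -/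
theorem Base.exists_delta {C : Type u} [Group C] [Finite C] {T : Subgroup C} (hT : Base T) {t : C}
    (ht : t ∈ T) (ht1 : t ≠ 1) (hz : t ∈ Subgroup.center C) :
    ∃ δ : C →* ℂˣ, (∀ x, δ x * δ x = 1) ∧ ((δ t : ℂˣ) : ℂ) = -1 := by
  letI : CommGroup T := { (inferInstance : Group T) with mul_comm := hT.comm' }
  have hne : (⟨t, ht⟩ : T) ≠ 1 := fun h0 => ht1 (congrArg Subtype.val h0)
  obtain ⟨l, hl⟩ := CommGroup.exists_apply_ne_one_of_hasEnoughRootsOfUnity T ℂ hne
  let V : C →* T := MonoidHom.transfer (MonoidHom.id T)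
  have key : ∀ (k : ℕ) (g₀ : C), g₀⁻¹ * t ^ k * g₀ ∈ T → g₀⁻¹ * t ^ k * g₀ = t ^ k := by
    intro k g₀ _
    have h1 : t ^ k ∈ Subgroup.center C := pow_mem hz k
    rw [mul_assoc, ← Subgroup.mem_center_iff.mp h1 g₀, inv_mul_cancel_left]
  have hV := MonoidHom.transfer_eq_pow (MonoidHom.id T) t key
  have htp : t ^ T.index = t := by
    obtain ⟨j, hj⟩ := Nat.odd_iff.mpr (show T.index % 2 = 1 by have := hT.idx; omega)
    rw [hj, pow_succ, pow_mul, pow_two, hT.sq t ht, one_pow, one_mul]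
  have hV2 : V t = ⟨t, ht⟩ := hV.trans (Subtype.ext htp)
  refine ⟨l.comp V, ?_, ?_⟩
  · intro x
    show l (V x) * l (V x) = 1
    rw [← map_mul]
    have : V x * V x = 1 := Subtype.ext (hT.sq _ (V x).2)
    rw [this, map_one]
  · show ((l (V t) : ℂˣ) : ℂ) = -1
    rw [hV2]
    rcases lin_pm hT.sq l ⟨t, ht⟩ with h1 | h1
    · exact absurd (Units.ext h1) hl
    · exact h1

theorem Con3.hyp (hM : IsPModular 2 M) (h : Con3 M S) {s : G} (hs : s ∈ S) (hs1 : s ≠ 1)
    {C : Subgroup G} (hC : C = Subgroup.centralizer ({s} : Set G)) (hSC : S ≤ C) :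
    Hyp M (S.subgroupOf C) := by
  classical
  haveI := Fact.mk hM.1
  haveI := isPrime_of_isPModular hM
  haveI := Fintype.ofFinite G
  haveI := Fintype.ofFinite C
  haveI := Fintype.ofFinite (S.subgroupOf C)
  have hb := h.toBase.sub hSC
  have hss := h.sq s hs
  have hsC : (⟨s, hSC hs⟩ : C) ∈ S.subgroupOf C := hs
  have hsC1 : (⟨s, hSC hs⟩ : C) ≠ 1 := fun h0 => hs1 (congrArg Subtype.val h0)
  have hsz : (⟨s, hSC hs⟩ : C) ∈ Subgroup.center C := by
    rw [Subgroup.mem_center_iff]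
    intro c
    exact Subtype.ext (Subgroup.mem_centralizer_singleton_iff.mp (hC.le c.2))
  have hcard : Nat.card S = Nat.card (S.subgroupOf C) := Nat.card_congr (eC hSC).toEquiv
  obtain ⟨δ, hδ, hδs⟩ := hb.exists_delta hsC hsC1 hsz
  -- multiplicities of nontrivial characters
  have hA : ∀ θ ∈ PBlk M C, ∀ l : S.subgroupOf C →* ℂˣ, l ≠ 1 → mu (S.subgroupOf C) θ l ≤ 1 := by
    intro θ hθ l hl
    obtain ⟨χ, hχ, hne⟩ := exists_over_principal hM C (mem_PBlk.mp hθ)
    refine (mu_le_of_over hSC hne l).trans ?_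
    have hl' : l.comp (eC hSC).toMonoidHom ≠ 1 := by
      intro h0
      apply hl
      apply MonoidHom.ext
      intro t
      have h1 := DFunLike.congr_fun h0 ((eC hSC).symm t)
      have h2 : l (eC hSC ((eC hSC).symm t)) = 1 := h1
      rwa [MulEquiv.apply_symm_apply] at h2
    by_cases hχ1 : χ = oneIrr G
    · rw [hχ1, mu_oneIrr_ne S hl']
      omega
    · have h1 : (Nat.card S : ℂ) * mu S χ (l.comp (eC hSC).toMonoidHom) = (Nat.card S : ℂ) := by
        haveI := Fintype.ofFinite S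
        rw [mu_spec, ← mul_assoc, mul_inv_cancel₀ (card_ne S), one_mul]
        have h2 := sum_two_val (fun t : S => (χ : G → ℂ) t) ((χ : G → ℂ) s) (fun t ht => by
          have e1 := h.val χ (mem_PBlk.mpr hχ) hχ1 t t.2 (fun h0 => ht (Subtype.ext h0))
          have e2 := h.val χ (mem_PBlk.mpr hχ) hχ1 s hs hs1
          linear_combination e2 - e1) (l.comp (eC hSC).toMonoidHom)
        rw [h2, sum_conj_lin hl', mul_zero, zero_add]
        exact h.val χ (mem_PBlk.mpr hχ) hχ1 s hs hs1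
      have h2 : mu S χ (l.comp (eC hSC).toMonoidHom) = 1 := by
        have h3 : (Nat.card S : ℂ) * mu S χ (l.comp (eC hSC).toMonoidHom) = (Nat.card S : ℂ) * (1 : ℕ) := by
          rw [h1]; push_cast; ring
        exact_mod_cast mul_left_cancel₀ (card_ne S) h3
      omega
  refine ⟨hb, ?_, ?_⟩
  · intro η hη l
    by_cases hl : l = 1
    · subst hl
      let lδ : S.subgroupOf C →* ℂˣ := δ.comp (S.subgroupOf C).subtype
      have hlδ : lδ ≠ 1 := by
        intro h0
        have h1 : lδ ⟨⟨s, hSC hs⟩, hsC⟩ = 1 := by rw [h0]; rfl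
        have h2 : δ ⟨s, hSC hs⟩ = 1 := h1
        rw [h2, Units.val_one] at hδs
        norm_num at hδs
      have h1 := hA (dl δ η) (dl_mem hM hδ (mem_PBlk.mpr hη)) lδ hlδ
      have h2 : (mu (S.subgroupOf C) (dl δ η) lδ : ℂ) = (mu (S.subgroupOf C) η 1 : ℂ) := by
        rw [mu_spec, mu_spec]
        congr 1
        refine Finset.sum_congr rfl fun t _ => ?_
        rw [dl_apply, lin_conj hb.sq lδ t]
        show ((δ (t : C) : ℂˣ) : ℂ) * _ * ((δ (t : C) : ℂˣ) : ℂ) = _
        have h3 : ((δ (t : C) : ℂˣ) : ℂ) * ((δ (t : C) : ℂˣ) : ℂ) = 1 := by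
          rw [← Units.val_mul, hδ, Units.val_one]
        rw [MonoidHom.one_apply, Units.val_one, map_one, mul_one]
        linear_combination ((η : C → ℂ) t) * h3
      have h3 : mu (S.subgroupOf C) (dl δ η) lδ = mu (S.subgroupOf C) η 1 := by exact_mod_cast h2
      rwa [h3] at h1
    · exact hA η (mem_PBlk.mpr hη) l hl
  · intro x hx
    have hxG : ¬ 2 ∣ orderOf (x : G) := by rwa [Subgroup.orderOf_coe]
    have hcx : Commute s (x : G) :=
      (Subgroup.mem_centralizer_singleton_iff.mp (hC.le x.2)).symm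
    set E := (PBlk M G).erase (oneIrr G) with hE
    have h2sx : 2 ∣ orderOf (s * (x : G)) := by
      have hcop : Nat.Coprime (orderOf s) (orderOf (x : G)) := by
        rw [ord_two hss hs1]
        exact (Nat.Prime.coprime_iff_not_dvd Nat.prime_two).mpr hxG
      rw [hcx.orderOf_mul_eq_mul_orderOf_of_coprime hcop, ord_two hss hs1]
      exact Dvd.intro _ rfl
    have e1 : KB M (s * (x : G)) s = KB M x 1 := by
      have := KB_loc hM (ord_of_sq hss) hC x 1 hx ordOne
      rwa [Subgroup.coe_one, mul_one] at this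
    have e2 : KB M (s * (x : G)) s = -((Nat.card S : ℂ) * ∑ χ ∈ E, (χ : G → ℂ) (s * (x : G))) := by
      have e3 := KB_sing_reg (M := M) hM (ordOne (G := G)) h2sx
      have e4 : KB M (s * (x : G)) s - KB M (s * (x : G)) 1 =
          -((Nat.card S : ℂ) * ∑ χ ∈ E, (χ : G → ℂ) (s * (x : G))) := by
        unfold KB
        rw [← Finset.sum_sub_distrib, ← Finset.add_sum_erase _ _ (oneIrr_mem_PBlk hM), Finset.mul_sum,
          ← Finset.sum_neg_distrib]
        simp only [oneIrr_apply, sub_self, zero_add]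
        refine Finset.sum_congr rfl fun χ hχ => ?_
        rw [Finset.mem_erase] at hχ
        have e5 := h.val χ hχ.2 hχ.1 s hs hs1
        have e6 : conj ((χ : G → ℂ) 1) - conj ((χ : G → ℂ) s) = (Nat.card S : ℂ) := by
          rw [← map_sub, e5, Complex.conj_natCast]
        linear_combination (-(χ : G → ℂ) (s * (x : G))) * e6
      rw [e3, sub_zero] at e4
      exact e4
    have e3 : Pl M (S.subgroupOf C) 1 x = -∑ χ ∈ E, (χ : G → ℂ) (s * (x : G)) := by
      rw [Pl_reg hM hb.sq 1 hx, ← e1, e2, ← hcard]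
      have := card_ne S
      field_simp
    have e4 : Pl M (S.subgroupOf C) 1 x - 1 = -∑ χ ∈ PBlk M G, (χ : G → ℂ) (s * (x : G)) := by
      rw [e3, ← Finset.add_sum_erase _ _ (oneIrr_mem_PBlk hM), oneIrr_apply]
      ring
    rw [e4]
    apply mli_neg
    -- squares
    haveI := charP_kM hM
    have hloc : ∀ χ : IrrCharacter G, MemLocalRing M ((χ : G → ℂ) (s * (x : G))) := fun χ =>
      Cfsg.Agent.Char.MP.mlr_char (irr_isCharacter χ) _
    have hloc' : ∀ η : IrrCharacter C, MemLocalRing M ((η : C → ℂ) x) := fun η =>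
      Cfsg.Agent.Char.MP.mlr_char (irr_isCharacter η) _
    have e5 : ∑ χ ∈ PBlk M G, (χ : G → ℂ) (s * (x : G)) ^ 2 =
        ∑ η ∈ PBlk M C, (η : C → ℂ) x ^ 2 := by
      have hx' : ¬ 2 ∣ orderOf (x⁻¹ : C) := by rwa [orderOf_inv]
      have e6 := KB_loc hM (ord_of_sq hss) hC x x⁻¹ hx hx'
      unfold KB at e6
      have e7 : ∀ χ : IrrCharacter G, conj ((χ : G → ℂ) (s * ((x⁻¹ : C) : G))) =
          (χ : G → ℂ) (s * (x : G)) := by
        intro χ
        rw [← irr_inv, mul_inv_rev, Subgroup.coe_inv, inv_inv, inv_eq_of_mul_eq_one_right hss,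
          hcx.eq]
      have e8 : ∀ η : IrrCharacter C, conj ((η : C → ℂ) x⁻¹) = (η : C → ℂ) x := by
        intro η
        rw [← irr_inv, inv_inv]
      simp_rw [e7, e8] at e6
      simp_rw [pow_two]
      exact e6
    have e6 : rd M (∑ η ∈ PBlk M C, (η : C → ℂ) x ^ 2) = 0 := by
      rw [rd_sum _ _ fun η _ => mlr_pow (hloc' η) 2]
      refine Finset.sum_involution (fun η _ => dl δ η) ?_ ?_ ?_ ?_
      · intro η hη
        have hδx : ((δ x : ℂˣ) : ℂ) ^ 2 = 1 := by
          rw [pow_two, ← Units.val_mul, hδ, Units.val_one]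
        rw [dl_apply, mul_pow, hδx, one_mul]
        exact CharTwo.add_self_eq_zero _
      · intro η hη _ h0
        have h1 : ((δ ⟨s, hSC hs⟩ : ℂˣ) : ℂ) * (η : C → ℂ) ⟨s, hSC hs⟩ = (η : C → ℂ) ⟨s, hSC hs⟩ := by
          rw [← dl_apply, h0]
        rw [hδs] at h1
        have h2 := hb.val_ne_zero hM hη hsC
        apply h2
        linear_combination (-1 / 2 : ℂ) * h1
      · intro η hη
        exact dl_mem hM hδ hη
      · intro η hη
        exact dl_dl hδ η
    rw [← e5, rd_sum _ _ fun χ _ => mlr_pow (hloc χ) 2] at e6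
    have e7 : rd M (∑ χ ∈ PBlk M G, (χ : G → ℂ) (s * (x : G))) ^ 2 = 0 := by
      rw [rd_sum _ _ fun χ _ => hloc χ, CharTwo.sum_sq, ← e6]
      exact Finset.sum_congr rfl fun χ _ => (rd_pow (hloc χ) 2).symm
    exact (rd_eq_zero_iff (mlr_sum _ _ fun χ _ => hloc χ)).mp (pow_eq_zero_iff two_ne_zero |>.mp e7)

theorem Con3.np (hM : IsPModular 2 M) (h : Con3 M S) {s : G} (hs : s ∈ S) (hs1 : s ≠ 1) :
    NP (Subgroup.centralizer ({s} : Set G)) := by
  have hSC : S ≤ Subgroup.centralizer ({s} : Set G) := fun t ht =>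
    Subgroup.mem_centralizer_singleton_iff.mpr (h.comm ht hs)
  exact (h.hyp hM hs hs1 rfl hSC).np hM

end loc2

end Cfsg.Agent.H70.PB
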