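import Cfsg.Agent.H70.PB12

set_option autoImplicit false
set_option linter.style.haveILetI false
set_option linter.unusedSimpArgs false
set_option linter.unusedSectionVars false
set_option linter.unusedVariables false

/-!
# Constant difference of degree and value: centralizers of involutions are Sylow subgroups (for S4514)
-/

namespace Cfsg.Agent.H70.PB

open scoped BigOperators ComplexConjugate
open Cfsg Cfsg.Agent.CharBase Cfsg.Agent.Blk Cfsg.Agent.BlkC

universe u

section cs

variable {G : Type u} [Group G] [Finite G] {M : Ideal AlgInt} {S : Subgroup G}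

/-- a fixed point free involutory action inverts -/
theorem inv_of_fpf (Y : Subgroup G) (t : G) (ht : t * t = 1) (hY : ∀ y ∈ Y, t * y * t⁻¹ ∈ Y)
    (hfix : ∀ y ∈ Y, t * y * t⁻¹ = y → y = 1) : ∀ y ∈ Y, t * y * t⁻¹ = y⁻¹ := by
  let φ : Y →* Y :=
    { toFun := fun y => ⟨t * y * t⁻¹, hY y y.2⟩
      map_one' := Subtype.ext (by simp)
      map_mul' := fun a b => Subtype.ext (by simp) }
  have h1 : MonoidHom.FixedPointFree φ := by
    intro y hy
    exact Subtype.ext (hfix y y.2 (congrArg Subtype.val hy))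
  have hti : t⁻¹ = t := inv_eq_of_mul_eq_one_right ht
  have h2 : Function.Involutive φ := by
    intro y
    apply Subtype.ext
    show t * (t * (y : G) * t⁻¹) * t⁻¹ = y
    have : t * (t * (y : G) * t⁻¹) * t⁻¹ = (t * t) * y * (t * t)⁻¹ := by group
    rw [this, ht]; simp
  have h3 := h1.coe_eq_inv_of_involutive h2
  intro y hy
  have h4 := congrFun h3 ⟨y, hy⟩
  exact congrArg Subtype.val h4

/-- odd elements of the centralizer of an involution lie in the core -/
theorem Con3.mem_core (hM : IsPModular 2 M) (h : Con3 M S) {d : G} (hd : d ∈ S) (hd1 : d ≠ 1) {y : G}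
    (hy : y * d = d * y) (hy2 : ¬ 2 ∣ orderOf y) : y ∈ centralizerPPrimeCore 2 d := by
  haveI : Fact (Nat.Prime 2) := ⟨Nat.prime_two⟩
  obtain ⟨k, hk⟩ := h.np hM hd hd1
  have hyC : y ∈ Subgroup.centralizer ({d} : Set G) := Subgroup.mem_centralizer_singleton_iff.mpr hy
  have h1 : (⟨y, hyC⟩ : Subgroup.centralizer ({d} : Set G)) ∈
      pPrimeCore 2 (Subgroup.centralizer ({d} : Set G)) :=
    H4.mem_of_regular_of_index hk (by rwa [Subgroup.orderOf_mk])
  exact ⟨_, h1, rfl⟩

theorem odd_of_mem_core {d y : G} (hy : y ∈ centralizerPPrimeCore 2 d) : ¬ 2 ∣ orderOf y := by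
  haveI : Fact (Nat.Prime 2) := ⟨Nat.prime_two⟩
  obtain ⟨y', hy', rfl⟩ := hy
  intro h2
  have h3 : orderOf ((Subgroup.centralizer ({d} : Set G)).subtype y') ∣
      Nat.card (pPrimeCore 2 (Subgroup.centralizer ({d} : Set G))) := by
    have := orderOf_dvd_natCard (⟨y', hy'⟩ : pPrimeCore 2 (Subgroup.centralizer ({d} : Set G)))
    rw [Subgroup.orderOf_mk] at this
    have h4 : orderOf ((Subgroup.centralizer ({d} : Set G)).subtype y') = orderOf y' :=
      Subgroup.orderOf_coe y'
    rwa [h4]
  have h6 := Cfsg.Agent.Solv.pPrimeCore_card_coprime (G := Subgroup.centralizer ({d} : Set G)) 2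
  have h7 : Nat.Coprime 2 2 := Nat.Coprime.coprime_dvd_left (h2.trans h3) h6
  norm_num at h7

theorem cent_of_mem_core {d y : G} (hy : y ∈ centralizerPPrimeCore 2 d) : y * d = d * y := by
  obtain ⟨y', -, rfl⟩ := hy
  exact Subgroup.mem_centralizer_singleton_iff.mp y'.2

theorem odd_sq_eq_one {y : G} (hy : ¬ 2 ∣ orderOf y) (h : y * y = 1) : y = 1 := by
  have h1 : orderOf y ∣ 2 := orderOf_dvd_of_pow_eq_one (by rw [pow_two, h])
  rcases (Nat.dvd_prime Nat.prime_two).mp h1 with h2 | h2
  · exact orderOf_eq_one_iff.mp h2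
  · exact absurd (by rw [h2]) hy

theorem Con3.cent_aux (hM : IsPModular 2 M) (h : Con3 M S) (n : ℕ) :
    ∀ D : Subgroup G, D ≤ S → D ≠ ⊥ → Nat.card S - Nat.card D = n →
      ∀ y : G, ¬ 2 ∣ orderOf y → (∀ d ∈ D, y * d = d * y) → y = 1 := by
  induction n using Nat.strong_induction_on with
  | _ n ih =>
    classical
    haveI : Fact (Nat.Prime 2) := ⟨Nat.prime_two⟩
    haveI := Fintype.ofFinite G
    haveI := Fintype.ofFinite S
    intro D hDS hD hn y hy hyD
    by_cases hDS' : D = S
    · exact h.mem_of_odd_cent hy (fun s hs => hyD s (hDS' ▸ hs))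
    obtain ⟨d₀, hd₀, hd₀1⟩ : ∃ d ∈ D, d ≠ 1 := by
      by_contra hcon
      push Not at hcon
      exact hD ((Subgroup.eq_bot_iff_forall D).mpr hcon)
    obtain ⟨t₀, ht₀S, ht₀D⟩ : ∃ t ∈ S, t ∉ D := by
      by_contra hcon
      push Not at hcon
      exact hDS' (le_antisymm hDS hcon)
    set Y : Subgroup G := centralizerPPrimeCore 2 d₀ ⊓ Subgroup.centralizer (D : Set G) with hYdef
    have hmemY : ∀ w : G, w ∈ Y ↔ ¬ 2 ∣ orderOf w ∧ ∀ d ∈ D, w * d = d * w := by
      intro w
      rw [hYdef, Subgroup.mem_inf, Subgroup.mem_centralizer_iff]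
      constructor
      · rintro ⟨h1, h2⟩
        exact ⟨odd_of_mem_core h1, fun d hd => (h2 d hd).symm⟩
      · rintro ⟨h1, h2⟩
        exact ⟨h.mem_core hM (hDS hd₀) hd₀1 (h2 d₀ hd₀) h1, fun d hd => (h2 d hd).symm⟩
    have hinv : ∀ t ∈ S, t ∉ D → ∀ w ∈ Y, t * w * t⁻¹ = w⁻¹ := by
      intro t ht htD
      refine inv_of_fpf Y t (h.sq t ht) ?_ ?_
      · intro w hw
        obtain ⟨h1, h2⟩ := (hmemY w).mp hw
        refine (hmemY _).mpr ⟨?_, ?_⟩
        · have := orderOf_isConj (isConj_iff.mpr ⟨t, rfl⟩ : IsConj w (t * w * t⁻¹))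
          rwa [← this]
        · intro d hd
          have h3 : t⁻¹ * d = d * t⁻¹ := by
            have := h.comm ht (hDS hd)
            calc t⁻¹ * d = t⁻¹ * (d * t) * t⁻¹ := by group
              _ = t⁻¹ * (t * d) * t⁻¹ := by rw [this]
              _ = d * t⁻¹ := by group
          calc t * w * t⁻¹ * d = t * w * (t⁻¹ * d) := by group
            _ = t * (w * d) * t⁻¹ := by rw [h3]; group
            _ = t * d * w * t⁻¹ := by rw [h2 d hd]; group
            _ = d * (t * w * t⁻¹) := by rw [h.comm ht (hDS hd)]; group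
      · intro w hw hfix
        obtain ⟨h1, h2⟩ := (hmemY w).mp hw
        have hlt : D < D ⊔ Subgroup.zpowers t := by
          refine lt_of_le_of_ne le_sup_left fun h0 => htD ?_
          rw [h0]
          exact Subgroup.mem_sup_right (Subgroup.mem_zpowers t)
        have hle : D ⊔ Subgroup.zpowers t ≤ S := sup_le hDS (by rwa [Subgroup.zpowers_le])
        have hc1 : Nat.card D < Nat.card (D ⊔ Subgroup.zpowers t : Subgroup G) := by
          refine lt_of_le_of_ne (Subgroup.card_le_of_le hlt.le) fun h0 => hlt.ne ?_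
          exact Subgroup.eq_of_le_of_card_ge hlt.le h0.ge
        have hc2 : Nat.card (D ⊔ Subgroup.zpowers t : Subgroup G) ≤ Nat.card S :=
          Subgroup.card_le_of_le hle
        refine ih _ (by omega) (D ⊔ Subgroup.zpowers t) hle ?_ rfl w h1 ?_
        · intro h0
          rw [h0] at hlt
          exact not_lt_bot hlt
        · have hle2 : D ⊔ Subgroup.zpowers t ≤ Subgroup.centralizer ({w} : Set G) := by
            refine sup_le (fun d hd => Subgroup.mem_centralizer_singleton_iff.mpr (h2 d hd).symm) ?_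
            rw [Subgroup.zpowers_le, Subgroup.mem_centralizer_singleton_iff]
            exact mul_inv_eq_iff_eq_mul.mp hfix
          intro d hd
          exact (Subgroup.mem_centralizer_singleton_iff.mp (hle2 hd)).symm
    have hyY : y ∈ Y := (hmemY y).mpr ⟨hy, hyD⟩
    by_cases hcase : ∃ t₁ ∈ S, t₁ ∉ D ∧ ∃ t₂ ∈ S, t₂ ∉ D ∧ t₁ * t₂ ∉ D
    · obtain ⟨t₁, h1, h2, t₂, h3, h4, h5⟩ := hcase
      have e1 := hinv t₁ h1 h2 y⁻¹ (Y.inv_mem hyY)
      have e2 := hinv t₂ h3 h4 y hyY
      have e3 := hinv (t₁ * t₂) (S.mul_mem h1 h3) h5 y hyY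
      have e4 : t₁ * t₂ * y * (t₁ * t₂)⁻¹ = t₁ * (t₂ * y * t₂⁻¹) * t₁⁻¹ := by group
      rw [e4, e2, e1, inv_inv] at e3
      apply odd_sq_eq_one hy
      nth_rewrite 2 [e3]
      exact mul_inv_cancel y
    · push Not at hcase
      -- index two
      have hidx : (D.subgroupOf S).index = 2 := by
        rw [Subgroup.index_eq_two_iff]
        refine ⟨⟨t₀, ht₀S⟩, fun b => ?_⟩
        rw [xor_iff_iff_not]
        show ((b : G) * t₀ ∈ D) ↔ ¬ ((b : G) ∈ D)
        constructor
        · intro h1 h2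
          exact ht₀D ((Subgroup.mul_mem_cancel_left D h2).mp h1)
        · intro h1
          exact hcase b b.2 h1 t₀ ht₀S ht₀D
      have hcardD : Nat.card D * 2 = Nat.card S := by
        have h1 := Subgroup.card_mul_index (D.subgroupOf S)
        rw [hidx] at h1
        have h2 : Nat.card (D.subgroupOf S) = Nat.card D :=
          Nat.card_congr (Subgroup.subgroupOfEquivOfLe hDS).toEquiv
        rw [← h1, h2]
      obtain ⟨χ, hχ, hχne, hdeg, hker⟩ := h.chi
      haveI := Fintype.ofFinite D
      have hval : ∀ d ∈ S, d ≠ 1 → (χ : G → ℂ) d = -1 := by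
        intro d hd hd1
        have h1 := h.val χ hχ hχne d hd hd1
        rw [charDegree_spec, ← hdeg] at h1
        push_cast at h1
        linear_combination -h1
      have hd1 : (χ : G → ℂ) 1 = 2 * (Nat.card D : ℂ) - 1 := by
        have h1 : (charDegree (χ : G → ℂ) : ℂ) + 1 = (Nat.card D : ℂ) * 2 := by exact_mod_cast hdeg.trans hcardD.symm
        rw [charDegree_spec]
        linear_combination h1
      have hsumD : ∀ w : G, ∑ d : D, (if d = 1 then (χ : G → ℂ) w else -1) =
          (χ : G → ℂ) w - ((Nat.card D : ℂ) - 1) := by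
        intro w
        have h1 : ∀ d : D, (if d = 1 then (χ : G → ℂ) w else -1) =
            (-1 : ℂ) + (if d = 1 then (χ : G → ℂ) w + 1 else 0) := by
          intro d; split_ifs <;> ring
        rw [Finset.sum_congr rfl fun d _ => h1 d, Finset.sum_add_distrib,
          Finset.sum_ite_eq' Finset.univ (1 : D), if_pos (Finset.mem_univ _), Finset.sum_const,
          Finset.card_univ, nsmul_eq_mul, ← Nat.card_eq_fintype_card]
        ring
      have hyN : y ∈ Subgroup.normalizer (D : Set G) := by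
        rw [Subgroup.mem_normalizer_iff]
        intro d
        constructor
        · intro hd
          rw [hyD d hd, mul_inv_cancel_right]
          exact hd
        · intro hd
          have h1 := hyD _ hd
          have h2 : d = y⁻¹ * (y * d * y⁻¹) * y := by group
          have h3 : y⁻¹ * (y * d * y⁻¹) * y = y * d * y⁻¹ := by
            rw [mul_assoc, ← h1]; group
          rw [h2, h3]
          exact hd
      have htN : t₀ ∈ Subgroup.normalizer (D : Set G) := by
        rw [Subgroup.mem_normalizer_iff]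
        intro d
        constructor
        · intro hd
          rw [h.comm ht₀S (hDS hd), mul_inv_cancel_right]
          exact hd
        · intro hd
          have h1 := h.comm ht₀S (hDS hd)
          have h2 : d = t₀⁻¹ * (t₀ * d * t₀⁻¹) * t₀ := by group
          have h3 : t₀⁻¹ * (t₀ * d * t₀⁻¹) * t₀ = t₀ * d * t₀⁻¹ := by
            rw [mul_assoc, ← h1]; group
          rw [h2, h3]
          exact hd
      have hga : ∀ w : Subgroup.normalizer (D : Set G), ¬ 2 ∣ orderOf (w : G) →
          (∀ d ∈ D, (w : G) * d = d * w) →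
          (Nat.card D : ℂ) * ga D χ w = (χ : G → ℂ) w - ((Nat.card D : ℂ) - 1) := by
        intro w hw hwD
        rw [ga_eq, ← mul_assoc, mul_inv_cancel₀ (card_ne D), one_mul, ← hsumD]
        refine Finset.sum_congr rfl fun d _ => ?_
        split_ifs with hd
        · rw [hd, Subgroup.coe_one, one_mul]
        · have hd1 : (d : G) ≠ 1 := fun h0 => hd (Subtype.ext h0)
          rw [Cfsg.Agent.S0942.result 2 M hM (d : G) (ord_of_sq (h.sq d (hDS d.2))) (w : G)
            (h.mem_core hM (hDS d.2) hd1 (hwD d d.2) hw) χ (mem_PBlk.mp hχ)]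
          exact hval d (hDS d.2) hd1
      have hga1 : ga D χ 1 = 1 := by
        have h1 := hga 1 (by simpa using ordOne (G := G)) (fun d _ => by simp)
        rw [Subgroup.coe_one, hd1] at h1
        apply mul_left_cancel₀ (card_ne D)
        rw [h1]; ring
      have hch := ga_char (S := D) χ
      let L := Char.linHom hch hga1
      have hLy : L ⟨y, hyN⟩ = 1 := by
        have h1 : (⟨t₀, htN⟩ * ⟨y, hyN⟩ * (⟨t₀, htN⟩)⁻¹ : Subgroup.normalizer (D : Set G)) =
            (⟨y, hyN⟩)⁻¹ := Subtype.ext (hinv t₀ ht₀S ht₀D y hyY)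
        have h2 : L ⟨t₀, htN⟩ * L (⟨t₀, htN⟩)⁻¹ = 1 := by rw [← map_mul, mul_inv_cancel, map_one]
        have h3 : L ⟨y, hyN⟩ * L (⟨y, hyN⟩)⁻¹ = 1 := by rw [← map_mul, mul_inv_cancel, map_one]
        have h4 := congrArg L h1
        rw [map_mul, map_mul] at h4
        have h5 : L ⟨y, hyN⟩ * L ⟨y, hyN⟩ = 1 := by
          have h6 : L ⟨y, hyN⟩ = L (⟨y, hyN⟩)⁻¹ := by
            rw [← h4]
            linear_combination (-L ⟨y, hyN⟩) * h2
          nth_rewrite 2 [h6]
          exact h3
        have h7 : L ⟨y, hyN⟩ ^ orderOf y = 1 := by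
          rw [← map_pow]
          have : (⟨y, hyN⟩ : Subgroup.normalizer (D : Set G)) ^ orderOf y = 1 :=
            Subtype.ext (by simp [pow_orderOf_eq_one])
          rw [this, map_one]
        obtain ⟨j, hj⟩ := Nat.odd_iff.mpr (show orderOf y % 2 = 1 by omega)
        rw [hj, pow_succ, pow_mul, pow_two, h5, one_pow, one_mul] at h7
        exact h7
      have h1 := hga ⟨y, hyN⟩ hy hyD
      have h2 : ga D χ ⟨y, hyN⟩ = 1 := hLy
      rw [h2, mul_one] at h1
      have h3 : (χ : G → ℂ) y = (χ : G → ℂ) 1 := by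
        rw [hd1]
        have h4 : (χ : G → ℂ) y - ((Nat.card D : ℂ) - 1) = (Nat.card D : ℂ) := h1.symm
        linear_combination h4
      have h4 : y ∈ H4.charKer χ := h3
      rw [hker] at h4
      exact Subgroup.mem_bot.mp h4

/-- centralizers of involutions of `S` -/
theorem Con3.cent_eq (hM : IsPModular 2 M) (h : Con3 M S) {s : G} (hs : s ∈ S) (hs1 : s ≠ 1) {c : G}
    (hc : c * s = s * c) : c ∈ S := by
  haveI : Fact (Nat.Prime 2) := ⟨Nat.prime_two⟩
  have hodd : ∀ y : G, ¬ 2 ∣ orderOf y → y * s = s * y → y = 1 := by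
    intro y hy hys
    refine h.cent_aux hM _ (Subgroup.zpowers s) (by rwa [Subgroup.zpowers_le]) ?_ rfl y hy ?_
    · rwa [Ne, Subgroup.zpowers_eq_bot]
    · intro d hd
      obtain ⟨i, rfl⟩ := Subgroup.mem_zpowers_iff.mp hd
      exact ((show Commute y s from hys).zpow_right i).eq
  obtain ⟨C, hC⟩ : ∃ C : Subgroup G, C = Subgroup.centralizer ({s} : Set G) := ⟨_, rfl⟩
  have hp : IsPGroup 2 C := by
    rw [IsPGroup.iff_orderOf]
    intro x
    obtain ⟨a, b, h1, h2, h3, h4, h5, h6⟩ := BlkInd.exists_decomp Nat.prime_two (x : G)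
    have hbC : b ∈ C := (Subgroup.zpowers_le.mpr x.2) h6
    have hb1 : b = 1 := hodd b h4 (Subgroup.mem_centralizer_singleton_iff.mp (hC.le hbC))
    rw [hb1, mul_one] at h1
    obtain ⟨k, hk⟩ := h3
    exact ⟨k, by rw [← Subgroup.orderOf_coe, ← h1, hk]⟩
  obtain ⟨P, hP⟩ := h.exists_sylow
  have hSC : (P : Subgroup G) ≤ C := by
    rw [hP, hC]
    exact fun t ht => Subgroup.mem_centralizer_singleton_iff.mpr (h.comm ht hs)
  have h1 := P.is_maximal' hp hSC
  rw [← hP, ← h1, hC]
  exact Subgroup.mem_centralizer_singleton_iff.mpr hc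

end cs

end Cfsg.Agent.H70.PB
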