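import Cfsg.Agent.H70.PB13
import Cfsg.Agent.S1230

set_option autoImplicit false
set_option linter.style.haveILetI false
set_option linter.unusedSimpArgs false
set_option linter.unusedSectionVars false
set_option linter.unusedVariables false

/-!
# Constant difference of degree and value: identification (for S4514)
-/

namespace Cfsg.Agent.H70.PB

open scoped BigOperators ComplexConjugate
open Cfsg Cfsg.Agent.CharBase Cfsg.Agent.Blk Cfsg.Agent.BlkC

universe u

section ident

variable {G : Type u} [Group G] [Finite G] {M : Ideal AlgInt}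

theorem Con.final (hM : IsPModular 2 M) {u : G} {k : ℂ} (h : Con M u k) :
    u ^ 2 = 1 ∧ (Nat.card G = 2 ∨ ∃ (F : Type) (_ : Field F) (_ : Fintype F) (n : ℕ), 2 ≤ n ∧
      Fintype.card F = 2 ^ n ∧ Nonempty (G ≃* Matrix.ProjectiveSpecialLinearGroup (Fin 2) F)) := by
  haveI : Fact (Nat.Prime 2) := ⟨Nat.prime_two⟩
  obtain ⟨S, s, v, huv, h2⟩ := h.con2 hM
  have h3 := h2.con3 hM
  have hv1 : v = 1 := by
    by_contra hne
    have h4 : v ∈ S := h3.cent_eq hM h2.hs h2.hs1 h2.comm.symm.eq
    exact h3.odd_notMem h2.hv hne h4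
  have hus : u = s := by rw [← huv, hv1, mul_one]
  refine ⟨by rw [hus, pow_two, h2.sq s h2.hs], ?_⟩
  have hsS : (⟨s, h2.hs⟩ : S) ≠ 1 := fun h0 => h2.hs1 (congrArg Subtype.val h0)
  by_cases hq : Nat.card S = 2
  · left
    obtain ⟨y, hy, hy'⟩ := (Nat.card_eq_two_iff' (1 : S)).mp hq
    have hall : ∀ r ∈ S, r ≠ 1 → r = s := by
      intro r hr hr1
      have e1 := hy' ⟨r, hr⟩ (fun h0 => hr1 (congrArg Subtype.val h0))
      have e2 := hy' ⟨s, h2.hs⟩ hsS
      exact congrArg Subtype.val (e1.trans e2.symm)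
    have hN : ∀ n ∈ Subgroup.normalizer (S : Set G), n ∈ S := by
      intro n hn
      have e1 : n * s * n⁻¹ = s := by
        apply hall _ ((Subgroup.mem_normalizer_iff.mp hn s).mp h2.hs)
        intro h0
        apply h2.hs1
        have : s = n⁻¹ * (n * s * n⁻¹) * n := by group
        rw [this, h0]; simp
      exact h3.cent_eq hM h2.hs h2.hs1 (mul_inv_eq_iff_eq_mul.mp e1)
    obtain ⟨j, hj⟩ := h3.toBase.np_of_norm hN
    rw [h3.core, Subgroup.index_bot] at hj
    have h5 := Subgroup.card_mul_index S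
    have h6 : S.index ∣ 2 ^ j := by rw [← hj, ← h5]; exact Dvd.intro_left _ rfl
    obtain ⟨i, -, hi⟩ := (Nat.dvd_prime_pow Nat.prime_two).mp h6
    rcases i with _ | i
    · rw [hi, pow_zero, mul_one, hq] at h5
      exact h5.symm
    · exfalso
      apply h2.idx
      rw [hi]
      exact dvd_pow_self 2 (Nat.succ_ne_zero i)
  · right
    obtain ⟨n, hn⟩ := IsPGroup.iff_card.mp h2.two
    have hn2 : 2 ≤ n := by
      rcases n with _ | _ | n
      · exfalso
        rw [pow_zero] at hn
        have := (Nat.card_eq_one_iff_unique.mp hn).1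
        exact hsS (Subsingleton.elim _ _)
      · exact absurd (by rw [hn]; norm_num) hq
      · omega
    obtain ⟨T, hT⟩ : ∃ T : Sylow 2 G, (T : Subgroup G) = S := ⟨h2.two.toSylow h2.idx, rfl⟩
    have hnc : ¬ IsCyclic (T : Subgroup G) := by
      rw [hT]
      intro hc
      obtain ⟨g, hg⟩ := IsCyclic.exists_ofOrder_eq_natCard (α := S)
      have h4 : g * g = 1 := Subtype.ext (h2.sq g g.2)
      have h5 : orderOf g ∣ 2 := orderOf_dvd_of_pow_eq_one (by rw [pow_two, h4])
      rw [hg] at h5
      rcases (Nat.dvd_prime Nat.prime_two).mp h5 with h6 | h6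
      · have := (Nat.card_eq_one_iff_unique.mp h6).1
        exact hsS (Subsingleton.elim _ _)
      · exact hq h6
    have hnn : ¬ (T : Subgroup G).Normal := by
      rw [hT]
      intro hn
      have h4 : G1 S s ≤ S := by
        refine sup_le (Subgroup.normalClosure_le_normal ?_) h3.cent
        intro y hy
        rw [Set.mem_singleton_iff.mp hy]
        exact h2.hs
      rw [h2.G1_top hM] at h4
      apply hq
      rw [Nat.card_eq_two_iff' (1 : S)]
      refine ⟨⟨s, h2.hs⟩, hsS, fun r hr => ?_⟩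
      obtain ⟨g, hg⟩ := isConj_iff.mp (h2.two_conj r.2 (fun h0 => hr (Subtype.ext h0)))
      apply Subtype.ext
      rw [← hg, h3.comm (h4 (Subgroup.mem_top g)) h2.hs, mul_inv_cancel_right]
    have hC : ∀ t : G, orderOf t = 2 → IsMulCommutative (Subgroup.centralizer ({t} : Set G)) ∧
        ∀ c ∈ Subgroup.centralizer ({t} : Set G), c ^ 2 = 1 := by
      intro t ht
      have ht1 : t ≠ 1 := by
        rintro rfl
        rw [orderOf_one] at ht
        omega
      obtain ⟨g, hg⟩ := isConj_iff.mp (h2.fus t ht1 ⟨1, by rw [ht, pow_one]⟩)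
      have h4 : ∀ c ∈ Subgroup.centralizer ({t} : Set G), g⁻¹ * c * g ∈ S := by
        intro c hc
        apply h3.cent_eq hM h2.hs h2.hs1
        have h5 := Subgroup.mem_centralizer_singleton_iff.mp hc
        rw [← hg] at h5
        calc g⁻¹ * c * g * s = g⁻¹ * (c * (g * s * g⁻¹)) * g := by group
          _ = g⁻¹ * (g * s * g⁻¹ * c) * g := by rw [h5]
          _ = s * (g⁻¹ * c * g) := by group
      constructor
      · refine ⟨⟨fun a b => Subtype.ext ?_⟩⟩
        have h5 := h3.comm (h4 a a.2) (h4 b b.2)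
        show (a : G) * b = b * a
        calc (a : G) * b = g * ((g⁻¹ * a * g) * (g⁻¹ * b * g)) * g⁻¹ := by group
          _ = g * ((g⁻¹ * b * g) * (g⁻¹ * a * g)) * g⁻¹ := by rw [h5]
          _ = b * a := by group
      · intro c hc
        have h5 := h2.sq _ (h4 c hc)
        rw [pow_two]
        calc c * c = g * ((g⁻¹ * c * g) * (g⁻¹ * c * g)) * g⁻¹ := by group
          _ = 1 := by rw [h5]; group
    obtain ⟨F, iF, fF, hF, e⟩ := Cfsg.Agent.S1230.result T hnc hnn hC
    refine ⟨F, iF, fF, n, hn2, ?_, e⟩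
    rw [hF, ← hn, ← hT]

end ident

end Cfsg.Agent.H70.PB
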