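import Cfsg.Agent.H70.PB11
import Cfsg.Agent.H41.ClassSize

set_option autoImplicit false
set_option linter.style.haveILetI false
set_option linter.unusedSimpArgs false
set_option linter.unusedSectionVars false
set_option linter.unusedVariables false

/-!
# Characters of SL(2,q), q even (for S4514)
-/

namespace Cfsg.Agent.H70.PB

open scoped BigOperators ComplexConjugate
open Cfsg Cfsg.Agent.CharBase Cfsg.Agent.Blk Cfsg.Agent.BlkC Cfsg.Agent.H41

universe u

section sl2

variable {F : Type} [Field F] [Fintype F]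

local notation "SLF" => Matrix.SpecialLinearGroup (Fin 2) F

theorem exists_sqrt2 [CharP F 2] (x : F) : ∃ a : F, a ^ 2 = x := by
  obtain ⟨a, ha⟩ := FiniteField.isSquare_of_char_two (ringChar.eq F 2 : ringChar F = 2) x
  exact ⟨a, by rw [ha, pow_two]⟩

theorem two0 [CharP F 2] : (2 : F) = 0 := by exact_mod_cast CharP.cast_eq_zero F 2

theorem neg_eq2 [CharP F 2] (x : F) : -x = x := by linear_combination -x * (two0 (F := F))

theorem neg_sl [CharP F 2] (A : SLF) : -A = A := by
  apply sl2_ext <;> simp only [neg_00, neg_01, neg_10, neg_11, neg_eq2]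

theorem center_sl [CharP F 2] {A : SLF} : A ∈ Subgroup.center SLF ↔ A = 1 := by
  rw [mem_center_sl2, neg_sl]
  simp

/-- the involution `0 -1; 1 0` -/
def Ww : SLF := mk4 0 (-1) 1 0 (by ring)

theorem isConj_W [CharP F 2] {A : SLF} (hA : A ≠ 1) (htr : tr A = 0) : IsConj (Ww (F := F)) A := by
  obtain ⟨d, hd, P, hP⟩ := exists_conj_comp' A (by rw [center_sl]; exact hA)
  obtain ⟨α, hα⟩ := exists_sqrt2 (F := F) d⁻¹
  have hα0 : α ≠ 0 := by
    rintro rfl
    rw [zero_pow two_ne_zero] at hα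
    exact hd (inv_eq_zero.mp hα.symm)
  have hda : d * α ^ 2 = 1 := by rw [hα, mul_inv_cancel₀ hd]
  refine isConj_iff.mpr ⟨P * mk4 α 0 0 α⁻¹ (by field_simp; ring), ?_⟩
  rw [hP]
  have h1 : (mk4 0 (-d⁻¹) d (tr A) (by field_simp; ring) : SLF) =
      mk4 α 0 0 α⁻¹ (by field_simp; ring) * Ww * (mk4 α 0 0 α⁻¹ (by field_simp; ring))⁻¹ := by
    have hdi : d⁻¹ = α ^ 2 := hα.symm
    have hd2 : d = (α ^ 2)⁻¹ := by rw [← hdi, inv_inv]
    unfold Ww
    apply sl2_ext <;>
      simp only [mul_00, mul_01, mul_10, mul_11, inv_00, inv_01, inv_10, inv_11, mk4_00, mk4_01, mk4_10,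
        mk4_11, htr, hd2] <;> field_simp <;> ring
  rw [h1]
  group

theorem tr_of_sq [CharP F 2] {A : SLF} (hA : A * A = 1) (hA1 : A ≠ 1) : tr A = 0 := by
  by_contra ht
  apply hA1
  have e00 := congrArg (fun M : SLF => M 0 0) hA
  have e01 := congrArg (fun M : SLF => M 0 1) hA
  have e10 := congrArg (fun M : SLF => M 1 0) hA
  have e11 := congrArg (fun M : SLF => M 1 1) hA
  simp only [mul_00, mul_01, mul_10, mul_11, one_00, one_01, one_10, one_11] at e00 e01 e10 e11
  have h01 : A 0 1 = 0 := by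
    have : tr A * A 0 1 = 0 := by unfold tr; linear_combination e01
    exact (mul_eq_zero.mp this).resolve_left ht
  have h10 : A 1 0 = 0 := by
    have : tr A * A 1 0 = 0 := by unfold tr; linear_combination e10
    exact (mul_eq_zero.mp this).resolve_left ht
  have hsq : ∀ x : F, x * x = 1 → x = 1 := by
    intro x hx
    have : (x - 1) ^ 2 = 0 := by linear_combination hx + (1 - x) * (two0 (F := F))
    have := pow_eq_zero_iff (two_ne_zero) |>.mp this
    linear_combination this
  have h00 : A 0 0 = 1 := by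
    apply hsq
    rw [h01, zero_mul, add_zero] at e00
    exact e00
  have h11 : A 1 1 = 1 := by
    apply hsq
    rw [h10, zero_mul, zero_add] at e11
    exact e11
  apply sl2_ext
  · rw [h00, one_00]
  · rw [h01, one_01]
  · rw [h10, one_10]
  · rw [h11, one_11]

theorem W_ne_one : (Ww : SLF) ≠ 1 := by
  intro h
  have := congrArg (fun M : SLF => M 1 0) h
  simp only [Ww, mk4_10, one_10] at this
  exact one_ne_zero this

theorem closure_W [CharP F 2] : Subgroup.normalClosure ({Ww} : Set SLF) = ⊤ := by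
  rw [Subgroup.eq_top_iff']
  have hN : ∀ A : SLF, tr A = 0 → A ∈ Subgroup.normalClosure ({Ww} : Set SLF) := by
    intro A hA
    by_cases h1 : A = 1
    · rw [h1]; exact one_mem _
    · obtain ⟨g, hg⟩ := isConj_iff.mp (isConj_W h1 hA)
      rw [← hg]
      exact (inferInstance : (Subgroup.normalClosure ({Ww} : Set SLF)).Normal).conj_mem _
        (Subgroup.subset_normalClosure (Set.mem_singleton _)) g
  have h20 := two0 (F := F)
  have key : ∀ A : SLF, A 1 0 ≠ 0 → A ∈ Subgroup.normalClosure ({Ww} : Set SLF) := by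
    intro A hc
    have hd := det_eq A
    have h1 : A = mk4 1 ((A 0 0 - 1) / A 1 0) 0 1 (by ring) * mk4 1 0 (A 1 0) 1 (by ring) *
        mk4 1 ((A 1 1 - 1) / A 1 0) 0 1 (by ring) := by
      apply sl2_ext <;>
        simp only [mul_00, mul_01, mul_10, mul_11, mk4_00, mk4_01, mk4_10, mk4_11] <;>
        field_simp <;> first | ring1 | linear_combination -hd | linear_combination hd
    rw [h1]
    refine mul_mem (mul_mem (hN _ ?_) (hN _ ?_)) (hN _ ?_) <;>
      simp only [tr, mk4_00, mk4_11] <;> linear_combination h20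
  intro A
  by_cases hc : A 1 0 = 0
  · have hd := det_eq A
    have h11 : A 1 1 ≠ 0 := by
      intro h0
      rw [hc, h0] at hd
      simp at hd
    have h1 : A * mk4 1 0 1 1 (by ring) ∈ Subgroup.normalClosure ({Ww} : Set SLF) := by
      apply key
      simp only [mul_10, mk4_00, mk4_10, hc]
      simpa using h11
    have h2 : (mk4 1 0 1 1 (by ring) : SLF) ∈ Subgroup.normalClosure ({Ww} : Set SLF) := by
      apply hN
      simp only [tr, mk4_00, mk4_11]
      linear_combination h20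
    exact (Subgroup.mul_mem_cancel_right _ h2).mp h1
  · exact key A hc

theorem card_classes [CharP F 2] : Fintype.card F + 1 ≤ Nat.card (IrrCharacter SLF) := by
  classical
  rw [card_irr_eq_card_conjClasses]
  haveI : Finite (ConjClasses SLF) := Quotient.finite _
  let f : Option F → ConjClasses SLF := fun o =>
    match o with
    | none => ConjClasses.mk 1
    | some τ => ConjClasses.mk (mk4 0 (-1) 1 τ (by ring))
  have hf : Function.Injective f := by
    have htr : ∀ τ : F, tr (mk4 0 (-1) 1 τ (by ring) : SLF) = τ := by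
      intro τ
      simp only [tr, mk4_00, mk4_11, zero_add]
    have hne : ∀ τ : F, ConjClasses.mk (1 : SLF) ≠ ConjClasses.mk (mk4 0 (-1) 1 τ (by ring)) := by
      intro τ h
      rw [ConjClasses.mk_eq_mk_iff_isConj] at h
      obtain ⟨g, hg⟩ := isConj_iff.mp h
      rw [mul_one, mul_inv_cancel] at hg
      have := congrArg (fun M : SLF => M 1 0) hg
      simp only [mk4_10, one_10] at this
      exact one_ne_zero this.symm
    intro a b hab
    rcases a with _ | a <;> rcases b with _ | b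
    · rfl
    · exact absurd hab (hne b)
    · exact absurd hab.symm (hne a)
    · have h1 : ConjClasses.mk (mk4 0 (-1) 1 a (by ring) : SLF) =
        ConjClasses.mk (mk4 0 (-1) 1 b (by ring)) := hab
      rw [ConjClasses.mk_eq_mk_iff_isConj] at h1
      obtain ⟨g, hg⟩ := isConj_iff.mp h1
      have h2 := tr_conj (mk4 0 (-1) 1 a (by ring) : SLF) g
      rw [hg, htr, htr] at h2
      rw [h2]
  have h1 := Nat.card_le_card_of_injective f hf
  rwa [Nat.card_eq_fintype_card, Fintype.card_option] at h1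

theorem card_cent_W [CharP F 2] :
    Nat.card (Subgroup.centralizer ({Ww} : Set SLF)) = Fintype.card F := by
  have h20 := two0 (F := F)
  have hW : (Ww : SLF) ∉ Subgroup.center SLF := by rw [center_sl]; exact W_ne_one
  have htr : tr (Ww : SLF) ^ 2 = 4 := by
    simp only [tr, Ww, mk4_00, mk4_11]
    linear_combination (-2 : F) * h20
  rw [card_centralizer_unip Ww hW htr]
  have hsq : Nat.card {x : F // x ^ 2 = 1} = 1 := by
    rw [Nat.card_eq_one_iff_unique]
    refine ⟨⟨?_⟩, ⟨⟨1, by ring⟩⟩⟩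
    have : ∀ x : F, x ^ 2 = 1 → x = 1 := by
      intro x hx
      have : (x - 1) ^ 2 = 0 := by linear_combination hx + (1 - x) * h20
      have := pow_eq_zero_iff (two_ne_zero) |>.mp this
      linear_combination this
    rintro ⟨x, hx⟩ ⟨y, hy⟩
    apply Subtype.ext
    exact (this x hx).trans (this y hy).symm
  rw [hsq, one_mul, Nat.card_eq_fintype_card]

/-- the unipotent subgroup -/
def Tt (F : Type) [Field F] [Fintype F] : Subgroup (Matrix.SpecialLinearGroup (Fin 2) F) where
  carrier := {A | A 0 0 = 1 ∧ A 1 0 = 0 ∧ A 1 1 = 1}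
  one_mem' := by simp
  mul_mem' := by
    rintro A B ⟨h1, h2, h3⟩ ⟨h4, h5, h6⟩
    refine ⟨?_, ?_, ?_⟩
    · rw [mul_00, h1, h4, h5]; ring
    · rw [mul_10, h2, h5, h3]; ring
    · rw [mul_11, h2, h3, h6]; ring
  inv_mem' := by
    rintro A ⟨h1, h2, h3⟩
    refine ⟨?_, ?_, ?_⟩
    · rw [inv_00, h3]
    · rw [inv_10, h2, neg_zero]
    · rw [inv_11, h1]

theorem mem_Tt {A : SLF} : A ∈ Tt F ↔ A 0 0 = 1 ∧ A 1 0 = 0 ∧ A 1 1 = 1 := Iff.rfl

theorem card_Tt : Nat.card (Tt F) = Fintype.card F := by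
  rw [← Nat.card_eq_fintype_card]
  refine Nat.card_congr ⟨fun A => (A : SLF) 0 1, fun x => ⟨mk4 1 x 0 1 (by ring), ?_⟩, ?_, ?_⟩
  · rw [mem_Tt, mk4_00, mk4_10, mk4_11]
    exact ⟨rfl, rfl, rfl⟩
  · rintro ⟨A, h1, h2, h3⟩
    apply Subtype.ext
    apply sl2_ext
    · rw [mk4_00, h1]
    · rw [mk4_01]
    · rw [mk4_10, h2]
    · rw [mk4_11, h3]
  · intro x
    show (mk4 1 x 0 1 (by ring) : SLF) 0 1 = x
    rw [mk4_01]

theorem comm_Tt (A B : Tt F) : A * B = B * A := by
  obtain ⟨A, h1, h2, h3⟩ := A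
  obtain ⟨B, h4, h5, h6⟩ := B
  apply Subtype.ext
  show A * B = B * A
  apply sl2_ext
  · rw [mul_00, mul_00, h1, h4, h5, h2]; ring
  · rw [mul_01, mul_01, h1, h4, h6, h3]; ring
  · rw [mul_10, mul_10, h2, h5]; ring
  · rw [mul_11, mul_11, h2, h5, h3, h6]; ring

theorem conj_Tt [CharP F 2] {A : SLF} (hA : A ∈ Tt F) (hA1 : A ≠ 1) : IsConj (Ww (F := F)) A := by
  apply isConj_W hA1
  obtain ⟨h1, h2, h3⟩ := hA
  unfold tr
  rw [h1, h3]
  linear_combination two0 (F := F)

theorem sl2_val [CharP F 2] (ψ : IrrCharacter SLF) (hψ : ψ ≠ oneIrr SLF) {A : SLF} (hA : A * A = 1)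
    (hA1 : A ≠ 1) : (ψ : SLF → ℂ) 1 - (ψ : SLF → ℂ) A = (Fintype.card F : ℂ) := by
  classical
  haveI := Fintype.ofFinite SLF
  haveI := Fintype.ofFinite (Tt F)
  haveI := Fintype.ofFinite (IrrCharacter SLF)
  have hAW : (ψ : SLF → ℂ) A = (ψ : SLF → ℂ) Ww := by
    obtain ⟨g, hg⟩ := isConj_iff.mp (isConj_W hA1 (tr_of_sq hA hA1))
    rw [← hg]
    exact irr_isClassFunction ψ Ww g
  rw [hAW]
  -- a nontrivial character of T
  letI : CommGroup (Tt F) := { (inferInstance : Group (Tt F)) with mul_comm := comm_Tt }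
  obtain ⟨l, hl⟩ : ∃ l : Tt F →* ℂˣ, l ≠ 1 := by
    have hT1 : (mk4 1 1 0 1 (by ring) : SLF) ∈ Tt F := by
      rw [mem_Tt, mk4_00, mk4_10, mk4_11]
      exact ⟨rfl, rfl, rfl⟩
    have hne : (⟨_, hT1⟩ : Tt F) ≠ 1 := by
      intro h
      have h1 : (mk4 1 1 0 1 (by ring) : SLF) = 1 := congrArg Subtype.val h
      have := congrArg (fun M : SLF => M 0 1) h1
      simp only [mk4_01, one_01] at this
      exact one_ne_zero this
    obtain ⟨φ, hφ⟩ := CommGroup.exists_apply_ne_one_of_hasEnoughRootsOfUnity (Tt F) ℂ hne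
    refine ⟨φ, fun h0 => hφ ?_⟩
    rw [h0]; rfl
  have hb : ∀ χ : IrrCharacter SLF, (χ : SLF → ℂ) 1 - (χ : SLF → ℂ) Ww =
      (Fintype.card F : ℂ) * mu (Tt F) χ l := by
    intro χ
    rw [mu_spec, card_Tt, ← mul_assoc, mul_inv_cancel₀ (by exact_mod_cast Fintype.card_ne_zero), one_mul]
    have h1 := sum_two_val (fun t : Tt F => (χ : SLF → ℂ) t) ((χ : SLF → ℂ) Ww) (fun t ht => by
      obtain ⟨g, hg⟩ := isConj_iff.mp (conj_Tt t.2 (fun h0 => ht (Subtype.ext h0)))
      rw [← hg]
      exact irr_isClassFunction χ Ww g) l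
    rw [h1, sum_conj_lin hl, mul_zero, zero_add]
    rfl
  have hb1 : ∀ χ : IrrCharacter SLF, χ ≠ oneIrr SLF → 1 ≤ mu (Tt F) χ l := by
    intro χ hχ
    rw [Nat.one_le_iff_ne_zero]
    intro h0
    apply hχ
    have h1 := hb χ
    rw [h0, Nat.cast_zero, mul_zero, sub_eq_zero] at h1
    have h2 : Subgroup.normalClosure ({Ww} : Set SLF) ≤ H4.charKer χ := by
      refine Subgroup.normalClosure_le_normal ?_
      intro y hy
      rw [Set.mem_singleton_iff.mp hy]
      exact h1.symm
    rw [closure_W] at h2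
    have h3 : ∀ g : SLF, (χ : SLF → ℂ) g = (χ : SLF → ℂ) 1 := fun g => h2 (Subgroup.mem_top g)
    have h4 := classInner_irr_self χ
    have h5 : classInner (χ : SLF → ℂ) (χ : SLF → ℂ) = (χ : SLF → ℂ) 1 * conj ((χ : SLF → ℂ) 1) := by
      unfold classInner
      rw [Finset.sum_congr rfl fun g _ => by rw [h3 g], Finset.sum_const, Finset.card_univ,
        nsmul_eq_mul, ← Nat.card_eq_fintype_card, ← mul_assoc, inv_mul_cancel₀ (card_ne SLF), one_mul]
    rw [h4, charDegree_spec, Complex.conj_natCast] at h5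
    have h6 : charDegree (χ : SLF → ℂ) * charDegree (χ : SLF → ℂ) = 1 := by exact_mod_cast h5.symm
    have h7 : charDegree (χ : SLF → ℂ) = 1 := Nat.eq_one_of_mul_eq_one_right h6
    apply Subtype.ext
    funext g
    rw [h3 g, charDegree_spec, h7, Nat.cast_one]
    rfl
  -- the sum of squares
  have hreal : ∀ χ : IrrCharacter SLF, conj ((χ : SLF → ℂ) Ww) = (χ : SLF → ℂ) Ww := by
    intro χ
    apply real_of_sq
    have hm1 : (-1 : F) = 1 := neg_eq2 1
    unfold Ww
    apply sl2_ext <;> simp only [mul_00, mul_01, mul_10, mul_11, mk4_00, mk4_01, mk4_10, mk4_11,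
      one_00, one_01, one_10, one_11] <;> first | ring1 | linear_combination hm1
  have hsum : ((Fintype.card F : ℂ) * (Fintype.card F : ℂ)) *
      ∑ χ : IrrCharacter SLF, (mu (Tt F) χ l : ℂ) ^ 2 =
      (Fintype.card F : ℂ) * (Fintype.card F : ℂ) * (Fintype.card F : ℂ) := by
    have e1 := column_orthogonality (1 : SLF) 1
    have e2 := column_orthogonality (1 : SLF) Ww
    have e3 := column_orthogonality (Ww : SLF) Ww
    have hnc : ¬ IsConj (1 : SLF) Ww := by
      intro hc
      obtain ⟨g, hg⟩ := isConj_iff.mp hc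
      rw [mul_one, mul_inv_cancel] at hg
      exact W_ne_one hg.symm
    rw [if_pos (IsConj.refl _)] at e1 e3
    rw [if_neg hnc] at e2
    rw [card_cent_W] at e3
    have hc1 : Nat.card (Subgroup.centralizer ({(1 : SLF)} : Set SLF)) =
        (Fintype.card F + 1) * ((Fintype.card F - 1) * Fintype.card F) := by
      have h1 := index_mul_centralizer (1 : SLF)
      have h2 : (Subgroup.centralizer ({(1 : SLF)} : Set SLF)).index = 1 := by
        rw [Subgroup.index_eq_one, Subgroup.centralizer_eq_top_iff_subset]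
        simp
      rwa [h2, mul_one] at h1
    rw [hc1] at e1
    have h1 : ∀ χ : IrrCharacter SLF, ((Fintype.card F : ℂ) * (Fintype.card F : ℂ)) *
        (mu (Tt F) χ l : ℂ) ^ 2 = (χ : SLF → ℂ) 1 * conj ((χ : SLF → ℂ) 1) -
          2 * ((χ : SLF → ℂ) 1 * conj ((χ : SLF → ℂ) Ww)) + (χ : SLF → ℂ) Ww * conj ((χ : SLF → ℂ) Ww) := by
      intro χ
      have h2 := hb χ
      rw [hreal χ]
      have h3 : conj ((χ : SLF → ℂ) 1) = (χ : SLF → ℂ) 1 := by
        rw [charDegree_spec, Complex.conj_natCast]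
      rw [h3]
      have h4 : ((Fintype.card F : ℂ) * (Fintype.card F : ℂ)) * (mu (Tt F) χ l : ℂ) ^ 2 =
        ((Fintype.card F : ℂ) * mu (Tt F) χ l) ^ 2 := by ring
      rw [h4, ← h2]
      ring
    rw [Finset.mul_sum, Finset.sum_congr rfl fun χ _ => h1 χ, Finset.sum_add_distrib,
      Finset.sum_sub_distrib, ← Finset.mul_sum, e1, e2, e3]
    have hq : 1 ≤ Fintype.card F := Fintype.card_pos
    push_cast [Nat.cast_sub hq]
    ring
  have hsum2 : ∑ χ : IrrCharacter SLF, (mu (Tt F) χ l) ^ 2 = Fintype.card F := by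
    have hq : (Fintype.card F : ℂ) ≠ 0 := by exact_mod_cast Fintype.card_ne_zero
    have h1 := mul_left_cancel₀ (mul_ne_zero hq hq) hsum
    exact_mod_cast h1
  have hcard : Fintype.card F + 1 ≤ Fintype.card (IrrCharacter SLF) := by
    have hcc := card_classes (F := F)
    rwa [Nat.card_eq_fintype_card] at hcc
  have h1 : mu (Tt F) (oneIrr SLF) l = 0 := mu_oneIrr_ne _ hl
  have h2 : ∑ χ ∈ Finset.univ.erase (oneIrr SLF), (mu (Tt F) χ l) ^ 2 = Fintype.card F := by
    rw [← hsum2, ← Finset.add_sum_erase _ _ (Finset.mem_univ (oneIrr SLF)), h1]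
    ring
  have h3 : (Finset.univ.erase (oneIrr SLF)).card + 1 = Fintype.card (IrrCharacter SLF) := by
    rw [Finset.card_erase_of_mem (Finset.mem_univ _), Finset.card_univ]
    have : 0 < Fintype.card (IrrCharacter SLF) := by omega
    omega
  have hψ1 : mu (Tt F) ψ l = 1 := by
    by_contra hne
    have h4 := hb1 ψ hψ
    have h5 : 2 ≤ mu (Tt F) ψ l := by omega
    have h6 : ∑ χ ∈ Finset.univ.erase (oneIrr SLF), 1 <
        ∑ χ ∈ Finset.univ.erase (oneIrr SLF), (mu (Tt F) χ l) ^ 2 := by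
      apply Finset.sum_lt_sum
      · intro χ hχ
        exact Nat.one_le_pow _ _ (hb1 χ (Finset.mem_erase.mp hχ).1)
      · refine ⟨ψ, Finset.mem_erase.mpr ⟨hψ, Finset.mem_univ _⟩, ?_⟩
        nlinarith
    rw [h2, Finset.sum_const, smul_eq_mul, mul_one] at h6
    omega
  rw [hb ψ, hψ1, Nat.cast_one, mul_one]

end sl2

end Cfsg.Agent.H70.PB
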