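import Cfsg.Agent.H70.PB14
import Cfsg.Agent.H70.PB15

set_option autoImplicit false
set_option linter.style.haveILetI false
set_option linter.unusedSimpArgs false
set_option linter.unusedSectionVars false
set_option linter.unusedVariables false

/-!
# Constant difference of degree and value: the theorem (S4514)
-/

namespace Cfsg.Agent.H70.PB

open scoped BigOperators ComplexConjugate
open Cfsg Cfsg.Agent.CharBase Cfsg.Agent.Blk Cfsg.Agent.BlkC

universe u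

section fwd

variable {G : Type u} [Group G] [Finite G] {M : Ideal AlgInt}

theorem two_not_dvd_core : ¬ 2 ∣ Nat.card (pPrimeCore 2 G) := by
  haveI : Fact (Nat.Prime 2) := ⟨Nat.prime_two⟩
  exact (Nat.Prime.coprime_iff_not_dvd Nat.prime_two).mp
    (Cfsg.Agent.Solv.pPrimeCore_card_coprime 2).symm

theorem inflIrr_eq_one_iff (ψ : IrrCharacter (G ⧸ pPrimeCore 2 G)) :
    H75.inflIrr (pPrimeCore 2 G) ψ = oneIrr G ↔ ψ = oneIrr (G ⧸ pPrimeCore 2 G) := by
  have h1 : H75.inflIrr (pPrimeCore 2 G) (oneIrr (G ⧸ pPrimeCore 2 G)) = oneIrr G := Subtype.ext rfl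
  rw [← h1]
  exact (H75.inflIrr_injective (pPrimeCore 2 G)).eq_iff

/-- reduction of the hypothesis to the quotient -/
theorem con_quot (hM : IsPModular 2 M) {u : G} {k : ℂ}
    (h : ∀ χ : IrrCharacter G, χ ∈ principalBlock M G → (χ : G → ℂ) ≠ (fun _ => 1) →
      (χ : G → ℂ) 1 - (χ : G → ℂ) u = k) (hu : u ∉ pPrimeCore 2 G) :
    Con M (QuotientGroup.mk u : G ⧸ pPrimeCore 2 G) k := by
  haveI : Fact (Nat.Prime 2) := ⟨Nat.prime_two⟩
  refine ⟨Solv.pPrimeCore_quotient_pPrimeCore 2, ?_, ?_⟩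
  · intro ψ hψ hne
    have h1 := (H75.inflIrr_bijOn hM (pPrimeCore 2 G) two_not_dvd_core).mapsTo (mem_PBlk.mp hψ)
    have h2 := h _ h1 (fun h0 => hne ((inflIrr_eq_one_iff ψ).mp (Subtype.ext h0)))
    exact h2
  · intro h0
    exact hu ((QuotientGroup.eq_one_iff u).mp h0)

/-- the converse reduction -/
theorem conv_quot (hM : IsPModular 2 M) {u : G} {k : ℂ}
    (h : ∀ ψ : IrrCharacter (G ⧸ pPrimeCore 2 G), ψ ≠ oneIrr _ →
      (ψ : G ⧸ pPrimeCore 2 G → ℂ) 1 - (ψ : G ⧸ pPrimeCore 2 G → ℂ) (QuotientGroup.mk u) = k) :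
    ∀ χ : IrrCharacter G, χ ∈ principalBlock M G → (χ : G → ℂ) ≠ (fun _ => 1) →
      (χ : G → ℂ) 1 - (χ : G → ℂ) u = k := by
  haveI : Fact (Nat.Prime 2) := ⟨Nat.prime_two⟩
  intro χ hχ hne
  obtain ⟨ψ, hψ, rfl⟩ := (H75.inflIrr_bijOn hM (pPrimeCore 2 G) two_not_dvd_core).surjOn hχ
  refine h ψ fun h0 => hne ?_
  rw [h0]
  rfl

theorem val_card_two (h2 : Nat.card G = 2) (ψ : IrrCharacter G) (hψ : ψ ≠ oneIrr G) {z : G}
    (hz : z ≠ 1) : (ψ : G → ℂ) 1 - (ψ : G → ℂ) z = 2 := by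
  haveI := Fintype.ofFinite G
  obtain ⟨y, hy, hy'⟩ := (Nat.card_eq_two_iff' (1 : G)).mp h2
  have hall : ∀ r : G, r ≠ 1 → r = z := by
    intro r hr
    exact (hy' r hr).trans (hy' z hz).symm
  have hcomm : ∀ a b : G, a * b = b * a := by
    intro a b
    by_cases ha : a = 1
    · rw [ha, one_mul, mul_one]
    · by_cases hb : b = 1
      · rw [hb, one_mul, mul_one]
      · rw [hall a ha, hall b hb]
  obtain ⟨l, rfl⟩ := exists_linIrr hcomm ψ
  have hval : ∀ x, ((BlkInd.linIrr l : IrrCharacter G) : G → ℂ) x = ((l x : ℂˣ) : ℂ) := fun _ => rfl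
  rw [hval, hval, map_one, Units.val_one]
  have hzz : z * z = 1 := by
    have : z ^ Nat.card G = 1 := pow_card_eq_one'
    rwa [h2, pow_two] at this
  have h3 : ((l z : ℂˣ) : ℂ) * ((l z : ℂˣ) : ℂ) = 1 := by
    rw [← Units.val_mul, ← map_mul, hzz, map_one, Units.val_one]
  rcases mul_self_eq_one_iff.mp h3 with h4 | h4
  · exfalso
    apply hψ
    apply Subtype.ext
    funext x
    rw [hval]
    by_cases hx : x = 1
    · rw [hx, map_one]; rfl
    · rw [hall x hx, h4]; rfl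
  · rw [h4]; norm_num

theorem val_psl {F : Type} [Field F] [Fintype F] {n : ℕ} (hn : n ≠ 0) (hF : Fintype.card F = 2 ^ n)
    (e : G ≃* Matrix.ProjectiveSpecialLinearGroup (Fin 2) F) (ψ : IrrCharacter G)
    (hψ : ψ ≠ oneIrr G) {z : G} (hz : z ≠ 1) (hz2 : z ^ 2 = 1) :
    (ψ : G → ℂ) 1 - (ψ : G → ℂ) z = (Fintype.card F : ℂ) := by
  haveI hc : CharP F 2 := by
    obtain ⟨p, hp⟩ := CharP.exists F
    obtain ⟨m, hpp, hcard⟩ := FiniteField.card F p
    have h2 : 2 ∣ Fintype.card F := by rw [hF]; exact dvd_pow_self 2 hn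
    rw [hcard] at h2
    have h3 : 2 ∣ p := Nat.prime_two.dvd_of_dvd_pow h2
    have h4 : 2 = p := (Nat.prime_dvd_prime_iff_eq Nat.prime_two hpp).mp h3
    rw [h4]; exact hp
  let φ : Matrix.SpecialLinearGroup (Fin 2) F →* G :=
    e.symm.toMonoidHom.comp (QuotientGroup.mk' (Subgroup.center (Matrix.SpecialLinearGroup (Fin 2) F)))
  have hφ : Function.Surjective φ := by
    intro g
    obtain ⟨A, hA⟩ := QuotientGroup.mk_surjective (e g)
    refine ⟨A, ?_⟩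
    show e.symm (QuotientGroup.mk A) = g
    rw [hA, MulEquiv.symm_apply_apply]
  have hker : ∀ A, φ A = 1 → A = 1 := by
    intro A hA
    have h1 : e.symm (QuotientGroup.mk A) = 1 := hA
    have h2 : (QuotientGroup.mk A : Matrix.ProjectiveSpecialLinearGroup (Fin 2) F) = 1 := by
      rw [← e.symm.map_one] at h1
      exact e.symm.injective h1
    exact center_sl.mp ((QuotientGroup.eq_one_iff A).mp h2)
  let ψ' : IrrCharacter (Matrix.SpecialLinearGroup (Fin 2) F) :=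
    ⟨(ψ : G → ℂ) ∘ φ, isIrrCharacter_comp_surjective ψ.2 φ hφ⟩
  obtain ⟨A, rfl⟩ := hφ z
  have hA1 : A ≠ 1 := by
    rintro rfl
    exact hz (map_one φ)
  have hA2 : A * A = 1 := hker _ (by rw [map_mul, ← pow_two, hz2])
  have hψ' : ψ' ≠ oneIrr _ := by
    intro h0
    apply hψ
    apply Subtype.ext
    funext g
    obtain ⟨B, rfl⟩ := hφ g
    exact congrFun (congrArg Subtype.val h0) B
  have h1 := sl2_val ψ' hψ' hA2 hA1
  have h2 : ((ψ' : IrrCharacter _) : Matrix.SpecialLinearGroup (Fin 2) F → ℂ) 1 = (ψ : G → ℂ) 1 := by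
    show (ψ : G → ℂ) (φ 1) = _
    rw [map_one]
  rw [h2] at h1
  exact h1

end fwd

theorem main {G : Type u} [Group G] [Finite G] (M : Ideal Cfsg.AlgInt) (hM : Cfsg.IsPModular 2 M) (u : G) :
    (∃ k : ℂ, ∀ χ : Cfsg.IrrCharacter G, χ ∈ Cfsg.principalBlock M G → (χ : G → ℂ) ≠ (fun _ => 1) →
        (χ : G → ℂ) 1 - (χ : G → ℂ) u = k) ↔
      (u ∈ Cfsg.pPrimeCore 2 G ∨ (Nat.card (G ⧸ Cfsg.pPrimeCore 2 G) = 2 ∧ u ∉ Cfsg.pPrimeCore 2 G) ∨
        (∃ (F : Type) (_ : Field F) (_ : Fintype F) (n : ℕ), 2 ≤ n ∧ Fintype.card F = 2 ^ n ∧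
          Nonempty (G ⧸ Cfsg.pPrimeCore 2 G ≃* Matrix.ProjectiveSpecialLinearGroup (Fin 2) F) ∧
          u ∉ Cfsg.pPrimeCore 2 G ∧ u ^ 2 ∈ Cfsg.pPrimeCore 2 G)) := by
  haveI : Fact (Nat.Prime 2) := ⟨Nat.prime_two⟩
  constructor
  · rintro ⟨k, hk⟩
    by_cases hu : u ∈ pPrimeCore 2 G
    · exact Or.inl hu
    · right
      obtain ⟨h1, h2⟩ := (con_quot hM hk hu).final hM
      rcases h2 with h2 | ⟨F, iF, fF, n, hn, hF, e⟩
      · exact Or.inl ⟨h2, hu⟩
      · refine Or.inr ⟨F, iF, fF, n, hn, hF, e, hu, ?_⟩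
        rw [← QuotientGroup.eq_one_iff, QuotientGroup.mk_pow]
        exact h1
  · rintro (hu | ⟨h2, hu⟩ | ⟨F, iF, fF, n, hn, hF, ⟨e⟩, hu, hu2⟩)
    · refine ⟨0, fun χ hχ _ => ?_⟩
      rw [H79.principal_ker hM hχ hu, sub_self]
    · refine ⟨2, conv_quot hM fun ψ hψ => val_card_two h2 ψ hψ ?_⟩
      intro h0
      exact hu ((QuotientGroup.eq_one_iff u).mp h0)
    · refine ⟨(Fintype.card F : ℂ), conv_quot hM fun ψ hψ => ?_⟩
      refine val_psl (by omega) hF e ψ hψ (fun h0 => hu ((QuotientGroup.eq_one_iff u).mp h0)) ?_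
      rw [← QuotientGroup.mk_pow]
      exact (QuotientGroup.eq_one_iff _).mpr hu2

end Cfsg.Agent.H70.PB
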