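import Cfsg.Agent.H70.PB1

set_option autoImplicit false
set_option linter.style.haveILetI false
set_option linter.unusedSimpArgs false
set_option linter.unusedSectionVars false
set_option linter.unusedVariables false

/-!
# Groups with elementary abelian self-centralizing Sylow 2-subgroups: counting (for S4514)
-/

namespace Cfsg.Agent.H70.PB

open scoped BigOperators ComplexConjugate
open Cfsg Cfsg.Agent.CharBase Cfsg.Agent.Blk Cfsg.Agent.BlkC

universe u

/-- `S` is an elementary abelian self-centralizing Sylow 2-subgroup -/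
structure Base {G : Type u} [Group G] [Finite G] (S : Subgroup G) : Prop where
  two : IsPGroup 2 S
  idx : ¬ 2 ∣ S.index
  sq : ∀ s ∈ S, s * s = 1
  cent : Subgroup.centralizer (S : Set G) ≤ S

section base

variable {G : Type u} [Group G] [Finite G] {S : Subgroup G}

theorem comm_of_sq (h : ∀ s ∈ S, s * s = 1) {a b : G} (ha : a ∈ S) (hb : b ∈ S) : a * b = b * a := by
  have h1 := h _ (S.mul_mem ha hb)
  have h2 := h a ha
  have h3 := h b hb
  have e1 : (a * b)⁻¹ = a * b := inv_eq_of_mul_eq_one_right h1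
  have e2 : a⁻¹ = a := inv_eq_of_mul_eq_one_right h2
  have e3 : b⁻¹ = b := inv_eq_of_mul_eq_one_right h3
  rw [mul_inv_rev, e2, e3] at e1
  exact e1.symm

theorem Base.comm (h : Base S) {a b : G} (ha : a ∈ S) (hb : b ∈ S) : a * b = b * a :=
  comm_of_sq h.sq ha hb

theorem Base.comm' (h : Base S) (a b : S) : a * b = b * a := Subtype.ext (h.comm a.2 b.2)

theorem Base.le_cent (h : Base S) : S ≤ Subgroup.centralizer (S : Set G) := fun a ha =>
  Subgroup.mem_centralizer_iff.mpr fun b hb => h.comm hb ha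

theorem Base.exists_sylow (h : Base S) : ∃ P : Sylow 2 G, (P : Subgroup G) = S := by
  haveI : Fact (Nat.Prime 2) := ⟨Nat.prime_two⟩
  exact ⟨h.two.toSylow h.idx, rfl⟩

/-- Burnside fusion -/
theorem Base.fusion (h : Base S) {a b : G} (ha : a ∈ S) (hb : b ∈ S) (hab : IsConj a b) :
    ∃ n ∈ Subgroup.normalizer (S : Set G), n * a * n⁻¹ = b := by
  haveI : Fact (Nat.Prime 2) := ⟨Nat.prime_two⟩
  obtain ⟨P, hP⟩ := h.exists_sylow
  obtain ⟨g, hg⟩ := isConj_iff.mp hab
  have h1 : a ∈ Subgroup.centralizer ((P : Subgroup G) : Set G) := by rw [hP]; exact h.le_cent ha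
  have h2 : (g⁻¹)⁻¹ * a * g⁻¹ ∈ Subgroup.centralizer ((P : Subgroup G) : Set G) := by
    rw [inv_inv, hg, hP]; exact h.le_cent hb
  obtain ⟨n, hn, hn'⟩ := P.conj_eq_normalizer_conj_of_mem_centralizer a g⁻¹ h1 h2
  have hPS : (P : Set G) = (S : Set G) := by rw [← hP]; rfl
  rw [hPS] at hn
  refine ⟨n⁻¹, inv_mem hn, ?_⟩
  rw [inv_inv, ← hn', inv_inv, hg]

theorem Base.mem_of_odd_cent (h : Base S) {x : G} (hx : ¬ 2 ∣ orderOf x)
    (hc : ∀ s ∈ S, x * s = s * x) : x = 1 := by
  have h1 : x ∈ S := h.cent (Subgroup.mem_centralizer_iff.mpr fun s hs => (hc s hs).symm)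
  have h2 := h.sq x h1
  by_contra hne
  exact hx (by rw [ord_two h2 hne])

/-- 2-elements of the normalizer are in `S` -/
theorem Base.two_mem (h : Base S) {n : G} (hn : n ∈ Subgroup.normalizer (S : Set G))
    (h2 : ∃ k, orderOf n = 2 ^ k) : n ∈ S := by
  haveI : Fact (Nat.Prime 2) := ⟨Nat.prime_two⟩
  obtain ⟨P, hP⟩ := h.exists_sylow
  have hz : IsPGroup 2 (Subgroup.zpowers n) := by
    obtain ⟨k, hk⟩ := h2
    exact IsPGroup.of_card (by rw [Nat.card_zpowers, hk])
  have h3 : Subgroup.zpowers n ≤ Subgroup.normalizer ((P : Subgroup G) : Set G) := by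
    rw [Subgroup.zpowers_le, hP]; exact hn
  have h4 := P.is_maximal' (Q := (P : Subgroup G) ⊔ Subgroup.zpowers n)
    (IsPGroup.to_sup_of_normal_left' P.isPGroup' hz h3) le_sup_left
  rw [← hP, ← h4]
  exact Subgroup.mem_sup_right (Subgroup.mem_zpowers n)

/-- decomposition of the elements of the normalizer -/
theorem Base.exists_decomp (h : Base S) {n : G} (hn : n ∈ Subgroup.normalizer (S : Set G)) :
    ∃ s ∈ S, ∃ x ∈ Subgroup.normalizer (S : Set G), ¬ 2 ∣ orderOf x ∧ s * x = n ∧ Commute s x := by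
  obtain ⟨u, c, h1, h2, h3, h4, h5, h6⟩ := BlkInd.exists_decomp Nat.prime_two n
  have hz : Subgroup.zpowers n ≤ Subgroup.normalizer (S : Set G) := by
    rw [Subgroup.zpowers_le]; exact hn
  exact ⟨u, h.two_mem (hz h5) h3, c, hz h6, h4, h1, h2.symm⟩

/-- number of conjugates in `S` is odd -/
theorem Base.odd_conj (h : Base S) {t : G} (ht : t ∈ S) :
    ¬ 2 ∣ Nat.card {s : S // IsConj t (s : G)} := by
  classical
  haveI : Fact (Nat.Prime 2) := ⟨Nat.prime_two⟩
  letI act : MulAction S {g : G // IsConj t g} :=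
    { smul := fun s g => ⟨(s : G) * g * (s : G)⁻¹, g.2.trans (isConj_iff.mpr ⟨s, rfl⟩)⟩
      one_smul := fun g => Subtype.ext (by
        show ((1 : S) : G) * g * ((1 : S) : G)⁻¹ = g
        simp)
      mul_smul := fun a b g => Subtype.ext (by
        show ((a * b : S) : G) * g * ((a * b : S) : G)⁻¹ = (a : G) * ((b : G) * g * (b : G)⁻¹) * (a : G)⁻¹
        push_cast
        group) }
  have h1 := h.two.card_modEq_card_fixedPoints {g : G // IsConj t g}
  have h2 : Nat.card {g : G // IsConj t g} = (Subgroup.centralizer ({t} : Set G)).index :=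
    card_isConj_eq_index t
  have h3 : ¬ 2 ∣ (Subgroup.centralizer ({t} : Set G)).index := by
    intro h4
    have h5 : S ≤ Subgroup.centralizer ({t} : Set G) := fun s hs =>
      Subgroup.mem_centralizer_singleton_iff.mpr (h.comm hs ht)
    exact h.idx (h4.trans (Subgroup.index_dvd_of_le h5))
  have h4 : Nat.card (MulAction.fixedPoints S {g : G // IsConj t g}) =
      Nat.card {s : S // IsConj t (s : G)} := by
    refine Nat.card_congr ⟨fun g => ⟨⟨(g : {g : G // IsConj t g}), ?_⟩, g.1.2⟩,
      fun s => ⟨⟨(s : S), s.2⟩, ?_⟩, fun g => rfl, fun s => rfl⟩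
    · apply h.cent
      rw [Subgroup.mem_centralizer_iff]
      intro s hs
      have h5 := congrArg Subtype.val (g.2 ⟨s, hs⟩)
      have h6 : s * ((g : {g : G // IsConj t g}) : G) * s⁻¹ = (g : {g : G // IsConj t g}) := h5
      exact mul_inv_eq_iff_eq_mul.mp h6
    · intro u
      apply Subtype.ext
      show (u : G) * ((s : S) : G) * (u : G)⁻¹ = ((s : S) : G)
      rw [h.comm u.2 (s : S).2, mul_inv_cancel_right]
  rw [h2, h4] at h1
  intro h5
  apply h3
  exact (Nat.modEq_zero_iff_dvd.mp (h1.trans (Nat.modEq_zero_iff_dvd.mpr h5)))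

/-- conjugation action of the normalizer -/
def cj (S : Subgroup G) (n : Subgroup.normalizer (S : Set G)) (s : S) : S :=
  ⟨(n : G) * s * (n : G)⁻¹, (Subgroup.mem_normalizer_iff.mp n.2 _).mp s.2⟩

/-- conjugation as a hom -/
def cjHom (S : Subgroup G) (n : Subgroup.normalizer (S : Set G)) : S →* S where
  toFun := cj S n
  map_one' := Subtype.ext (by simp [cj])
  map_mul' := fun a b => Subtype.ext (by simp [cj])

theorem cj_isConj (n : Subgroup.normalizer (S : Set G)) (s : S) :
    IsConj (s : G) (cj S n s : G) := isConj_iff.mpr ⟨n, rfl⟩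

theorem cj_mul (n m : Subgroup.normalizer (S : Set G)) (s : S) :
    cj S (n * m) s = cj S n (cj S m s) := Subtype.ext (by
  show ((n * m : Subgroup.normalizer (S : Set G)) : G) * s * _ = (n : G) * ((m : G) * s * (m : G)⁻¹) * (n : G)⁻¹
  push_cast
  group)

/-- fusion sum -/
theorem Base.fus_sum (h : Base S) [Fintype S] [Fintype (Subgroup.normalizer (S : Set G))] (s : S)
    (hs : ∀ n ∈ Subgroup.normalizer (S : Set G), n * s = s * n → n ∈ S) (F : S → ℂ)
    [∀ s' : S, Decidable (IsConj (s : G) (s' : G))] :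
    (Nat.card S : ℂ) * ∑ s' : S, (if IsConj (s : G) (s' : G) then F s' else 0) =
      ∑ n : Subgroup.normalizer (S : Set G), F (cj S n s) := by
  classical
  have h1 : ∀ s' : S, ((Finset.univ.filter fun n : Subgroup.normalizer (S : Set G) =>
      cj S n s = s').card : ℂ) = if IsConj (s : G) (s' : G) then (Nat.card S : ℂ) else 0 := by
    intro s'
    split_ifs with hc
    · obtain ⟨n, hn, hns⟩ := h.fusion s.2 s'.2 hc
      have h2 : Nat.card S = (Finset.univ.filter fun n : Subgroup.normalizer (S : Set G) =>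
          cj S n s = s').card := by
        rw [Nat.card_eq_fintype_card, ← Finset.card_univ]
        refine Finset.card_bij (fun u _ => (⟨n * (u : G), mul_mem hn (Subgroup.le_normalizer u.2)⟩ :
          Subgroup.normalizer (S : Set G))) ?_ ?_ ?_
        · intro u _
          rw [Finset.mem_filter]
          refine ⟨Finset.mem_univ _, Subtype.ext ?_⟩
          show n * (u : G) * (s : G) * (n * (u : G))⁻¹ = s'
          rw [mul_assoc n, h.comm u.2 s.2, ← hns]
          group
        · intro u _ v _ huv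
          have := congrArg Subtype.val huv
          exact Subtype.ext (mul_left_cancel (this : n * (u : G) = n * (v : G)))
        · intro m hm
          have h3 := congrArg Subtype.val (Finset.mem_filter.mp hm).2
          have h4 : (m : G) * s * (m : G)⁻¹ = s' := h3
          have h5 : n⁻¹ * m ∈ S := by
            refine hs _ (mul_mem (inv_mem hn) m.2) ?_
            have h6 : (m : G) * s * (m : G)⁻¹ = n * s * n⁻¹ := by rw [h4, hns]
            calc n⁻¹ * (m : G) * s = n⁻¹ * ((m : G) * s * (m : G)⁻¹) * m := by group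
              _ = n⁻¹ * (n * s * n⁻¹) * m := by rw [h6]
              _ = s * (n⁻¹ * m) := by group
          exact ⟨⟨_, h5⟩, Finset.mem_univ _, Subtype.ext (by
            show n * (n⁻¹ * (m : G)) = m
            group)⟩
      rw [← h2]
    · rw [Finset.filter_false_of_mem]
      · simp
      · intro n _ hn
        exact hc (hn ▸ cj_isConj n s)
  rw [← Finset.sum_fiberwise_of_maps_to (s := Finset.univ) (t := Finset.univ)
    (g := fun n => cj S n s) (fun _ _ => Finset.mem_univ _), Finset.mul_sum]
  refine Finset.sum_congr rfl fun s' _ => ?_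
  rw [Finset.sum_congr rfl (g := fun _ => F s') (fun n hn => by rw [(Finset.mem_filter.mp hn).2]),
    Finset.sum_const, nsmul_eq_mul, h1]
  split_ifs <;> ring

end base

end Cfsg.Agent.H70.PB
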