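import Cfsg.Agent.H70.PB2

set_option autoImplicit false
set_option linter.style.haveILetI false
set_option linter.unusedSimpArgs false
set_option linter.unusedSectionVars false
set_option linter.unusedVariables false

/-!
# Sums over the principal 2-block (for S4514)
-/

namespace Cfsg.Agent.H70.PB

open scoped BigOperators ComplexConjugate
open Cfsg Cfsg.Agent.CharBase Cfsg.Agent.Blk Cfsg.Agent.BlkC

universe u

section sums

variable {G : Type u} [Group G] [Finite G] {M : Ideal AlgInt} {S : Subgroup G}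

theorem card_ne (A : Type*) [Group A] [Finite A] : (Nat.card A : ℂ) ≠ 0 := by
  exact_mod_cast Nat.card_pos.ne'

theorem isPPart_mk {t x : G} (ht : t * t = 1) (hx : ¬ 2 ∣ orderOf x) (hc : Commute t x) :
    IsPPart 2 (t * x) t := ⟨x, rfl, hc, ord_of_sq ht, hx⟩

theorem isPPart_self {t : G} (ht : t * t = 1) : IsPPart 2 t t := by
  have := isPPart_mk ht (ordOne (G := G)) (Commute.one_right t)
  rwa [mul_one] at this

/-- the part of the induced linear character in the principal block -/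
noncomputable def Pl (M : Ideal AlgInt) (S : Subgroup G) (l : S →* ℂˣ) (x : G) : ℂ :=
  ∑ χ ∈ PBlk M G, (mu S χ l : ℂ) * (χ : G → ℂ) x

theorem Pl_eq [Fintype S] (hsq : ∀ s ∈ S, s * s = 1) (l : S →* ℂˣ) (x : G) :
    Pl M S l x = (Nat.card S : ℂ)⁻¹ * ∑ s : S, conj ((l s : ℂˣ) : ℂ) * KB M x (s : G) := by
  unfold Pl KB
  simp_rw [mu_spec, Finset.mul_sum, Finset.sum_mul]
  rw [Finset.sum_comm]
  refine Finset.sum_congr rfl fun s _ => Finset.sum_congr rfl fun χ _ => ?_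
  rw [real_of_sq χ (hsq s s.2)]
  ring

theorem Pl_reg (hM : IsPModular 2 M) (hsq : ∀ s ∈ S, s * s = 1) (l : S →* ℂˣ) {x : G}
    (hx : ¬ 2 ∣ orderOf x) : Pl M S l x = (Nat.card S : ℂ)⁻¹ * KB M x 1 := by
  classical
  haveI := Fintype.ofFinite S
  rw [Pl_eq hsq, Finset.sum_eq_single 1]
  · simp
  · intro s _ hs
    rw [KB_reg_sing hM hx, mul_zero]
    have h1 : (s : G) ≠ 1 := fun h => hs (Subtype.ext h)
    rw [ord_two (hsq s s.2) h1]
  · intro h; exact absurd (Finset.mem_univ _) h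

/-- difference of multiplicities -/
noncomputable def av (S : Subgroup G) (χ : IrrCharacter G) (l : S →* ℂˣ) : ℤ :=
  (mu S χ 1 : ℤ) - mu S χ l

theorem av_spec [Fintype S] (χ : IrrCharacter G) (l : S →* ℂˣ) :
    (av S χ l : ℂ) = (Nat.card S : ℂ)⁻¹ * ∑ s : S, (χ : G → ℂ) s * (1 - conj ((l s : ℂˣ) : ℂ)) := by
  unfold av
  push_cast
  rw [mu_spec, mu_spec, ← mul_sub, ← Finset.sum_sub_distrib]
  congr 1
  refine Finset.sum_congr rfl fun s _ => ?_
  simp only [MonoidHom.one_apply, Units.val_one, map_one]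
  ring

theorem av_spec' [Fintype S] (hsq : ∀ s ∈ S, s * s = 1) (χ : IrrCharacter G) (l : S →* ℂˣ) :
    (av S χ l : ℂ) = (Nat.card S : ℂ)⁻¹ * ∑ s : S, conj ((χ : G → ℂ) s) * (1 - ((l s : ℂˣ) : ℂ)) := by
  have h := congrArg conj (av_spec χ l)
  have h0 : conj ((av S χ l : ℤ) : ℂ) = (av S χ l : ℂ) := map_intCast (starRingEnd ℂ) _
  rw [h0] at h
  rw [h, map_mul, map_inv₀, Complex.conj_natCast, map_sum]
  congr 1
  refine Finset.sum_congr rfl fun s _ => ?_
  rw [map_mul, map_sub, map_one, Complex.conj_conj]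

theorem sum_av_eq [Fintype S] (hsq : ∀ s ∈ S, s * s = 1) (l l' : S →* ℂˣ) :
    ((∑ χ ∈ PBlk M G, av S χ l * av S χ l' : ℤ) : ℂ) =
      (Nat.card S : ℂ)⁻¹ * (Nat.card S : ℂ)⁻¹ * ∑ s : S, ∑ s' : S,
        (1 - conj ((l s : ℂˣ) : ℂ)) * (1 - ((l' s' : ℂˣ) : ℂ)) * KB M (s : G) (s' : G) := by
  push_cast
  have h1 : ∀ χ ∈ PBlk M G, (av S χ l : ℂ) * (av S χ l' : ℂ) =
      ∑ s : S, ∑ s' : S, (Nat.card S : ℂ)⁻¹ * (Nat.card S : ℂ)⁻¹ *
        ((1 - conj ((l s : ℂˣ) : ℂ)) * (1 - ((l' s' : ℂˣ) : ℂ)) *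
          ((χ : G → ℂ) s * conj ((χ : G → ℂ) s'))) := by
    intro χ _
    rw [av_spec, av_spec' hsq, Finset.mul_sum, Finset.mul_sum, Finset.sum_mul_sum]
    refine Finset.sum_congr rfl fun s _ => Finset.sum_congr rfl fun s' _ => ?_
    ring
  rw [Finset.sum_congr rfl h1, Finset.sum_comm, Finset.mul_sum]
  refine Finset.sum_congr rfl fun s _ => ?_
  rw [Finset.sum_comm, Finset.mul_sum]
  refine Finset.sum_congr rfl fun s' _ => ?_
  unfold KB
  rw [← Finset.mul_sum, ← Finset.mul_sum]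

/-- conjugate linear character -/
def tw (S : Subgroup G) (n : Subgroup.normalizer (S : Set G)) (l : S →* ℂˣ) : S →* ℂˣ :=
  l.comp (cjHom S n)

theorem tw_apply (n : Subgroup.normalizer (S : Set G)) (l : S →* ℂˣ) (s : S) :
    tw S n l s = l (cj S n s) := rfl

theorem sum_conj_lin {A : Type u} [Group A] [Fintype A] {l : A →* ℂˣ} (hl : l ≠ 1) :
    ∑ u : A, conj ((l u : ℂˣ) : ℂ) = 0 := by
  rw [← map_sum, BlkInd.sum_lin hl, map_zero]

theorem tw_ne_one (n : Subgroup.normalizer (S : Set G)) {l : S →* ℂˣ} (hl : l ≠ 1) :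
    tw S n l ≠ 1 := by
  intro h
  apply hl
  ext s
  have h1 := DFunLike.congr_fun h (cj S n⁻¹ s)
  rw [tw_apply, ← cj_mul, mul_inv_cancel] at h1
  have h2 : cj S 1 s = s := Subtype.ext (by simp [cj])
  rw [h2] at h1
  rw [h1]
  rfl

open Classical in
/-- the inner product formula -/
theorem Base.sum_av (hM : IsPModular 2 M) (h : Base S) [Fintype S]
    [Fintype (Subgroup.normalizer (S : Set G))] {l l' : S →* ℂˣ} (hl : l ≠ 1) (hl' : l' ≠ 1)
    (hs : ∀ s : S, l s ≠ 1 → ∀ n ∈ Subgroup.normalizer (S : Set G), n * (s : G) = s * n → n ∈ S)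
    (hK : ∀ s : S, l s ≠ 1 → KB M (s : G) s = (Nat.card S : ℂ))
 :
    (Nat.card S : ℂ) * ((∑ χ ∈ PBlk M G, av S χ l * av S χ l' : ℤ) : ℂ) =
      (Nat.card (Subgroup.normalizer (S : Set G)) : ℂ) +
        ((Finset.univ.filter fun n : Subgroup.normalizer (S : Set G) => tw S n l' = l).card : ℂ) := by
  have hS := card_ne S
  rw [sum_av_eq h.sq]
  -- inner sums
  have h1 : ∀ s : S, ∑ s' : S, (1 - conj ((l s : ℂˣ) : ℂ)) * (1 - ((l' s' : ℂˣ) : ℂ)) * KB M (s : G) (s' : G) =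
      (1 - conj ((l s : ℂˣ) : ℂ)) * ∑ n : Subgroup.normalizer (S : Set G),
        (1 - ((l' (cj S n s) : ℂˣ) : ℂ)) := by
    intro s
    by_cases hls : l s = 1
    · have h2 : (1 - conj ((l s : ℂˣ) : ℂ)) = 0 := by rw [hls]; simp
      rw [h2, zero_mul]
      exact Finset.sum_eq_zero fun s' _ => by rw [zero_mul, zero_mul]
    · rw [← h.fus_sum s (hs s hls) (fun s' => (1 - ((l' s' : ℂˣ) : ℂ))), Finset.mul_sum, Finset.mul_sum]
      refine Finset.sum_congr rfl fun s' _ => ?_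
      have h3 : KB M (s : G) s' = if IsConj (s : G) (s' : G) then (Nat.card S : ℂ) else 0 := by
        split_ifs with hc
        · obtain ⟨g, hg⟩ := isConj_iff.mp hc
          rw [← hg, KB_conj_right, hK s hls]
        · exact KB_sec hM (isPPart_self (h.sq s s.2)) (isPPart_self (h.sq s' s'.2)) hc
      rw [h3]
      split_ifs <;> ring
  rw [Finset.sum_congr rfl fun s _ => h1 s]
  simp_rw [Finset.mul_sum]
  rw [Finset.sum_comm]
  have h2 : ∀ n : Subgroup.normalizer (S : Set G), ∑ s : S, (1 - conj ((l s : ℂˣ) : ℂ)) *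
      (1 - ((l' (cj S n s) : ℂˣ) : ℂ)) = (Nat.card S : ℂ) * (1 + if tw S n l' = l then 1 else 0) := by
    intro n
    have e1 : ∀ s : S, (1 - conj ((l s : ℂˣ) : ℂ)) * (1 - ((l' (cj S n s) : ℂˣ) : ℂ)) =
        1 - conj ((l s : ℂˣ) : ℂ) - ((tw S n l' s : ℂˣ) : ℂ) +
          ((tw S n l' s : ℂˣ) : ℂ) * conj ((l s : ℂˣ) : ℂ) := by
      intro s; rw [tw_apply]; ring
    rw [Finset.sum_congr rfl fun s _ => e1 s, Finset.sum_add_distrib, Finset.sum_sub_distrib,
      Finset.sum_sub_distrib, sum_conj_lin hl, BlkInd.sum_lin (tw_ne_one n hl'),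
      BlkInd.sum_lin_mul_conj, Finset.sum_const, Finset.card_univ, nsmul_eq_mul,
      ← Nat.card_eq_fintype_card]
    split_ifs <;> ring
  simp_rw [← Finset.mul_sum]
  rw [Finset.sum_congr rfl fun n _ => h2 n, ← Finset.mul_sum, Finset.sum_add_distrib,
    Finset.sum_const, Finset.card_univ, nsmul_eq_mul, ← Nat.card_eq_fintype_card,
    Finset.sum_ite, Finset.sum_const_zero, Finset.sum_const, nsmul_eq_mul]
  field_simp
  ring

end sums

end Cfsg.Agent.H70.PB
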