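import Cfsg.Agent.H70.PB3

set_option autoImplicit false
set_option linter.style.haveILetI false
set_option linter.unusedSimpArgs false
set_option linter.unusedSectionVars false
set_option linter.unusedVariables false

/-!
# Passing to centralizers (for S4514)
-/

namespace Cfsg.Agent.H70.PB

open scoped BigOperators ComplexConjugate
open Cfsg Cfsg.Agent.CharBase Cfsg.Agent.Blk Cfsg.Agent.BlkC

universe u

/-- 2-nilpotence -/
def NP (G : Type u) [Group G] : Prop := ∃ k : ℕ, (pPrimeCore 2 G).index = 2 ^ k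

section pass

variable {G : Type u} [Group G] [Finite G] {M : Ideal AlgInt} {S : Subgroup G}

/-- `S` inside `C` -/
noncomputable def eC {C : Subgroup G} (hSC : S ≤ C) : S ≃* S.subgroupOf C :=
  (Subgroup.subgroupOfEquivOfLe hSC).symm

theorem eC_coe {C : Subgroup G} (hSC : S ≤ C) (s : S) : (((eC hSC s : S.subgroupOf C) : C) : G) = s := by
  have h : Subgroup.subgroupOfEquivOfLe hSC (eC hSC s) = s := (Subgroup.subgroupOfEquivOfLe hSC).apply_symm_apply s
  have := congrArg Subtype.val h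
  simpa using this

theorem Base.sub (h : Base S) {C : Subgroup G} (hSC : S ≤ C) : Base (S.subgroupOf C) := by
  refine ⟨?_, ?_, ?_, ?_⟩
  · exact h.two.of_equiv (eC hSC)
  · intro h2
    apply h.idx
    have : S.relIndex C ∣ S.index := Subgroup.relIndex_dvd_index_of_le hSC
    exact h2.trans this
  · intro s hs
    exact Subtype.ext (h.sq (s : G) hs)
  · intro c hc
    rw [Subgroup.mem_subgroupOf]
    apply h.cent
    rw [Subgroup.mem_centralizer_iff]
    intro s hs
    have := Subgroup.mem_centralizer_iff.mp hc ⟨s, hSC hs⟩ (show (⟨s, hSC hs⟩ : C) ∈ _ from hs)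
    exact congrArg Subtype.val this

theorem mu_le_of_over {C : Subgroup G} [Fintype C] (hSC : S ≤ C) {χ : IrrCharacter G}
    {η : IrrCharacter C} (hne : classInner (fun c : C => (χ : G → ℂ) c) (η : C → ℂ) ≠ 0)
    (l : S.subgroupOf C →* ℂˣ) :
    mu (S.subgroupOf C) η l ≤ mu S χ (l.comp (eC hSC).toMonoidHom) := by
  classical
  haveI := Fintype.ofFinite G
  haveI := Fintype.ofFinite S
  haveI := Fintype.ofFinite (S.subgroupOf C)
  haveI := Fintype.ofFinite (IrrCharacter C)
  have hcard : Nat.card S = Nat.card (S.subgroupOf C) := Nat.card_congr (eC hSC).toEquiv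
  have h1 : (mu S χ (l.comp (eC hSC).toMonoidHom) : ℂ) =
      ((∑ θ : IrrCharacter C, mult C χ θ * mu (S.subgroupOf C) θ l : ℕ) : ℂ) := by
    rw [mu_spec]
    have e1 : ∑ s : S, (χ : G → ℂ) s * conj (((l.comp (eC hSC).toMonoidHom) s : ℂˣ) : ℂ) =
        ∑ s : S.subgroupOf C, (χ : G → ℂ) ((s : C) : G) * conj ((l s : ℂˣ) : ℂ) := by
      refine Fintype.sum_equiv (eC hSC).toEquiv _ _ fun s => ?_
      show _ = (χ : G → ℂ) (((eC hSC s : S.subgroupOf C) : C) : G) * conj ((l (eC hSC s) : ℂˣ) : ℂ)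
      rw [eC_coe]
      rfl
    rw [e1]
    have hcf : IsClassFunction C (fun c : C => (χ : G → ℂ) c) := fun g x => irr_isClassFunction χ _ _
    have e2 : ∀ s : S.subgroupOf C, (χ : G → ℂ) ((s : C) : G) =
        ∑ θ : IrrCharacter C, (mult C χ θ : ℂ) * (θ : C → ℂ) s := by
      intro s
      rw [classFun_apply_eq_sum hcf (s : C)]
      exact Finset.sum_congr rfl fun θ _ => by rw [mult_spec]
    simp_rw [e2, Finset.sum_mul]
    rw [Finset.sum_comm, Finset.mul_sum]
    push_cast
    refine Finset.sum_congr rfl fun θ _ => ?_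
    rw [mu_spec, hcard, Finset.mul_sum, Finset.mul_sum, Finset.mul_sum]
    refine Finset.sum_congr rfl fun s _ => ?_
    ring
  have h2 : mu S χ (l.comp (eC hSC).toMonoidHom) =
      ∑ θ : IrrCharacter C, mult C χ θ * mu (S.subgroupOf C) θ l := by exact_mod_cast h1
  rw [h2]
  have h3 : 1 ≤ mult C χ η := by
    rw [Nat.one_le_iff_ne_zero]
    intro h0
    apply hne
    rw [mult_spec, h0, Nat.cast_zero]
  calc mu (S.subgroupOf C) η l = 1 * mu (S.subgroupOf C) η l := (one_mul _).symm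
    _ ≤ mult C χ η * mu (S.subgroupOf C) η l := Nat.mul_le_mul_right _ h3
    _ ≤ _ := Finset.single_le_sum (f := fun θ => mult C χ θ * mu (S.subgroupOf C) θ l)
        (fun _ _ => Nat.zero_le _) (Finset.mem_univ η)

/-- the parity sum at `t x` -/
theorem Pl_section (hM : IsPModular 2 M) (hsq : ∀ s ∈ S, s * s = 1) {t : G} (ht : t ∈ S) {C : Subgroup G}
    (hC : C = Subgroup.centralizer ({t} : Set G)) (hSC : S ≤ C) (x : C) (hx : ¬ 2 ∣ orderOf x) :
    Pl M S 1 (t * (x : G)) = (Nat.card {s : S // IsConj t (s : G)} : ℂ) * Pl M (S.subgroupOf C) 1 x := by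
  classical
  haveI := Fintype.ofFinite S
  have htt := hsq t ht
  have hxG : ¬ 2 ∣ orderOf (x : G) := by rwa [Subgroup.orderOf_coe]
  have hcx : Commute t (x : G) :=
    (Subgroup.mem_centralizer_singleton_iff.mp (hC.le x.2)).symm
  have hsq' : ∀ s ∈ S.subgroupOf C, s * s = 1 := fun s hs => Subtype.ext (hsq (s : G) hs)
  have hcard : Nat.card S = Nat.card (S.subgroupOf C) := Nat.card_congr (eC hSC).toEquiv
  rw [Pl_reg hM hsq' 1 hx, Pl_eq hsq, ← hcard]
  have h1 : ∀ s : S, conj (((1 : S →* ℂˣ) s : ℂˣ) : ℂ) * KB M (t * (x : G)) (s : G) =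
      if IsConj t (s : G) then KB M x 1 else 0 := by
    intro s
    rw [MonoidHom.one_apply, Units.val_one, map_one, one_mul]
    split_ifs with hc
    · obtain ⟨g, hg⟩ := isConj_iff.mp hc
      have := KB_loc hM (ord_of_sq htt) hC x 1 hx ordOne
      rw [Subgroup.coe_one, mul_one] at this
      rw [← hg, KB_conj_right, this]
    · exact KB_sec hM (isPPart_mk htt hxG hcx) (isPPart_self (hsq s s.2)) hc
  have h2 : (Nat.card {s : S // IsConj t (s : G)} : ℂ) =
      ((Finset.univ.filter fun s : S => IsConj t (s : G)).card : ℂ) := by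
    rw [Nat.card_eq_fintype_card, Fintype.card_subtype]
  rw [Finset.sum_congr rfl fun s _ => h1 s, Finset.sum_ite, Finset.sum_const_zero, Finset.sum_const,
    nsmul_eq_mul, add_zero, h2]
  ring

theorem mlr_Pl [M.IsPrime] (l : S →* ℂˣ) (x : G) : MemLocalRing M (Pl M S l x) := by
  unfold Pl
  exact mlr_sum _ _ fun χ _ => mlr_mul (mlr_natCast _)
    (Cfsg.Agent.Char.MP.mlr_char (irr_isCharacter χ) _)

/-- the structure used in the induction -/
structure Hyp (M : Ideal AlgInt) {G : Type u} [Group G] [Finite G] (S : Subgroup G) : Prop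
    extends Base S where
  mf : ∀ χ ∈ principalBlock M G, ∀ l : S →* ℂˣ, mu S χ l ≤ 1
  par : ∀ x : G, ¬ 2 ∣ orderOf x → MemLocalIdeal M (Pl M S 1 x - 1)

theorem par_pass (hM : IsPModular 2 M) (h : Base S) {t : G} (ht : t ∈ S) {C : Subgroup G}
    (hC : C = Subgroup.centralizer ({t} : Set G)) (hSC : S ≤ C) (x : C) (hx : ¬ 2 ∣ orderOf x)
    (hP : MemLocalIdeal M (Pl M S 1 (x : G) - 1)) :
    MemLocalIdeal M (Pl M (S.subgroupOf C) 1 x - 1) := by
  haveI := isPrime_of_isPModular hM
  have htt := h.sq t ht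
  have hxG : ¬ 2 ∣ orderOf (x : G) := by rwa [Subgroup.orderOf_coe]
  have hcx : Commute t (x : G) :=
    (Subgroup.mem_centralizer_singleton_iff.mp (hC.le x.2)).symm
  have h1 := Pl_section hM h.sq ht hC hSC x hx
  set n := Nat.card {s : S // IsConj t (s : G)} with hn
  set a := Pl M (S.subgroupOf C) 1 x with ha
  have ha' : MemLocalRing M a := mlr_Pl 1 x
  have h2 : MemLocalIdeal M (Pl M S 1 (t * (x : G)) - Pl M S 1 (x : G)) := by
    unfold Pl
    rw [← Finset.sum_sub_distrib]
    refine mli_sum _ _ fun χ _ => ?_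
    rw [← mul_sub]
    exact mli_mul_left (mlr_natCast _) (mli_val hM χ (ord_of_sq htt) hxG hcx)
  have h3 : MemLocalIdeal M ((n : ℂ) * a - 1) := by
    rw [← h1]
    exact mli_trans h2 hP
  have h4 : MemLocalIdeal M (((n : ℤ) - 1 : ℤ) : ℂ) := by
    rw [mli_intCast_iff hM]
    have := h.odd_conj ht
    omega
  have h5 : a - 1 = ((n : ℂ) * a - 1) - (((n : ℤ) - 1 : ℤ) : ℂ) * a := by push_cast; ring
  rw [h5]
  exact mli_sub h3 (mli_mul_right h4 ha')

theorem Hyp.pass (hM : IsPModular 2 M) (h : Hyp M S) {t : G} (ht : t ∈ S) {C : Subgroup G}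
    (hC : C = Subgroup.centralizer ({t} : Set G)) (hSC : S ≤ C) : Hyp M (S.subgroupOf C) := by
  haveI := Fact.mk hM.1
  haveI := Fintype.ofFinite G
  haveI := Fintype.ofFinite C
  refine ⟨h.toBase.sub hSC, ?_, ?_⟩
  · intro η hη l
    obtain ⟨χ, hχ, hne⟩ := exists_over_principal hM C hη
    exact (mu_le_of_over hSC hne l).trans (h.mf χ hχ _)
  · intro x hx
    exact par_pass hM h.toBase ht hC hSC x hx (h.par x (by rwa [Subgroup.orderOf_coe]))

/-- in a 2-nilpotent group the Sylow subgroup is its own normalizer -/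
theorem Base.norm_of_np (h : Base S) (hnp : NP G) :
    ∀ n ∈ Subgroup.normalizer (S : Set G), n ∈ S := by
  intro n hn
  obtain ⟨k, hk⟩ := hnp
  obtain ⟨s, hs, x, hx, hx2, rfl, -⟩ := h.exists_decomp hn
  have hxK : x ∈ pPrimeCore 2 G := H4.mem_of_regular_of_index hk hx2
  have hx1 : x = 1 := by
    refine h.mem_of_odd_cent hx2 fun t ht => ?_
    have h1 : x * t * x⁻¹ * t⁻¹ ∈ S := S.mul_mem ((Subgroup.mem_normalizer_iff.mp hx t).mp ht)
      (S.inv_mem ht)
    have h2 : x * t * x⁻¹ * t⁻¹ ∈ pPrimeCore 2 G := by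
      have : x * t * x⁻¹ * t⁻¹ = x * (t * x⁻¹ * t⁻¹) := by group
      rw [this]
      exact mul_mem hxK ((inferInstance : (pPrimeCore 2 G).Normal).conj_mem _ (inv_mem hxK) t)
    have h3 : x * t * x⁻¹ * t⁻¹ = 1 := by
      by_contra hne
      have h4 := ord_two (h.sq _ h1) hne
      have h5 : orderOf (x * t * x⁻¹ * t⁻¹) ∣ Nat.card (pPrimeCore 2 G) := by
        have := orderOf_dvd_natCard (⟨_, h2⟩ : pPrimeCore 2 G)
        rwa [Subgroup.orderOf_mk] at this
      rw [h4] at h5
      have h6 := Cfsg.Agent.Solv.pPrimeCore_card_coprime (G := G) 2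
      have h7 : Nat.Coprime 2 2 := Nat.Coprime.coprime_dvd_left h5 h6
      norm_num at h7
    have h8 : x * t * x⁻¹ = t := by rwa [mul_inv_eq_one] at h3
    exact mul_inv_eq_iff_eq_mul.mp h8
  rw [hx1, mul_one]
  exact hs

/-- Burnside -/
theorem Base.np_of_norm (h : Base S) (hN : ∀ n ∈ Subgroup.normalizer (S : Set G), n ∈ S) : NP G := by
  haveI : Fact (Nat.Prime 2) := ⟨Nat.prime_two⟩
  obtain ⟨P, hP⟩ := h.exists_sylow
  have hPS : (P : Set G) = (S : Set G) := by rw [← hP]; rfl
  have h1 : Subgroup.normalizer (P : Set G) ≤ Subgroup.centralizer (P : Set G) := by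
    rw [hPS]
    exact fun n hn => h.le_cent (hN n hn)
  have h2 := MonoidHom.ker_transferSylow_isComplement' P h1
  have h3 : (MonoidHom.transferSylow P h1).ker ≤ pPrimeCore 2 G := by
    apply Cfsg.Agent.Solv.le_pPrimeCore inferInstance
    have h4 := h2.card_mul_card
    have h5 := Subgroup.card_mul_index (P : Subgroup G)
    have h6 : Nat.card (MonoidHom.transferSylow P h1).ker = (P : Subgroup G).index := by
      have hpos : 0 < Nat.card (P : Subgroup G) := Nat.card_pos
      have : Nat.card (P : Subgroup G) * Nat.card (MonoidHom.transferSylow P h1).ker =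
        Nat.card (P : Subgroup G) * (P : Subgroup G).index := by
          rw [h5, ← h4, mul_comm]
      exact Nat.eq_of_mul_eq_mul_left hpos this
    rw [h6, Nat.coprime_comm, Nat.Prime.coprime_iff_not_dvd Nat.prime_two, hP]
    exact h.idx
  have h4 : (pPrimeCore 2 G).index ∣ (MonoidHom.transferSylow P h1).ker.index :=
    Subgroup.index_dvd_of_le h3
  have h5 : (MonoidHom.transferSylow P h1).ker.index = Nat.card (P : Subgroup G) := h2.symm.index_eq_card
  obtain ⟨k, hk⟩ := IsPGroup.iff_card.mp P.isPGroup'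
  rw [h5, hk] at h4
  obtain ⟨j, -, hj⟩ := (Nat.dvd_prime_pow Nat.prime_two).mp h4
  exact ⟨j, hj⟩

theorem Base.card_fact (h : Base S) : 2 ^ (Nat.card G).factorization 2 = Nat.card S := by
  haveI : Fact (Nat.Prime 2) := ⟨Nat.prime_two⟩
  obtain ⟨P, hP⟩ := h.exists_sylow
  rw [← hP, P.card_eq_multiplicity]

/-- value of the kernel at an involution whose centralizer is 2-nilpotent -/
theorem KB_self_np (hM : IsPModular 2 M) (h : Base S) {t : G} (ht : t ∈ S) {C : Subgroup G}
    (hC : C = Subgroup.centralizer ({t} : Set G)) (hSC : S ≤ C) (hnp : NP C) :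
    KB M t t = (Nat.card S : ℂ) := by
  haveI := Fact.mk hM.1
  obtain ⟨k, hk⟩ := hnp
  have h1 := H4.norm_sum_npc (M := M) hM hk (y := (1 : C)) ordOne
  rw [finsum_PBlk] at h1
  have h2 := KB_loc hM (ord_of_sq (h.sq t ht)) hC 1 1 ordOne ordOne
  rw [Subgroup.coe_one, mul_one] at h2
  rw [h2]
  have h3 : KB M (1 : C) 1 = ((∑ χ ∈ PBlk M C, ‖(χ : C → ℂ) 1‖ ^ 2 : ℝ) : ℂ) := by
    unfold KB
    push_cast
    refine Finset.sum_congr rfl fun χ _ => ?_
    rw [Complex.mul_conj, Complex.normSq_eq_norm_sq]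
    push_cast; rfl
  rw [h3, h1, (h.sub hSC).card_fact]
  have hcard : Nat.card S = Nat.card (S.subgroupOf C) := Nat.card_congr (eC hSC).toEquiv
  rw [← hcard]
  push_cast; rfl

end pass

end Cfsg.Agent.H70.PB
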