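import Cfsg.Agent.H70.PB4

set_option autoImplicit false
set_option linter.style.haveILetI false
set_option linter.unusedSimpArgs false
set_option linter.unusedSectionVars false
set_option linter.unusedVariables false

/-!
# The induction (for S4514)
-/

namespace Cfsg.Agent.H70.PB

open scoped BigOperators ComplexConjugate
open Cfsg Cfsg.Agent.CharBase Cfsg.Agent.Blk Cfsg.Agent.BlkC

universe u

section loc

variable {G : Type u} [Group G] [Finite G] {M : Ideal AlgInt} {S : Subgroup G}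

theorem central_mul (χ : IrrCharacter G) {z : G} (hz : z ∈ Subgroup.center G) (g : G) :
    (χ : G → ℂ) (z * g) * (χ : G → ℂ) 1 = (χ : G → ℂ) z * (χ : G → ℂ) g := by
  haveI := Fintype.ofFinite G
  have h := sum_conj_mul χ.2 g z
  have hc : ∀ x : G, x * z = z * x := fun x => Subgroup.mem_center_iff.mp hz x
  have h1 : ∀ x : G, (χ : G → ℂ) (g * (x * z * x⁻¹)) = (χ : G → ℂ) (z * g) := by
    intro x
    have : g * (x * z * x⁻¹) = z * g := by
      rw [hc x, mul_assoc z, mul_inv_cancel, mul_one, hc g]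
    rw [this]
  rw [Finset.sum_congr rfl fun x _ => h1 x, Finset.sum_const, Finset.card_univ, nsmul_eq_mul,
    ← Nat.card_eq_fintype_card] at h
  have h2 := irr_one_ne_zero χ.2
  have h3 := card_ne G
  have h4 : (χ : G → ℂ) (z * g) = (χ : G → ℂ) g * (χ : G → ℂ) z / (χ : G → ℂ) 1 := by
    apply mul_left_cancel₀ h3
    rw [h]; ring
  rw [h4]
  field_simp

theorem lin_sq (hsq : ∀ s ∈ S, s * s = 1) (l : S →* ℂˣ) (s : S) :
    ((l s : ℂˣ) : ℂ) * ((l s : ℂˣ) : ℂ) = 1 := by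
  have h1 : s * s = 1 := Subtype.ext (hsq s s.2)
  have h2 := congrArg l h1
  rw [map_mul, map_one] at h2
  rw [← Units.val_mul, h2, Units.val_one]

theorem lin_pm (hsq : ∀ s ∈ S, s * s = 1) (l : S →* ℂˣ) (s : S) :
    ((l s : ℂˣ) : ℂ) = 1 ∨ ((l s : ℂˣ) : ℂ) = -1 := mul_self_eq_one_iff.mp (lin_sq hsq l s)

theorem lin_conj (hsq : ∀ s ∈ S, s * s = 1) (l : S →* ℂˣ) (s : S) :
    conj ((l s : ℂˣ) : ℂ) = ((l s : ℂˣ) : ℂ) := by
  rcases lin_pm hsq l s with h | h <;> rw [h] <;> simp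

theorem eig_of_mu (h : Base S) {χ : IrrCharacter G} {l : S →* ℂˣ} (hmu : mu S χ l ≠ 0)
    (d : S) (hd : (d : G) ∈ Subgroup.center G) (g : G) :
    (χ : G → ℂ) ((d : G) * g) = ((l d : ℂˣ) : ℂ) * (χ : G → ℂ) g := by
  classical
  haveI := Fintype.ofFinite S
  have h2 := irr_one_ne_zero χ.2
  have h3 := card_ne S
  set T := ∑ s : S, (χ : G → ℂ) s * conj ((l s : ℂˣ) : ℂ) with hT
  have h4 : T ≠ 0 := by
    intro h0
    have h5 := mu_spec S χ l
    rw [← hT, h0, mul_zero] at h5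
    exact hmu (by exact_mod_cast h5)
  have h5 : T * (χ : G → ℂ) 1 = (χ : G → ℂ) d * ((l d : ℂˣ) : ℂ) * T := by
    have e : T = ∑ s : S, (χ : G → ℂ) ((d * s : S) : G) * conj ((l (d * s) : ℂˣ) : ℂ) := by
      rw [hT]
      exact (Equiv.sum_comp (Equiv.mulLeft d) (fun s : S => (χ : G → ℂ) s * conj ((l s : ℂˣ) : ℂ))).symm
    have e2 : T * (χ : G → ℂ) 1 = (∑ s : S, (χ : G → ℂ) ((d * s : S) : G) *
        conj ((l (d * s) : ℂˣ) : ℂ)) * (χ : G → ℂ) 1 := by rw [← e]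
    rw [e2, Finset.sum_mul, hT, Finset.mul_sum]
    refine Finset.sum_congr rfl fun s _ => ?_
    have h6 := central_mul χ hd (s : G)
    simp only [Subgroup.coe_mul, map_mul, Units.val_mul]
    rw [lin_conj h.sq l d]
    linear_combination (((l d : ℂˣ) : ℂ) * conj ((l s : ℂˣ) : ℂ)) * h6
  have h6 : (χ : G → ℂ) 1 = (χ : G → ℂ) d * ((l d : ℂˣ) : ℂ) := by
    apply mul_left_cancel₀ h4
    rw [h5]; ring
  have h7 : (χ : G → ℂ) d = ((l d : ℂˣ) : ℂ) * (χ : G → ℂ) 1 := by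
    rw [h6]
    linear_combination (-(χ : G → ℂ) d) * lin_sq h.sq l d
  apply mul_right_cancel₀ h2
  rw [central_mul χ hd g, h7]
  ring

theorem exists_lin (h : Base S) {s₀ : S} (hs₀ : (s₀ : G) ∉ Subgroup.center G) :
    ∃ l : S →* ℂˣ, l ≠ 1 ∧ ∀ s : S, (s : G) ∈ Subgroup.center G → l s = 1 := by
  classical
  letI : CommGroup S := { (inferInstance : Group S) with mul_comm := h.comm' }
  let D : Subgroup S := (Subgroup.center G).subgroupOf S
  haveI : Finite (S ⧸ D) := inferInstance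
  have hne : (QuotientGroup.mk s₀ : S ⧸ D) ≠ 1 := by
    intro h1
    exact hs₀ (Subgroup.mem_subgroupOf.mp ((QuotientGroup.eq_one_iff s₀).mp h1))
  obtain ⟨φ, hφ⟩ := CommGroup.exists_apply_ne_one_of_hasEnoughRootsOfUnity (S ⧸ D) ℂ hne
  refine ⟨φ.comp (QuotientGroup.mk' D), ?_, ?_⟩
  · intro h1
    apply hφ
    have := DFunLike.congr_fun h1 s₀
    exact this
  · intro s hs
    have h2 : (QuotientGroup.mk s : S ⧸ D) = 1 := (QuotientGroup.eq_one_iff s).mpr hs
    show φ (QuotientGroup.mk s) = 1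
    rw [h2, map_one]

/-- context -/
structure Ctx (M : Ideal AlgInt) {G : Type u} [Group G] [Finite G] (S : Subgroup G) : Prop
    extends Hyp M S where
  semi : ∀ s ∈ S, s ∉ Subgroup.center G → ∀ n ∈ Subgroup.normalizer (S : Set G),
    n * s = s * n → n ∈ S
  kb : ∀ s ∈ S, s ∉ Subgroup.center G → KB M s s = (Nat.card S : ℂ)

/-- linear characters trivial on the center -/
def InL (S : Subgroup G) (l : S →* ℂˣ) : Prop :=
  l ≠ 1 ∧ ∀ s : S, (s : G) ∈ Subgroup.center G → l s = 1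

theorem Base.odd_notMem (h : Base S) {x : G} (hx : ¬ 2 ∣ orderOf x) (hx1 : x ≠ 1) : x ∉ S := by
  intro hxS
  exact hx (by rw [ord_two (h.sq x hxS) hx1])

theorem sq_comm_of_odd {x u : G} (hx : ¬ 2 ∣ orderOf x) (h : Commute (x * x) u) : Commute x u := by
  have hodd : Odd (orderOf x) := Nat.odd_iff.mpr (by omega)
  obtain ⟨k, hk⟩ := hodd
  have h1 : (x * x) ^ (k + 1) = x := by
    rw [← pow_two, ← pow_mul, show 2 * (k + 1) = orderOf x + 1 by omega, pow_succ, pow_orderOf_eq_one,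
      one_mul]
  rw [← h1]
  exact h.pow_left _

theorem Ctx.L1 (h : Ctx M S) {x : G} (hx : x ∈ Subgroup.normalizer (S : Set G))
    (hx2 : ¬ 2 ∣ orderOf x) (hx1 : x ≠ 1) (s : S) :
    ∃ u d : S, (d : G) ∈ Subgroup.center G ∧ (s : G) * x = (d : G) * ((u : G)⁻¹ * x * u) ∧
      s = d * (u⁻¹ * cj S ⟨x, hx⟩ u) := by
  classical
  let φ : S →* S :=
    { toFun := fun u => u⁻¹ * cj S ⟨x, hx⟩ u
      map_one' := Subtype.ext (by simp [cj])
      map_mul' := fun a b => by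
        have h1 : cj S ⟨x, hx⟩ (a * b) = cj S ⟨x, hx⟩ a * cj S ⟨x, hx⟩ b := (cjHom S ⟨x, hx⟩).map_mul a b
        rw [h1, mul_inv_rev]
        have h2 := h.comm' b⁻¹ (a⁻¹ * cj S ⟨x, hx⟩ a)
        calc b⁻¹ * a⁻¹ * (cj S ⟨x, hx⟩ a * cj S ⟨x, hx⟩ b) =
            b⁻¹ * (a⁻¹ * cj S ⟨x, hx⟩ a) * cj S ⟨x, hx⟩ b := by group
          _ = (a⁻¹ * cj S ⟨x, hx⟩ a) * (b⁻¹ * cj S ⟨x, hx⟩ b) := by rw [h2]; group }
  have hφ : ∀ u : S, ((φ u : S) : G) = (u : G)⁻¹ * (x * u * x⁻¹) := fun u => rfl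
  have hker : ∀ u : S, u ∈ φ.ker → x * (u : G) = u * x := by
    intro u hu
    have h1 : ((φ u : S) : G) = 1 := by rw [MonoidHom.mem_ker.mp hu]; rfl
    rw [hφ, inv_mul_eq_one] at h1
    exact (mul_inv_eq_iff_eq_mul.mp h1.symm)
  have hcen : ∀ u : S, u ∈ φ.ker → (u : G) ∈ Subgroup.center G := by
    intro u hu
    by_contra hne
    exact h.odd_notMem hx2 hx1 (h.semi u u.2 hne x hx (hker u hu))
  have hdisj : Disjoint φ.ker φ.range := by
    rw [Subgroup.disjoint_def]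
    rintro v hv ⟨u, rfl⟩
    have h1 := hker _ hv
    have h2 : x * (u : G) * x⁻¹ = u * (φ u : G) := by rw [hφ]; group
    have h3 : (φ u : G) * (φ u : G) = 1 := h.sq _ (φ u).2
    have h4 : Commute (x * x) (u : G) := by
      show x * x * (u : G) = u * (x * x)
      calc x * x * (u : G) = x * (x * (u : G) * x⁻¹) * x := by group
        _ = x * (u * (φ u : G)) * x := by rw [h2]
        _ = (x * (u : G) * x⁻¹) * (x * (φ u : G)) * x := by group
        _ = (u * (φ u : G)) * ((φ u : G) * x) * x := by rw [h2, h1]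
        _ = u * ((φ u : G) * (φ u : G)) * (x * x) := by group
        _ = u * (x * x) := by rw [h3, mul_one]
    have h5 := sq_comm_of_odd hx2 h4
    apply Subtype.ext
    show ((φ u : S) : G) = 1
    rw [hφ, h5.eq, mul_inv_cancel_right, inv_mul_cancel]
  have hcard : Nat.card φ.ker * Nat.card φ.range = Nat.card S := by
    rw [← Subgroup.index_ker, Subgroup.card_mul_index]
  have hcomp := Subgroup.isComplement'_of_card_mul_and_disjoint hcard hdisj
  obtain ⟨⟨⟨d, hd⟩, ⟨v, ⟨u, rfl⟩⟩⟩, hs⟩ := hcomp.2 s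
  have hs' : d * φ u = s := hs
  refine ⟨u, d, hcen d hd, ?_, ?_⟩
  · rw [← hs', Subgroup.coe_mul, hφ]
    group
  · rw [← hs']; rfl

/-- the values on the cosets -/
theorem Ctx.L2 (h : Ctx M S) {χ : IrrCharacter G}
    (hχ : ∀ d : S, (d : G) ∈ Subgroup.center G → ∀ g : G, (χ : G → ℂ) ((d : G) * g) = (χ : G → ℂ) g)
    {x : G} (hx : x ∈ Subgroup.normalizer (S : Set G)) (hx2 : ¬ 2 ∣ orderOf x) (hx1 : x ≠ 1) (s : S) :
    (χ : G → ℂ) ((s : G) * x) = (χ : G → ℂ) x := by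
  obtain ⟨u, d, hd, h1, -⟩ := h.L1 hx hx2 hx1 s
  rw [h1, hχ d hd]
  have := irr_isClassFunction χ x (u : G)⁻¹
  rw [inv_inv] at this
  exact this

theorem Ctx.triv_of_mu_one (h : Ctx M S) {χ : IrrCharacter G} (hmu : mu S χ 1 ≠ 0) (d : S)
    (hd : (d : G) ∈ Subgroup.center G) (g : G) : (χ : G → ℂ) ((d : G) * g) = (χ : G → ℂ) g := by
  have := eig_of_mu h.toBase hmu d hd g
  rwa [MonoidHom.one_apply, Units.val_one, one_mul] at this

theorem Ctx.triv_of_mu (h : Ctx M S) {χ : IrrCharacter G} {l : S →* ℂˣ} (hl : InL S l)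
    (hmu : mu S χ l ≠ 0) (d : S) (hd : (d : G) ∈ Subgroup.center G) (g : G) :
    (χ : G → ℂ) ((d : G) * g) = (χ : G → ℂ) g := by
  have := eig_of_mu h.toBase hmu d hd g
  rwa [hl.2 d hd, Units.val_one, one_mul] at this

theorem cj_one_apply (s : S) : cj S 1 s = s := Subtype.ext (by simp [cj])

theorem cj_of_mem (h : Base S) {n : Subgroup.normalizer (S : Set G)} (hn : (n : G) ∈ S) (s : S) :
    cj S n s = s := Subtype.ext (by
  show (n : G) * s * (n : G)⁻¹ = s
  rw [h.comm hn s.2, mul_inv_cancel_right])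

theorem tw_of_mem (h : Base S) {n : Subgroup.normalizer (S : Set G)} (hn : (n : G) ∈ S)
    (l : S →* ℂˣ) : tw S n l = l := MonoidHom.ext fun s => by rw [tw_apply, cj_of_mem h hn]

/-- the stabilizer -/
theorem Ctx.stab (h : Ctx M S) {l : S →* ℂˣ} (hl : InL S l) (n : Subgroup.normalizer (S : Set G)) :
    tw S n l = l ↔ (n : G) ∈ S := by
  constructor
  · intro htw
    obtain ⟨s, hs, x, hx, hx2, hn, -⟩ := h.exists_decomp n.2
    by_cases hx1 : x = 1
    · rw [← hn, hx1, mul_one]; exact hs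
    · exfalso
      apply hl.1
      have h1 : ∀ u : S, l (cj S ⟨x, hx⟩ u) = l u := by
        intro u
        have h2 := DFunLike.congr_fun htw u
        rw [tw_apply] at h2
        have h3 : n = ⟨s, Subgroup.le_normalizer hs⟩ * ⟨x, hx⟩ := Subtype.ext hn.symm
        rw [h3, cj_mul, cj_of_mem h.toBase (n := ⟨s, Subgroup.le_normalizer hs⟩) hs] at h2
        exact h2
      ext s'
      obtain ⟨u, d, hd, -, h4⟩ := h.L1 hx hx2 hx1 s'
      rw [h4, map_mul, map_mul, map_inv, h1, hl.2 d hd, inv_mul_cancel, mul_one]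
      rfl
  · intro hn
    exact tw_of_mem h.toBase hn l

open Classical in
noncomputable def fA (M : Ideal AlgInt) (S : Subgroup G) (l : S →* ℂˣ) : Finset (IrrCharacter G) :=
  (PBlk M G).filter fun χ => mu S χ 1 = 1 ∧ mu S χ l = 0

open Classical in
noncomputable def fB (M : Ideal AlgInt) (S : Subgroup G) (l : S →* ℂˣ) : Finset (IrrCharacter G) :=
  (PBlk M G).filter fun χ => mu S χ 1 = 0 ∧ mu S χ l = 1

theorem mem_fA {l : S →* ℂˣ} {χ : IrrCharacter G} :
    χ ∈ fA M S l ↔ χ ∈ PBlk M G ∧ mu S χ 1 = 1 ∧ mu S χ l = 0 := Finset.mem_filter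

theorem mem_fB {l : S →* ℂˣ} {χ : IrrCharacter G} :
    χ ∈ fB M S l ↔ χ ∈ PBlk M G ∧ mu S χ 1 = 0 ∧ mu S χ l = 1 := Finset.mem_filter

theorem Hyp.mf' (h : Hyp M S) {χ : IrrCharacter G} (hχ : χ ∈ PBlk M G) (l : S →* ℂˣ) :
    mu S χ l = 0 ∨ mu S χ l = 1 := by
  have := h.mf χ (mem_PBlk.mp hχ) l
  omega

theorem one_mem_fA (hM : IsPModular 2 M) {l : S →* ℂˣ} (hl : l ≠ 1) : oneIrr G ∈ fA M S l := by
  haveI := isPrime_of_isPModular hM
  refine mem_fA.mpr ⟨mem_PBlk.mpr ?_, mu_one_oneIrr S, mu_oneIrr_ne S hl⟩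
  exact oneIrr_mem_principalBlock

/-- diagonal count -/
theorem Ctx.card_AB (hM : IsPModular 2 M) (h : Ctx M S) {l : S →* ℂˣ} (hl : InL S l) :
    Nat.card S * ((fA M S l).card + (fB M S l).card) =
      Nat.card (Subgroup.normalizer (S : Set G)) + Nat.card S := by
  classical
  haveI := Fintype.ofFinite S
  haveI := Fintype.ofFinite (Subgroup.normalizer (S : Set G))
  have hs : ∀ s : S, l s ≠ 1 → (s : G) ∉ Subgroup.center G := fun s hs hc => hs (hl.2 s hc)
  have h1 := h.toBase.sum_av hM hl.1 hl.1 (fun s hs' => h.semi s s.2 (hs s hs'))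
    (fun s hs' => h.kb s s.2 (hs s hs'))
  have h2 : (Finset.univ.filter fun n : Subgroup.normalizer (S : Set G) => tw S n l = l).card =
      Nat.card S := by
    rw [Nat.card_eq_fintype_card, ← Finset.card_univ]
    symm
    refine Finset.card_bij (fun u _ => (⟨u, Subgroup.le_normalizer u.2⟩ :
      Subgroup.normalizer (S : Set G))) ?_ ?_ ?_
    · intro u _
      exact Finset.mem_filter.mpr ⟨Finset.mem_univ _, (h.stab hl _).mpr u.2⟩
    · intro u _ v _ huv
      have := congrArg Subtype.val huv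
      exact Subtype.ext this
    · intro n hn
      exact ⟨⟨n, (h.stab hl n).mp (Finset.mem_filter.mp hn).2⟩, Finset.mem_univ _, rfl⟩
  have h3 : ∑ χ ∈ PBlk M G, av S χ l * av S χ l = (((fA M S l).card + (fB M S l).card : ℕ) : ℤ) := by
    have h4 : ∀ χ ∈ PBlk M G, av S χ l * av S χ l =
        (if mu S χ 1 = 1 ∧ mu S χ l = 0 then 1 else 0) + (if mu S χ 1 = 0 ∧ mu S χ l = 1 then 1 else 0) := by
      intro χ hχ
      unfold av
      rcases h.mf' hχ 1 with h5 | h5 <;> rcases h.mf' hχ l with h6 | h6 <;> rw [h5, h6] <;> simp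
    rw [Finset.sum_congr rfl h4, Finset.sum_add_distrib, ← Finset.sum_filter, ← Finset.sum_filter,
      Finset.sum_const, Finset.sum_const]
    push_cast
    simp only [nsmul_eq_mul, mul_one]
    unfold fA fB
    congr!
  rw [h3] at h1
  have h5 : (Finset.univ.filter fun n : Subgroup.normalizer (S : Set G) => tw S n l = l).card =
      Nat.card S := by rw [← h2]
  rw [h2] at h1
  exact_mod_cast h1

/-- equality of sums over `A` and `B` on odd order elements -/
theorem Ctx.sum_AB (hM : IsPModular 2 M) (h : Ctx M S) {l : S →* ℂˣ} {x : G}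
    (hx : ¬ 2 ∣ orderOf x) :
    ∑ χ ∈ fA M S l, (χ : G → ℂ) x = ∑ χ ∈ fB M S l, (χ : G → ℂ) x := by
  classical
  have h1 := Pl_reg hM h.sq l hx
  have h2 := Pl_reg hM h.sq 1 hx
  have h3 : Pl M S 1 x - Pl M S l x = 0 := by rw [h1, h2, sub_self]
  unfold Pl at h3
  rw [← Finset.sum_sub_distrib] at h3
  have h4 : ∀ χ ∈ PBlk M G, (mu S χ 1 : ℂ) * (χ : G → ℂ) x - (mu S χ l : ℂ) * (χ : G → ℂ) x =
      (if mu S χ 1 = 1 ∧ mu S χ l = 0 then (χ : G → ℂ) x else 0) -
        (if mu S χ 1 = 0 ∧ mu S χ l = 1 then (χ : G → ℂ) x else 0) := by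
    intro χ hχ
    rcases h.mf' hχ 1 with h5 | h5 <;> rcases h.mf' hχ l with h6 | h6 <;> rw [h5, h6] <;> simp
  rw [Finset.sum_congr rfl h4, Finset.sum_sub_distrib, ← Finset.sum_filter, ← Finset.sum_filter,
    sub_eq_zero] at h3
  unfold fA fB
  convert h3

end loc

end Cfsg.Agent.H70.PB
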