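import Cfsg.Agent.H70.PB5

set_option autoImplicit false
set_option linter.style.haveILetI false
set_option linter.unusedSimpArgs false
set_option linter.unusedSectionVars false
set_option linter.unusedVariables false

/-!
# The induction, second part (for S4514)
-/

namespace Cfsg.Agent.H70.PB

open scoped BigOperators ComplexConjugate
open Cfsg Cfsg.Agent.CharBase Cfsg.Agent.Blk Cfsg.Agent.BlkC

universe u

section fin

variable {G : Type u} [Group G] [Finite G] {M : Ideal AlgInt} {S : Subgroup G}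

/-- average over `S` as a function on the normalizer -/
noncomputable def ga (S : Subgroup G) (χ : IrrCharacter G) (n : Subgroup.normalizer (S : Set G)) : ℂ :=
  haveI := Fintype.ofFinite S
  (Nat.card S : ℂ)⁻¹ * ∑ s : S, (χ : G → ℂ) ((s : G) * n)

theorem ga_eq [Fintype S] (χ : IrrCharacter G) (n : Subgroup.normalizer (S : Set G)) :
    ga S χ n = (Nat.card S : ℂ)⁻¹ * ∑ s : S, (χ : G → ℂ) ((s : G) * n) := by
  unfold ga
  have : Fintype.ofFinite S = ‹Fintype S› := Subsingleton.elim _ _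
  rw [this]

theorem ga_char (χ : IrrCharacter G) : IsCharacter (Subgroup.normalizer (S : Set G)) (ga S χ) := by
  classical
  haveI := Fintype.ofFinite S
  haveI := Fintype.ofFinite (Subgroup.normalizer (S : Set G))
  haveI := Fintype.ofFinite (S.subgroupOf (Subgroup.normalizer (S : Set G)))
  have h1 : IsCharacter (Subgroup.normalizer (S : Set G))
      (fun n : Subgroup.normalizer (S : Set G) => (χ : G → ℂ) n) :=
    isCharacter_restrict (irr_isCharacter χ) _
  haveI hn : (S.subgroupOf (Subgroup.normalizer (S : Set G))).Normal := Subgroup.normal_in_normalizer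
  have h2 := Char.avgN_isCharacter (S.subgroupOf (Subgroup.normalizer (S : Set G))) h1
  have h3 : Char.avgN (S.subgroupOf (Subgroup.normalizer (S : Set G)))
      (fun n : Subgroup.normalizer (S : Set G) => (χ : G → ℂ) n) = ga S χ := by
    funext n
    have hcard : Nat.card S = Nat.card (S.subgroupOf (Subgroup.normalizer (S : Set G))) :=
      Nat.card_congr (eC Subgroup.le_normalizer).toEquiv
    rw [ga_eq, Char.avgN_apply, ← hcard]
    congr 1
    symm
    refine Fintype.sum_equiv (eC (Subgroup.le_normalizer (H := S))).toEquiv _ _ fun s => ?_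
    show _ = (χ : G → ℂ) (((((eC (Subgroup.le_normalizer (H := S)) s :
      S.subgroupOf (Subgroup.normalizer (S : Set G))) : Subgroup.normalizer (S : Set G)) * n :
        Subgroup.normalizer (S : Set G))) : G)
    rw [Subgroup.coe_mul, eC_coe]
  rwa [h3] at h2

theorem ga_one (χ : IrrCharacter G) : ga S χ 1 = (mu S χ 1 : ℂ) := by
  haveI := Fintype.ofFinite S
  rw [ga_eq, mu_spec]
  congr 1
  exact Finset.sum_congr rfl fun s _ => by simp

theorem ga_mul (χ : IrrCharacter G) (s : S) (n n' : Subgroup.normalizer (S : Set G))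
    (h : (n' : G) = (s : G) * n) : ga S χ n' = ga S χ n := by
  haveI := Fintype.ofFinite S
  rw [ga_eq, ga_eq]
  congr 1
  refine Fintype.sum_equiv (Equiv.mulRight s) _ _ fun t => ?_
  rw [h]
  simp [mul_assoc]

theorem ga_odd {χ : IrrCharacter G} {x : G} (hx : x ∈ Subgroup.normalizer (S : Set G))
    (h : ∀ s : S, (χ : G → ℂ) ((s : G) * x) = (χ : G → ℂ) x) : ga S χ ⟨x, hx⟩ = (χ : G → ℂ) x := by
  haveI := Fintype.ofFinite S
  rw [ga_eq, Finset.sum_congr rfl fun s _ => h s, Finset.sum_const, Finset.card_univ, nsmul_eq_mul,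
    ← Nat.card_eq_fintype_card, ← mul_assoc, inv_mul_cancel₀ (card_ne S), one_mul]

theorem Ctx.B_zero (h : Ctx M S) {l : S →* ℂˣ} (hl : InL S l) {χ : IrrCharacter G}
    (hχ : χ ∈ fB M S l) {x : G} (hx : x ∈ Subgroup.normalizer (S : Set G)) (hx2 : ¬ 2 ∣ orderOf x)
    (hx1 : x ≠ 1) : (χ : G → ℂ) x = 0 := by
  obtain ⟨h1, h2, h3⟩ := mem_fB.mp hχ
  have h4 := Char.eq_zero_of_degree_zero (ga_char (S := S) χ) (by rw [ga_one, h2, Nat.cast_zero])
  have h5 := h.L2 (h.triv_of_mu hl (by rw [h3]; exact one_ne_zero)) hx hx2 hx1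
  rw [← ga_odd hx h5, h4]
  rfl

theorem exists_kk (S : Subgroup G) [Fintype (Subgroup.normalizer (S : Set G))] (χ : IrrCharacter G) :
    ∃ k : ℕ, ∑ n : Subgroup.normalizer (S : Set G), ga S χ n =
      (Nat.card (Subgroup.normalizer (S : Set G)) : ℂ) * k := by
  obtain ⟨k, hk⟩ := classInner_natCast (ga_char (S := S) χ)
    (Char.isCharacter_one (G := Subgroup.normalizer (S : Set G)))
  refine ⟨k, ?_⟩
  rw [← hk]
  unfold classInner
  rw [← mul_assoc, mul_inv_cancel₀ (card_ne _), one_mul]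
  exact Finset.sum_congr rfl fun n _ => by simp

/-- multiplicity of the trivial character of the normalizer -/
noncomputable def kk (S : Subgroup G) (χ : IrrCharacter G) : ℕ :=
  haveI := Fintype.ofFinite (Subgroup.normalizer (S : Set G))
  (exists_kk S χ).choose

theorem kk_spec (S : Subgroup G) [Fintype (Subgroup.normalizer (S : Set G))] (χ : IrrCharacter G) :
    ∑ n : Subgroup.normalizer (S : Set G), ga S χ n =
      (Nat.card (Subgroup.normalizer (S : Set G)) : ℂ) * kk S χ := by
  have : ‹Fintype (Subgroup.normalizer (S : Set G))› =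
    Fintype.ofFinite (Subgroup.normalizer (S : Set G)) := Subsingleton.elim _ _
  subst this
  exact (@exists_kk G _ _ S (Fintype.ofFinite (Subgroup.normalizer (S : Set G))) χ).choose_spec

theorem kk_eq_one {χ : IrrCharacter G} (h : ∀ n, ga S χ n = 1) : kk S χ = 1 := by
  haveI := Fintype.ofFinite (Subgroup.normalizer (S : Set G))
  have h1 := kk_spec S χ
  rw [Finset.sum_congr rfl fun n _ => h n, Finset.sum_const, Finset.card_univ, nsmul_eq_mul,
    ← Nat.card_eq_fintype_card] at h1
  have h2 := mul_left_cancel₀ (card_ne _) h1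
  exact_mod_cast h2.symm

theorem kk_oneIrr : kk S (oneIrr G) = 1 := by
  haveI := Fintype.ofFinite S
  refine kk_eq_one fun n => ?_
  rw [ga_eq]
  simp only [oneIrr_apply, Finset.sum_const, Finset.card_univ, nsmul_eq_mul, mul_one]
  rw [← Nat.card_eq_fintype_card, inv_mul_cancel₀ (card_ne S)]

theorem Ctx.sum_ga (hM : IsPModular 2 M) (h : Ctx M S) {l : S →* ℂˣ} (hl : InL S l)
    (n : Subgroup.normalizer (S : Set G)) [Decidable ((n : G) ∈ S)] :
    ∑ χ ∈ fA M S l, ga S χ n = if (n : G) ∈ S then ((fA M S l).card : ℂ) else 0 := by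
  obtain ⟨s, hs, x, hx, hx2, hn, -⟩ := h.exists_decomp n.2
  have h1 : ∀ χ : IrrCharacter G, ga S χ n = ga S χ ⟨x, hx⟩ := fun χ =>
    ga_mul χ ⟨s, hs⟩ ⟨x, hx⟩ n hn.symm
  rw [Finset.sum_congr rfl fun χ _ => h1 χ]
  by_cases hx1 : x = 1
  · subst hx1
    rw [mul_one] at hn
    rw [if_pos (hn ▸ hs)]
    have h2 : ∀ χ ∈ fA M S l, ga S χ ⟨1, hx⟩ = 1 := by
      intro χ hχ
      have h3 : (⟨1, hx⟩ : Subgroup.normalizer (S : Set G)) = 1 := rfl
      rw [h3, ga_one, (mem_fA.mp hχ).2.1, Nat.cast_one]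
    rw [Finset.sum_congr rfl h2, Finset.sum_const, nsmul_eq_mul, mul_one]
  · have h2 : (n : G) ∉ S := by
      intro hnS
      rw [← hn] at hnS
      exact h.odd_notMem hx2 hx1 ((Subgroup.mul_mem_cancel_left S hs).mp hnS)
    rw [if_neg h2]
    have h3 : ∀ χ ∈ fA M S l, ga S χ ⟨x, hx⟩ = (χ : G → ℂ) x := by
      intro χ hχ
      exact ga_odd hx (h.L2 (h.triv_of_mu_one (by rw [(mem_fA.mp hχ).2.1]; exact one_ne_zero))
        hx hx2 hx1)
    rw [Finset.sum_congr rfl h3, h.sum_AB hM hx2]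
    exact Finset.sum_eq_zero fun χ hχ => h.B_zero hl hχ hx hx2 hx1

theorem Ctx.card_A (hM : IsPModular 2 M) (h : Ctx M S) {l : S →* ℂˣ} (hl : InL S l) :
    Nat.card S * (fA M S l).card =
      Nat.card (Subgroup.normalizer (S : Set G)) * ∑ χ ∈ fA M S l, kk S χ := by
  classical
  haveI := Fintype.ofFinite S
  haveI := Fintype.ofFinite (Subgroup.normalizer (S : Set G))
  have h1 : ∑ n : Subgroup.normalizer (S : Set G), ∑ χ ∈ fA M S l, ga S χ n =
      (Nat.card S : ℂ) * (fA M S l).card := by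
    rw [Finset.sum_congr rfl fun n _ => h.sum_ga hM hl n, ← Finset.sum_filter, Finset.sum_const,
      nsmul_eq_mul]
    congr 1
    rw [Nat.card_eq_fintype_card, ← Finset.card_univ]
    norm_cast
    symm
    refine Finset.card_bij (fun u _ => (⟨u, Subgroup.le_normalizer u.2⟩ :
      Subgroup.normalizer (S : Set G))) ?_ ?_ ?_
    · intro u _
      exact Finset.mem_filter.mpr ⟨Finset.mem_univ _, u.2⟩
    · intro u _ v _ huv
      have := congrArg Subtype.val huv
      exact Subtype.ext this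
    · intro n hn
      exact ⟨⟨n, (Finset.mem_filter.mp hn).2⟩, Finset.mem_univ _, rfl⟩
  rw [Finset.sum_comm, Finset.sum_congr rfl fun χ _ => kk_spec S χ, ← Finset.mul_sum] at h1
  have h2 : ((Nat.card S * (fA M S l).card : ℕ) : ℂ) =
      ((Nat.card (Subgroup.normalizer (S : Set G)) * ∑ χ ∈ fA M S l, kk S χ : ℕ) : ℂ) := by
    push_cast
    exact h1.symm
  exact_mod_cast h2

theorem Ctx.B_nonempty (hM : IsPModular 2 M) (h : Ctx M S) {l : S →* ℂˣ} (hl : InL S l) :
    (fB M S l).Nonempty := by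
  classical
  by_contra hne
  rw [Finset.not_nonempty_iff_eq_empty] at hne
  have h1 := h.sum_AB hM (l := l) (ordOne (G := G))
  rw [hne, Finset.sum_empty] at h1
  have h2 : ((∑ χ ∈ fA M S l, charDegree (χ : G → ℂ) : ℕ) : ℂ) = 0 := by
    push_cast
    rw [← h1]
    exact Finset.sum_congr rfl fun χ _ => (charDegree_spec χ).symm
  have h3 : ∑ χ ∈ fA M S l, charDegree (χ : G → ℂ) = 0 := by exact_mod_cast h2
  have h4 := Finset.sum_eq_zero_iff.mp h3 _ (one_mem_fA hM hl.1)
  have h5 := charDegree_spec (oneIrr G)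
  rw [h4, oneIrr_apply] at h5
  simp at h5

/-- the exact values -/
theorem Ctx.counts (hM : IsPModular 2 M) (h : Ctx M S) {l : S →* ℂˣ} (hl : InL S l) :
    Nat.card S * (fA M S l).card = Nat.card (Subgroup.normalizer (S : Set G)) ∧
      (fB M S l).card = 1 ∧ ∀ χ ∈ fA M S l, kk S χ ≠ 0 → χ = oneIrr G := by
  classical
  have h1 := h.card_AB hM hl
  have h2 := h.card_A hM hl
  have h3 := (h.B_nonempty hM hl).card_pos
  have h4 : kk S (oneIrr G) ≤ ∑ χ ∈ fA M S l, kk S χ :=
    Finset.single_le_sum (f := kk S) (fun _ _ => Nat.zero_le _) (one_mem_fA hM hl.1)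
  rw [kk_oneIrr] at h4
  have hS : 0 < Nat.card S := Nat.card_pos
  have hN : 0 < Nat.card (Subgroup.normalizer (S : Set G)) := Nat.card_pos
  set a := (fA M S l).card
  set b := (fB M S l).card
  set K := ∑ χ ∈ fA M S l, kk S χ with hK
  set n := Nat.card (Subgroup.normalizer (S : Set G))
  set q := Nat.card S
  have h5 : q * a = n := by
    apply le_antisymm
    · nlinarith
    · rw [h2]; nlinarith
  have h6 : b = 1 := by
    have : q * b = q * 1 := by
      have := h1
      rw [mul_add, h5] at this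
      omega
    exact Nat.eq_of_mul_eq_mul_left hS this
  have h7 : K = 1 := by
    have : n * K = n * 1 := by rw [← h2, h5, mul_one]
    exact Nat.eq_of_mul_eq_mul_left hN this
  refine ⟨h5, h6, ?_⟩
  intro χ hχ hk
  by_contra hne
  have h8 : kk S χ + kk S (oneIrr G) ≤ K := by
    rw [hK, ← Finset.sum_pair hne]
    refine Finset.sum_le_sum_of_subset fun y hy => ?_
    rcases Finset.mem_insert.mp hy with rfl | hy
    · exact hχ
    · rw [Finset.mem_singleton.mp hy]
      exact one_mem_fA hM hl.1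
  rw [kk_oneIrr, h7] at h8
  omega

/-- a real number with an odd power equal to one -/
theorem real_odd_pow {z : ℂ} (hz : conj z = z) {m : ℕ} (hm : Odd m) (h : z ^ m = 1) : z = 1 := by
  obtain ⟨r, rfl⟩ := Complex.conj_eq_iff_real.mp hz
  have h1 : r ^ m = 1 := by exact_mod_cast h
  have h2 : r = 1 := by
    apply (hm.strictMono_pow (R := ℝ)).injective
    show r ^ m = 1 ^ m
    rw [h1, one_pow]
  rw [h2]; rfl

theorem Ctx.kk_real (h : Ctx M S) {l : S →* ℂˣ} {χ : IrrCharacter G} (hχ : χ ∈ fA M S l)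
    (hr : ∀ g, conj ((χ : G → ℂ) g) = (χ : G → ℂ) g) : kk S χ = 1 := by
  haveI := Fintype.ofFinite S
  have hg1 : ga S χ 1 = 1 := by rw [ga_one, (mem_fA.mp hχ).2.1, Nat.cast_one]
  have hch := ga_char (S := S) χ
  refine kk_eq_one fun n => ?_
  obtain ⟨s, hs, x, hx, hx2, hn, -⟩ := h.exists_decomp n.2
  rw [ga_mul χ ⟨s, hs⟩ ⟨x, hx⟩ n hn.symm]
  have h1 : (Char.linHom hch hg1 ⟨x, hx⟩) ^ orderOf x = 1 := by
    rw [← map_pow]
    have : (⟨x, hx⟩ : Subgroup.normalizer (S : Set G)) ^ orderOf x = 1 :=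
      Subtype.ext (by simp [pow_orderOf_eq_one])
    rw [this, map_one]
  refine real_odd_pow ?_ (Nat.odd_iff.mpr (by omega)) h1
  show conj (ga S χ ⟨x, hx⟩) = ga S χ ⟨x, hx⟩
  rw [ga_eq, map_mul, map_inv₀, Complex.conj_natCast, map_sum]
  congr 1
  exact Finset.sum_congr rfl fun t _ => hr _

end fin

end Cfsg.Agent.H70.PB
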