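import Cfsg.Agent.H70.PB6

set_option autoImplicit false
set_option linter.style.haveILetI false
set_option linter.unusedSimpArgs false
set_option linter.unusedSectionVars false
set_option linter.unusedVariables false

/-!
# The induction, third part (for S4514)
-/

namespace Cfsg.Agent.H70.PB

open scoped BigOperators ComplexConjugate
open Cfsg Cfsg.Agent.CharBase Cfsg.Agent.Blk Cfsg.Agent.BlkC

universe u

section third

variable {G : Type u} [Group G] [Finite G] {M : Ideal AlgInt} {S : Subgroup G}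

theorem mu_tw (χ : IrrCharacter G) (l : S →* ℂˣ) (n : Subgroup.normalizer (S : Set G)) :
    mu S χ (tw S n l) = mu S χ l := by
  haveI := Fintype.ofFinite S
  have h : (mu S χ (tw S n l) : ℂ) = (mu S χ l : ℂ) := by
    rw [mu_spec, mu_spec]
    congr 1
    have hbij : Function.Bijective (cj S n) := by
      constructor
      · intro a b hab
        have h1 := congrArg (cj S n⁻¹) hab
        rwa [← cj_mul, ← cj_mul, inv_mul_cancel, cj_one_apply, cj_one_apply] at h1
      · intro b
        exact ⟨cj S n⁻¹ b, by rw [← cj_mul, mul_inv_cancel, cj_one_apply]⟩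
    refine Fintype.sum_bijective (cj S n) hbij _ _ fun s => ?_
    rw [tw_apply]
    congr 1
    exact (irr_isClassFunction χ (s : G) (n : G)).symm
  exact_mod_cast h

theorem mu_conj (hsq : ∀ s ∈ S, s * s = 1) (χ : IrrCharacter G) (l : S →* ℂˣ) :
    mu S (H76.conjIrr χ) l = mu S χ l := by
  haveI := Fintype.ofFinite S
  have h : (mu S (H76.conjIrr χ) l : ℂ) = (mu S χ l : ℂ) := by
    rw [mu_spec, mu_spec]
    congr 1
    refine Finset.sum_congr rfl fun s _ => ?_
    rw [H76.conjIrr_apply, real_of_sq χ (hsq s s.2)]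
  exact_mod_cast h

theorem conj_mem_PBlk {χ : IrrCharacter G} (h : χ ∈ PBlk M G) : H76.conjIrr χ ∈ PBlk M G :=
  mem_PBlk.mpr (H76.conj_mem_principalBlock (mem_PBlk.mp h))

theorem conj_mem_fA (hsq : ∀ s ∈ S, s * s = 1) {l : S →* ℂˣ} {χ : IrrCharacter G}
    (h : χ ∈ fA M S l) : H76.conjIrr χ ∈ fA M S l := by
  obtain ⟨h1, h2, h3⟩ := mem_fA.mp h
  exact mem_fA.mpr ⟨conj_mem_PBlk h1, by rw [mu_conj hsq, h2], by rw [mu_conj hsq, h3]⟩

theorem conj_mem_fA_iff (hsq : ∀ s ∈ S, s * s = 1) {l : S →* ℂˣ} {χ : IrrCharacter G} :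
    H76.conjIrr χ ∈ fA M S l ↔ χ ∈ fA M S l := by
  constructor
  · intro h
    have := conj_mem_fA hsq h
    rwa [H76.conjIrr_conjIrr] at this
  · exact conj_mem_fA hsq

theorem Ctx.L6 (hM : IsPModular 2 M) (h : Ctx M S) {l l' : S →* ℂˣ} (hl : InL S l)
    (hl' : InL S l') : fA M S l = fA M S l' := by
  classical
  haveI := Fintype.ofFinite S
  haveI := Fintype.ofFinite (Subgroup.normalizer (S : Set G))
  by_cases htw : ∃ n : Subgroup.normalizer (S : Set G), tw S n l' = l
  · obtain ⟨n, hn⟩ := htw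
    ext χ
    rw [mem_fA, mem_fA, ← hn, mu_tw]
  obtain ⟨hc1, hb1, hk1⟩ := h.counts hM hl
  obtain ⟨hc2, hb2, hk2⟩ := h.counts hM hl'
  have hS : 0 < Nat.card S := Nat.card_pos
  have hcard : (fA M S l).card = (fA M S l').card :=
    Nat.eq_of_mul_eq_mul_left hS (hc1.trans hc2.symm)
  have hs : ∀ s : S, l s ≠ 1 → (s : G) ∉ Subgroup.center G := fun s hs hc => hs (hl.2 s hc)
  have h1 := h.toBase.sum_av hM hl.1 hl'.1 (fun s hs' => h.semi s s.2 (hs s hs'))
    (fun s hs' => h.kb s s.2 (hs s hs'))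
  have h2 : (Finset.univ.filter fun n : Subgroup.normalizer (S : Set G) => tw S n l' = l).card = 0 := by
    rw [Finset.card_eq_zero]
    exact Finset.filter_false_of_mem fun n _ hn => htw ⟨n, hn⟩
  have h3 : ∑ χ ∈ PBlk M G, av S χ l * av S χ l' =
      (((fA M S l ∩ fA M S l').card + (fB M S l ∩ fB M S l').card : ℕ) : ℤ) := by
    have h4 : ∀ χ ∈ PBlk M G, av S χ l * av S χ l' =
        (if χ ∈ fA M S l ∩ fA M S l' then 1 else 0) + (if χ ∈ fB M S l ∩ fB M S l' then 1 else 0) := by
      intro χ hχ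
      simp only [Finset.mem_inter, mem_fA, mem_fB]
      unfold av
      rcases h.mf' hχ 1 with h5 | h5 <;> rcases h.mf' hχ l with h6 | h6 <;>
        rcases h.mf' hχ l' with h7 | h7 <;> rw [h5, h6, h7] <;> simp [hχ]
    rw [Finset.sum_congr rfl h4, Finset.sum_add_distrib, ← Finset.sum_filter, ← Finset.sum_filter,
      Finset.sum_const, Finset.sum_const]
    have e1 : (PBlk M G).filter (fun χ => χ ∈ fA M S l ∩ fA M S l') = fA M S l ∩ fA M S l' := by
      ext χ
      simp only [Finset.mem_filter, Finset.mem_inter, mem_fA]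
      tauto
    have e2 : (PBlk M G).filter (fun χ => χ ∈ fB M S l ∩ fB M S l') = fB M S l ∩ fB M S l' := by
      ext χ
      simp only [Finset.mem_filter, Finset.mem_inter, mem_fB]
      tauto
    rw [e1, e2]
    push_cast
    simp
  rw [h3, h2, Nat.cast_zero, add_zero] at h1
  have h5 : Nat.card S * ((fA M S l ∩ fA M S l').card + (fB M S l ∩ fB M S l').card) =
      Nat.card (Subgroup.normalizer (S : Set G)) := by exact_mod_cast h1
  have h6 : (fA M S l ∩ fA M S l').card + (fB M S l ∩ fB M S l').card = (fA M S l).card :=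
    Nat.eq_of_mul_eq_mul_left hS (h5.trans hc1.symm)
  have h7 : (fB M S l ∩ fB M S l').card ≤ 1 := by
    rw [← hb1]
    exact Finset.card_le_card Finset.inter_subset_left
  have h8 : (fA M S l \ fA M S l').card + (fA M S l ∩ fA M S l').card = (fA M S l).card :=
    Finset.card_sdiff_add_card_inter _ _
  have h9 : (fA M S l \ fA M S l').card ≤ 1 := by omega
  rcases Nat.le_one_iff_eq_zero_or_eq_one.mp h9 with h10 | h10
  · have h11 : fA M S l ⊆ fA M S l' := Finset.sdiff_eq_empty_iff_subset.mp (Finset.card_eq_zero.mp h10)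
    exact Finset.eq_of_subset_of_card_le h11 hcard.ge
  · exfalso
    obtain ⟨χ, hχ⟩ := Finset.card_eq_one.mp h10
    have h11 : χ ∈ fA M S l \ fA M S l' := by rw [hχ]; exact Finset.mem_singleton_self _
    have h12 : H76.conjIrr χ ∈ fA M S l \ fA M S l' := by
      rw [Finset.mem_sdiff, conj_mem_fA_iff h.sq, conj_mem_fA_iff h.sq, ← Finset.mem_sdiff]
      exact h11
    rw [hχ, Finset.mem_singleton] at h12
    have h13 : ∀ g, conj ((χ : G → ℂ) g) = (χ : G → ℂ) g := by
      intro g
      rw [← H76.conjIrr_apply, h12]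
    rw [Finset.mem_sdiff] at h11
    have h14 := h.kk_real h11.1 h13
    have h15 := hk1 χ h11.1 (by rw [h14]; exact one_ne_zero)
    exact h11.2 (h15 ▸ one_mem_fA hM hl'.1)

/-- nonvanishing of the values of the characters of the principal block -/
theorem Base.val_ne_zero (hM : IsPModular 2 M) (h : Base S) {χ : IrrCharacter G} (hχ : χ ∈ PBlk M G)
    {s : G} (hs : s ∈ S) : (χ : G → ℂ) s ≠ 0 := by
  haveI := isPrime_of_isPModular hM
  intro h0
  have h1 := mem_PBlk.mp hχ s
  unfold centralChar at h1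
  rw [h0] at h1
  simp only [mul_zero, zero_div, sub_zero, mul_one, div_one] at h1
  rw [mli_natCast_iff hM] at h1
  have h5 : S ≤ Subgroup.centralizer ({s} : Set G) := fun t ht =>
    Subgroup.mem_centralizer_singleton_iff.mpr (h.comm ht hs)
  exact h.idx (h1.trans (Subgroup.index_dvd_of_le h5))

theorem exists_lin' (h : Base S) {s₀ : S} (hs₀ : (s₀ : G) ∉ Subgroup.center G) :
    ∃ l : S →* ℂˣ, l s₀ ≠ 1 ∧ ∀ s : S, (s : G) ∈ Subgroup.center G → l s = 1 := by
  classical
  letI : CommGroup S := { (inferInstance : Group S) with mul_comm := h.comm' }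
  let D : Subgroup S := (Subgroup.center G).subgroupOf S
  haveI : Finite (S ⧸ D) := inferInstance
  have hne : (QuotientGroup.mk s₀ : S ⧸ D) ≠ 1 := by
    intro h1
    exact hs₀ (Subgroup.mem_subgroupOf.mp ((QuotientGroup.eq_one_iff s₀).mp h1))
  obtain ⟨φ, hφ⟩ := CommGroup.exists_apply_ne_one_of_hasEnoughRootsOfUnity (S ⧸ D) ℂ hne
  refine ⟨φ.comp (QuotientGroup.mk' D), hφ, ?_⟩
  · intro s hs
    have h2 : (QuotientGroup.mk s : S ⧸ D) = 1 := (QuotientGroup.eq_one_iff s).mpr hs
    show φ (QuotientGroup.mk s) = 1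
    rw [h2, map_one]

theorem Ctx.L7 (hM : IsPModular 2 M) (h : Ctx M S) {l : S →* ℂˣ} (hl : InL S l)
    {χ : IrrCharacter G} (hχ : χ ∈ PBlk M G) (hmu : mu S χ 1 ≠ 0) : χ ∈ fA M S l := by
  classical
  haveI := Fintype.ofFinite S
  haveI := finite_hom S
  haveI := Fintype.ofFinite (S →* ℂˣ)
  by_contra hne
  have h1 : mu S χ 1 = 1 := (h.mf' hχ 1).resolve_left hmu
  have h2 : ∀ l' : S →* ℂˣ, InL S l' → mu S χ l' = 1 := by
    intro l' hl'
    refine (h.mf' hχ l').resolve_left fun h0 => hne ?_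
    rw [h.L6 hM hl hl']
    exact mem_fA.mpr ⟨hχ, h1, h0⟩
  have h3 : ∀ l' : S →* ℂˣ, mu S χ l' =
      if ∀ s : S, (s : G) ∈ Subgroup.center G → l' s = 1 then 1 else 0 := by
    intro l'
    split_ifs with hc
    · by_cases h4 : l' = 1
      · rw [h4, h1]
      · exact h2 l' ⟨h4, hc⟩
    · refine (h.mf' hχ l').resolve_right fun h5 => hc fun s hs => ?_
      have h6 := eig_of_mu h.toBase (by rw [h5]; exact one_ne_zero) s hs 1
      rw [h.triv_of_mu_one hmu s hs 1] at h6
      have h7 := irr_one_ne_zero χ.2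
      have h8 : ((l' s : ℂˣ) : ℂ) = 1 := by
        apply mul_right_cancel₀ h7
        rw [← h6, one_mul]
      exact Units.ext h8
  obtain ⟨s₀, hs₀⟩ : ∃ s : S, l s ≠ 1 := by
    by_contra hcon
    push Not at hcon
    exact hl.1 (MonoidHom.ext hcon)
  have hres := res_sum S h.comm' χ s₀
  have h9 : ∑ l' : S →* ℂˣ, (mu S χ l' : ℂ) * ((l' s₀ : ℂˣ) : ℂ) =
      ((l s₀ : ℂˣ) : ℂ) * ∑ l' : S →* ℂˣ, (mu S χ l' : ℂ) * ((l' s₀ : ℂˣ) : ℂ) := by
    have e := Equiv.sum_comp (Equiv.mulLeft l)
      (fun l' : S →* ℂˣ => (mu S χ l' : ℂ) * ((l' s₀ : ℂˣ) : ℂ))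
    rw [Finset.mul_sum]
    refine e.symm.trans (Finset.sum_congr rfl fun l' _ => ?_)
    have h10 : mu S χ (l * l') = mu S χ l' := by
      rw [h3, h3]
      congr 1
      apply propext
      refine forall_congr' fun s => forall_congr' fun hs => ?_
      rw [MonoidHom.mul_apply, hl.2 s hs, one_mul]
    show (mu S χ (l * l') : ℂ) * (((l * l') s₀ : ℂˣ) : ℂ) = _
    rw [h10, MonoidHom.mul_apply, Units.val_mul]
    ring
  rw [← hres] at h9
  have h10 := h.toBase.val_ne_zero hM hχ s₀.2
  apply hs₀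
  apply Units.ext
  apply mul_right_cancel₀ h10
  rw [← h9, Units.val_one, one_mul]

theorem Ctx.false_of (hM : IsPModular 2 M) (h : Ctx M S) {x : G}
    (hx : x ∈ Subgroup.normalizer (S : Set G)) (hx2 : ¬ 2 ∣ orderOf x) (hx1 : x ≠ 1) : False := by
  classical
  haveI := isPrime_of_isPModular hM
  -- a noncentral element
  obtain ⟨s₀, hs₀, hc⟩ : ∃ s ∈ S, s ∉ Subgroup.center G := by
    by_contra hcon
    push Not at hcon
    exact hx1 (h.mem_of_odd_cent hx2 fun s hs => Subgroup.mem_center_iff.mp (hcon s hs) x)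
  obtain ⟨l, hl⟩ := exists_lin h.toBase (s₀ := ⟨s₀, hs₀⟩) hc
  have hl' : InL S l := hl
  have h1 : Pl M S 1 x = ∑ χ ∈ fA M S l, (χ : G → ℂ) x := by
    unfold Pl
    have h2 : ∀ χ ∈ PBlk M G, (mu S χ 1 : ℂ) * (χ : G → ℂ) x =
        if mu S χ 1 = 1 ∧ mu S χ l = 0 then (χ : G → ℂ) x else 0 := by
      intro χ hχ
      rcases h.mf' hχ 1 with h5 | h5
      · rw [h5]; simp
      · have h6 := (mem_fA.mp (h.L7 hM hl' hχ (by rw [h5]; exact one_ne_zero))).2.2
        rw [h5, h6]; simp
    rw [Finset.sum_congr rfl h2, ← Finset.sum_filter]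
    unfold fA
    congr!
  have h3 := h.par x hx2
  rw [h1, h.sum_AB hM hx2, Finset.sum_eq_zero fun χ hχ => h.B_zero hl' hχ hx hx2 hx1] at h3
  have h4 : MemLocalIdeal M (((-1 : ℤ)) : ℂ) := by
    push_cast
    rwa [zero_sub] at h3
  rw [mli_intCast_iff hM] at h4
  omega

end third

theorem Hyp.np_aux {M : Ideal AlgInt} (hM : IsPModular 2 M) (n : ℕ) :
    ∀ (G : Type u) [Group G] [Finite G] (S : Subgroup G), Nat.card G = n → Hyp M S → NP G := by
  induction n using Nat.strong_induction_on with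
  | _ n ih =>
    intro G _ _ S hn h
    by_contra hnp
    have h1 : ¬ ∀ m ∈ Subgroup.normalizer (S : Set G), m ∈ S := fun hN => hnp (h.np_of_norm hN)
    push Not at h1
    obtain ⟨m, hm, hmS⟩ := h1
    obtain ⟨s, hs, x, hx, hx2, hmx, -⟩ := h.exists_decomp hm
    have hx1 : x ≠ 1 := by
      rintro rfl
      rw [mul_one] at hmx
      exact hmS (hmx ▸ hs)
    have key : ∀ t ∈ S, t ∉ Subgroup.center G → ∃ C : Subgroup G,
        C = Subgroup.centralizer ({t} : Set G) ∧ S ≤ C ∧ NP C := by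
      intro t ht htc
      have hSC : S ≤ Subgroup.centralizer ({t} : Set G) := fun s hs =>
        Subgroup.mem_centralizer_singleton_iff.mpr (h.comm hs ht)
      refine ⟨_, rfl, hSC, ?_⟩
      have hlt : Nat.card (Subgroup.centralizer ({t} : Set G)) < n := by
        rw [← hn]
        refine lt_of_le_of_ne (Subgroup.card_le_card_group _) fun heq => htc ?_
        have htop := Subgroup.eq_top_of_card_eq _ heq
        rw [Subgroup.mem_center_iff]
        intro g
        have hg : g ∈ Subgroup.centralizer ({t} : Set G) := by rw [htop]; exact Subgroup.mem_top g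
        exact Subgroup.mem_centralizer_singleton_iff.mp hg
      exact ih _ hlt _ _ rfl (h.pass hM ht rfl hSC)
    have hctx : Ctx M S := by
      refine ⟨h, ?_, ?_⟩
      · intro t ht htc m hm hmt
        obtain ⟨C, hC, hSC, hC2⟩ := key t ht htc
        have hmC : m ∈ C := by rw [hC]; exact Subgroup.mem_centralizer_singleton_iff.mpr hmt
        have := (h.toBase.sub hSC).norm_of_np hC2 ⟨m, hmC⟩ ?_
        · exact this
        · rw [Subgroup.mem_normalizer_iff]
          intro y
          exact Subgroup.mem_normalizer_iff.mp hm (y : G)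
      · intro t ht htc
        obtain ⟨C, hC, hSC, hC2⟩ := key t ht htc
        exact KB_self_np hM h.toBase ht hC hSC hC2
    exact hctx.false_of hM hx hx2 hx1

theorem Hyp.np {M : Ideal AlgInt} (hM : IsPModular 2 M) {G : Type u} [Group G] [Finite G]
    {S : Subgroup G} (h : Hyp M S) : NP G := Hyp.np_aux hM _ G S rfl h

end Cfsg.Agent.H70.PB
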