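import Cfsg.Agent.H70.PB7
import Cfsg.Agent.H4.CharKer
import Cfsg.Agent.H4.ZStar
import Cfsg.Agent.FT.Base
import Cfsg.Agent.BlkInd.GalTwo

set_option autoImplicit false
set_option linter.style.haveILetI false
set_option linter.unusedSimpArgs false
set_option linter.unusedSectionVars false
set_option linter.unusedVariables false

/-!
# Constant difference of degree and value (for S4514)
-/

namespace Cfsg.Agent.H70.PB

open scoped BigOperators ComplexConjugate
open Cfsg Cfsg.Agent.CharBase Cfsg.Agent.Blk Cfsg.Agent.BlkC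

universe u

section con

variable {G : Type u} [Group G] [Finite G] {M : Ideal AlgInt}

theorem oneIrr_mem_PBlk (hM : IsPModular 2 M) : oneIrr G ∈ PBlk M G := by
  haveI := isPrime_of_isPModular hM
  exact mem_PBlk.mpr oneIrr_mem_principalBlock

theorem deg_pos (χ : IrrCharacter G) : 0 < charDegree (χ : G → ℂ) := by
  rw [Nat.pos_iff_ne_zero]
  intro h
  have h1 := charDegree_spec χ
  rw [h, Nat.cast_zero] at h1
  exact irr_one_ne_zero χ.2 h1

/-- the intersection of the kernels is of odd order -/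
theorem mem_core_of_ker (hM : IsPModular 2 M) {g : G}
    (h : ∀ χ ∈ PBlk M G, (χ : G → ℂ) g = (χ : G → ℂ) 1) : g ∈ pPrimeCore 2 G := by
  haveI := Fact.mk hM.1
  have hle : ∀ χ ∈ PBlk M G, Subgroup.normalClosure {g} ≤ H4.charKer χ := by
    intro χ hχ
    refine Subgroup.normalClosure_le_normal ?_
    intro y hy
    rw [Set.mem_singleton_iff.mp hy]
    exact h χ hχ
  have hodd : Odd (Nat.card (Subgroup.normalClosure {g})) := by
    by_contra hne
    have h2 : 2 ∣ Nat.card (Subgroup.normalClosure {g}) := by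
      rw [Nat.not_odd_iff_even] at hne
      exact hne.two_dvd
    obtain ⟨t, ht⟩ := exists_prime_orderOf_dvd_card' 2 h2
    have h3 : 2 ∣ orderOf (t : G) := by rw [Subgroup.orderOf_coe, ht]
    have h4 := KB_reg_sing (M := M) hM (ordOne (G := G)) h3
    have h5 : KB M (1 : G) (t : G) = ((∑ χ ∈ PBlk M G, charDegree (χ : G → ℂ) ^ 2 : ℕ) : ℂ) := by
      unfold KB
      push_cast
      refine Finset.sum_congr rfl fun χ hχ => ?_
      have h6 : (χ : G → ℂ) t = (χ : G → ℂ) 1 := hle χ hχ t.2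
      rw [h6, charDegree_spec, Complex.conj_natCast]
      ring
    rw [h5] at h4
    have h6 : ∑ χ ∈ PBlk M G, charDegree (χ : G → ℂ) ^ 2 = 0 := by exact_mod_cast h4
    have h7 := Finset.sum_eq_zero_iff.mp h6 _ (oneIrr_mem_PBlk hM)
    exact (pow_pos (deg_pos (oneIrr G)) 2).ne' h7
  exact H4.le_pPrimeCore_two inferInstance hodd (Subgroup.subset_normalClosure (Set.mem_singleton g))

/-- the hypothesis of the theorem, with trivial core -/
structure Con (M : Ideal AlgInt) {G : Type u} [Group G] [Finite G] (u : G) (k : ℂ) : Prop where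
  core : pPrimeCore 2 G = ⊥
  hk : ∀ χ ∈ PBlk M G, χ ≠ oneIrr G → (χ : G → ℂ) 1 - (χ : G → ℂ) u = k
  ne : u ≠ 1

variable {u : G} {k : ℂ}

theorem Con.kne (hM : IsPModular 2 M) (h : Con M u k) : k ≠ 0 := by
  intro hk0
  apply h.ne
  have h1 : u ∈ pPrimeCore 2 G := by
    apply mem_core_of_ker hM
    intro χ hχ
    by_cases h2 : χ = oneIrr G
    · rw [h2]; rfl
    · have := h.hk χ hχ h2
      rw [hk0, sub_eq_zero] at this
      exact this.symm
  rw [h.core] at h1
  exact Subgroup.mem_bot.mp h1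

theorem even_deg (hM : IsPModular 2 M) (h2 : 2 ∣ Nat.card G) :
    2 ∣ ∑ χ ∈ PBlk M G, charDegree (χ : G → ℂ) := by
  haveI := Fintype.ofFinite G
  haveI := isPrime_of_isPModular hM
  have h1 : 2 ∣ ∑ χ ∈ PBlk M G, charDegree (χ : G → ℂ) ^ 2 := BlkInd.even_sum_sq hM h2
  have h3 : ∀ s : Finset (IrrCharacter G), (∑ χ ∈ s, charDegree (χ : G → ℂ)) % 2 =
      (∑ χ ∈ s, charDegree (χ : G → ℂ) ^ 2) % 2 := by
    classical
    intro s
    induction s using Finset.induction_on with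
    | empty => rfl
    | insert a s ha ih =>
      rw [Finset.sum_insert ha, Finset.sum_insert ha, Nat.add_mod, ih, Nat.add_mod (_ ^ 2)]
      congr 2
      rw [pow_two, Nat.mul_mod]
      rcases Nat.mod_two_eq_zero_or_one (charDegree (a : G → ℂ)) with h | h <;> rw [h]
  have := h3 (PBlk M G)
  omega

/-- two-elements are conjugate to the two-part of `u` -/
theorem Con.isConj (hM : IsPModular 2 M) (h : Con M u k) {s v : G} (hs : ∃ j, orderOf s = 2 ^ j)
    (hv : ¬ 2 ∣ orderOf v) (hc : Commute s v) (hu : s * v = u) {r : G} (hr1 : r ≠ 1)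
    (hr : ∃ j, orderOf r = 2 ^ j) : IsConj s r := by
  classical
  haveI := isPrime_of_isPModular hM
  haveI := Fact.mk hM.1
  by_contra hnc
  have hpr : IsPPart 2 r r := ⟨1, mul_one r, Commute.one_right r, hr, ordOne⟩
  have hpu : IsPPart 2 u s := ⟨v, hu, hc, hs, hv⟩
  have h1 := KB_sec hM hpr hpu (fun hh => hnc hh.symm)
  have h2r : 2 ∣ orderOf r := by
    obtain ⟨j, hj⟩ := hr
    rw [hj]
    rcases j with _ | j
    · exfalso
      rw [pow_zero, orderOf_eq_one_iff] at hj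
      exact hr1 hj
    · exact dvd_pow_self 2 (Nat.succ_ne_zero j)
  have h2 := KB_sing_reg (M := M) hM (ordOne (G := G)) h2r
  have h3 : ∑ χ ∈ PBlk M G, (χ : G → ℂ) r * conj ((χ : G → ℂ) 1 - (χ : G → ℂ) u) = 0 := by
    have e : KB M r (1 : G) - KB M r u = 0 := by rw [h1, h2, sub_self]
    unfold KB at e
    rw [← Finset.sum_sub_distrib] at e
    rw [← e]
    exact Finset.sum_congr rfl fun χ _ => by rw [map_sub]; ring
  rw [← Finset.add_sum_erase _ _ (oneIrr_mem_PBlk hM)] at h3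
  have h4 : ∑ χ ∈ (PBlk M G).erase (oneIrr G), (χ : G → ℂ) r * conj ((χ : G → ℂ) 1 - (χ : G → ℂ) u) =
      (∑ χ ∈ (PBlk M G).erase (oneIrr G), (χ : G → ℂ) r) * conj k := by
    rw [Finset.sum_mul]
    refine Finset.sum_congr rfl fun χ hχ => ?_
    rw [Finset.mem_erase] at hχ
    rw [h.hk χ hχ.2 hχ.1]
  rw [h4, oneIrr_apply, oneIrr_apply, oneIrr_apply, sub_self, map_zero, mul_zero, zero_add,
    mul_eq_zero] at h3
  have hkc : conj k ≠ 0 := by
    intro h0
    apply h.kne hM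
    rw [← Complex.conj_conj k, h0, map_zero]
  have h5 := h3.resolve_right hkc
  have h6 : ∑ χ ∈ PBlk M G, (χ : G → ℂ) r = 1 := by
    rw [← Finset.add_sum_erase _ _ (oneIrr_mem_PBlk hM), h5, oneIrr_apply, add_zero]
  have h7 : MemLocalIdeal M (∑ χ ∈ PBlk M G, (χ : G → ℂ) r - ∑ χ ∈ PBlk M G, (χ : G → ℂ) 1) := by
    rw [← Finset.sum_sub_distrib]
    refine mli_sum _ _ fun χ _ => ?_
    have := mli_val hM χ hr (ordOne (G := G)) (Commute.one_right r)
    rwa [mul_one] at this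
  have h8 : 2 ∣ Nat.card G := h2r.trans (orderOf_dvd_natCard r)
  have h9 := even_deg hM h8
  have h10 : ∑ χ ∈ PBlk M G, (χ : G → ℂ) 1 = ((∑ χ ∈ PBlk M G, charDegree (χ : G → ℂ) : ℕ) : ℂ) := by
    push_cast
    exact Finset.sum_congr rfl fun χ _ => charDegree_spec χ
  rw [h6, h10] at h7
  have h11 : (1 : ℂ) - ((∑ χ ∈ PBlk M G, charDegree (χ : G → ℂ) : ℕ) : ℂ) =
      ((1 - (∑ χ ∈ PBlk M G, charDegree (χ : G → ℂ) : ℕ) : ℤ) : ℂ) := by push_cast; ring
  rw [h11, mli_intCast_iff hM] at h7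
  omega

theorem orderOf_isConj {a b : G} (h : IsConj a b) : orderOf a = orderOf b := by
  obtain ⟨c, hc⟩ := isConj_iff.mp h
  have := MulEquiv.orderOf_eq (MulAut.conj c) a
  rw [← this, ← hc]
  rfl

/-- the situation after the first reduction -/
structure Con2 (M : Ideal AlgInt) {G : Type u} [Group G] [Finite G] (S : Subgroup G) (s v : G)
    (k : ℂ) : Prop where
  core : pPrimeCore 2 G = ⊥
  hk : ∀ χ ∈ PBlk M G, χ ≠ oneIrr G → (χ : G → ℂ) 1 - (χ : G → ℂ) (s * v) = k
  kne : k ≠ 0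
  two : IsPGroup 2 S
  idx : ¬ 2 ∣ S.index
  sq : ∀ r ∈ S, r * r = 1
  hs : s ∈ S
  hs1 : s ≠ 1
  fus : ∀ r : G, r ≠ 1 → (∃ j, orderOf r = 2 ^ j) → IsConj s r
  hv : ¬ 2 ∣ orderOf v
  comm : Commute s v

theorem Con.con2 (hM : IsPModular 2 M) (h : Con M u k) :
    ∃ (S : Subgroup G) (s v : G), s * v = u ∧ Con2 M S s v k := by
  haveI := Fact.mk hM.1
  obtain ⟨s, v, h1, h2, h3, h4, h5, h6⟩ := BlkInd.exists_decomp Nat.prime_two u
  have hev : 2 ∣ Nat.card G := by
    by_contra hodd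
    have h7 : (⊤ : Subgroup G) ≤ pPrimeCore 2 G := by
      apply H4.le_pPrimeCore_two inferInstance
      rw [Subgroup.card_top]
      exact Nat.odd_iff.mpr (by omega)
    rw [h.core] at h7
    exact h.ne (Subgroup.mem_bot.mp (h7 (Subgroup.mem_top u)))
  have hfus : ∀ r : G, r ≠ 1 → (∃ j, orderOf r = 2 ^ j) → IsConj s r := fun r hr1 hr =>
    h.isConj hM h3 h4 h2.symm h1 hr1 hr
  obtain ⟨t, ht⟩ := exists_prime_orderOf_dvd_card' (G := G) 2 hev
  have ht1 : t ≠ 1 := by
    rintro rfl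
    rw [orderOf_one] at ht
    omega
  have hst := hfus t ht1 ⟨1, by rw [ht, pow_one]⟩
  have hs2 : orderOf s = 2 := by rw [orderOf_isConj hst, ht]
  have hs1 : s ≠ 1 := by
    rintro rfl
    rw [orderOf_one] at hs2
    omega
  have hz : IsPGroup 2 (Subgroup.zpowers s) := IsPGroup.of_card (n := 1) (by
    rw [Nat.card_zpowers, hs2, pow_one])
  obtain ⟨P, hP⟩ := hz.exists_le_sylow
  refine ⟨P, s, v, h1, h.core, ?_, h.kne hM, P.isPGroup', P.not_dvd_index, ?_,
    hP (Subgroup.mem_zpowers s), hs1, hfus, h4, h2.symm⟩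
  · intro χ hχ hne
    rw [h1]
    exact h.hk χ hχ hne
  · intro r hr
    by_cases hr1 : r = 1
    · rw [hr1, mul_one]
    · have h7 : ∃ j, orderOf r = 2 ^ j := by
        obtain ⟨j, hj⟩ := IsPGroup.iff_orderOf.mp P.isPGroup' ⟨r, hr⟩
        exact ⟨j, by rwa [Subgroup.orderOf_mk] at hj⟩
      have h8 := orderOf_isConj (hfus r hr1 h7)
      rw [hs2] at h8
      have := pow_orderOf_eq_one r
      rwa [← h8, pow_two] at this

end con

end Cfsg.Agent.H70.PB
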