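import Cfsg.Agent.H70.PB8

set_option autoImplicit false
set_option linter.style.haveILetI false
set_option linter.unusedSimpArgs false
set_option linter.unusedSectionVars false
set_option linter.unusedVariables false

/-!
# Constant difference of degree and value: faithfulness (for S4514)
-/

namespace Cfsg.Agent.H70.PB

open scoped BigOperators ComplexConjugate
open Cfsg Cfsg.Agent.CharBase Cfsg.Agent.Blk Cfsg.Agent.BlkC

universe u

section faith

variable {G : Type u} [Group G] [Finite G] {M : Ideal AlgInt} {S : Subgroup G}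

theorem cong_of_index (hM : IsPModular 2 M) {χ : IrrCharacter G} (hχ : χ ∈ PBlk M G) {c : G}
    (hc : ¬ 2 ∣ (Subgroup.centralizer ({c} : Set G)).index) :
    MemLocalIdeal M ((χ : G → ℂ) c / (χ : G → ℂ) 1 - 1) := by
  haveI := isPrime_of_isPModular hM
  haveI := Fact.mk hM.1
  have h1 := mem_PBlk.mp hχ c
  unfold centralChar at h1
  have h2 := mlr_natCast_inv hM hc
  have h3 := mli_mul_left h2 (mli_neg h1)
  have h4 : (((Subgroup.centralizer ({c} : Set G)).index : ℕ) : ℂ) ≠ 0 := by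
    exact_mod_cast Subgroup.index_ne_zero_of_finite
  have h5 : (χ : G → ℂ) c / (χ : G → ℂ) 1 - 1 =
      (((Subgroup.centralizer ({c} : Set G)).index : ℕ) : ℂ)⁻¹ *
        -((((Subgroup.centralizer ({c} : Set G)).index : ℕ) : ℂ) * 1 / 1 -
          (((Subgroup.centralizer ({c} : Set G)).index : ℕ) : ℂ) * (χ : G → ℂ) c / (χ : G → ℂ) 1) := by
    have h6 := irr_one_ne_zero χ.2
    field_simp
    ring
  rw [h5]
  exact h3

theorem exists_conj_cent (two : IsPGroup 2 S) {g : G}
    (hg : ¬ 2 ∣ (Subgroup.centralizer ({g} : Set G)).index) :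
    ∃ x : G, x * g * x⁻¹ ∈ Subgroup.centralizer (S : Set G) := by
  haveI : Fact (Nat.Prime 2) := ⟨Nat.prime_two⟩
  obtain ⟨y, hy⟩ := two.nonempty_fixed_point_of_prime_not_dvd_card
    (G ⧸ Subgroup.centralizer ({g} : Set G)) hg
  obtain ⟨y, rfl⟩ := QuotientGroup.mk_surjective y
  refine ⟨y, Subgroup.mem_centralizer_iff.mpr fun s hs => ?_⟩
  have h1 : (QuotientGroup.mk (s * y) : G ⧸ Subgroup.centralizer ({g} : Set G)) =
      QuotientGroup.mk y := hy ⟨s, hs⟩
  rw [eq_comm, QuotientGroup.eq, Subgroup.mem_centralizer_singleton_iff] at h1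
  calc s * (y * g * y⁻¹) = y * (y⁻¹ * (s * y) * g) * y⁻¹ := by group
    _ = y * (g * (y⁻¹ * (s * y))) * y⁻¹ := by rw [h1]
    _ = y * g * y⁻¹ * s := by group

theorem index_cent_odd (idx : ¬ 2 ∣ S.index) {c : G} (hc : c ∈ Subgroup.centralizer (S : Set G)) :
    ¬ 2 ∣ (Subgroup.centralizer ({c} : Set G)).index := by
  intro h
  have h5 : S ≤ Subgroup.centralizer ({c} : Set G) := fun t ht =>
    Subgroup.mem_centralizer_singleton_iff.mpr (Subgroup.mem_centralizer_iff.mp hc t ht)
  exact idx (h.trans (Subgroup.index_dvd_of_le h5))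

variable {s v : G} {k : ℂ}

theorem Con2.two_conj (h : Con2 M S s v k) {r : G} (hr : r ∈ S) (hr1 : r ≠ 1) : IsConj s r := by
  apply h.fus r hr1
  obtain ⟨j, hj⟩ := IsPGroup.iff_orderOf.mp h.two ⟨r, hr⟩
  exact ⟨j, by rwa [Subgroup.orderOf_mk] at hj⟩

theorem Con2.le_closure (h : Con2 M S s v k) : S ≤ Subgroup.normalClosure ({s} : Set G) := by
  intro r hr
  by_cases hr1 : r = 1
  · rw [hr1]; exact one_mem _
  · obtain ⟨g, hg⟩ := isConj_iff.mp (h.two_conj hr hr1)
    rw [← hg]
    exact (inferInstance : (Subgroup.normalClosure ({s} : Set G)).Normal).conj_mem _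
      (Subgroup.subset_normalClosure (Set.mem_singleton s)) g

/-- the group generated by the normal closure of the involution and the centralizer of `S` -/
def G1 (S : Subgroup G) (s : G) : Subgroup G :=
  Subgroup.normalClosure ({s} : Set G) ⊔ Subgroup.centralizer (S : Set G)

theorem Con2.exists_decomp (h : Con2 M S s v k) (g : G) :
    ∃ n ∈ Subgroup.normalClosure ({s} : Set G), ∃ m ∈ Subgroup.normalizer (S : Set G), g = n * m := by
  haveI : Fact (Nat.Prime 2) := ⟨Nat.prime_two⟩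
  let P : Sylow 2 G := h.two.toSylow h.idx
  have hP : (P : Subgroup G) = S := rfl
  have h1 := Sylow.normalizer_sup_eq_top' (N := Subgroup.normalClosure ({s} : Set G)) P h.le_closure
  have h2 : g ∈ Subgroup.normalizer (P : Set G) ⊔ Subgroup.normalClosure ({s} : Set G) := by
    rw [h1]; exact Subgroup.mem_top g
  rw [sup_comm] at h2
  obtain ⟨n, hn, m, hm, hnm⟩ := Subgroup.mem_sup_of_normal_left.mp h2
  exact ⟨n, hn, m, hm, hnm.symm⟩

theorem Con2.G1_normal (h : Con2 M S s v k) : (G1 S s).Normal := by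
  constructor
  intro c hc g
  obtain ⟨n, hn, a, ha, rfl⟩ := Subgroup.mem_sup_of_normal_left.mp hc
  have h0 : g * (n * a) * g⁻¹ = (g * n * g⁻¹) * (g * a * g⁻¹) := by group
  rw [h0]
  refine mul_mem (Subgroup.mem_sup_left
    ((inferInstance : (Subgroup.normalClosure ({s} : Set G)).Normal).conj_mem _ hn g)) ?_
  obtain ⟨n', hn', m, hm, rfl⟩ := h.exists_decomp g
  have h1 : m * a * m⁻¹ ∈ Subgroup.centralizer (S : Set G) := by
    rw [Subgroup.mem_centralizer_iff]
    intro t ht
    have h2 : m⁻¹ * t * m ∈ S := (Subgroup.mem_normalizer_iff''.mp hm t).mp ht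
    have h3 := Subgroup.mem_centralizer_iff.mp ha _ h2
    calc t * (m * a * m⁻¹) = m * (m⁻¹ * t * m * a) * m⁻¹ := by group
      _ = m * (a * (m⁻¹ * t * m)) * m⁻¹ := by rw [h3]
      _ = m * a * m⁻¹ * t := by group
  have h2 : n' * m * a * (n' * m)⁻¹ = n' * (m * a * m⁻¹) * n'⁻¹ := by group
  rw [h2]
  exact mul_mem (mul_mem (Subgroup.mem_sup_left hn') (Subgroup.mem_sup_right h1))
    (inv_mem (Subgroup.mem_sup_left hn'))

theorem Con2.G1_top (hM : IsPModular 2 M) (h : Con2 M S s v k) : G1 S s = ⊤ := by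
  classical
  haveI := Fact.mk hM.1
  haveI := isPrime_of_isPModular hM
  haveI := Fintype.ofFinite G
  haveI := h.G1_normal
  by_contra hne
  have hidx : ¬ 2 ∣ (G1 S s).index := by
    intro h2
    exact h.idx (h2.trans (Subgroup.index_dvd_of_le (h.le_closure.trans le_sup_left)))
  have hodd : Odd (Nat.card (G ⧸ G1 S s)) := Nat.odd_iff.mpr (by
    have : Nat.card (G ⧸ G1 S s) = (G1 S s).index := rfl
    omega)
  haveI hsol : Group.IsSolvable (G ⧸ G1 S s) := FT.solvable_of_odd hodd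
  haveI : Nontrivial (G ⧸ G1 S s) := by
    rw [← not_subsingleton_iff_nontrivial]
    intro hss
    exact hne (QuotientGroup.subgroup_eq_top_of_subsingleton _ hss)
  have hlt := Group.IsSolvable.commutator_lt_top_of_nontrivial (G := G ⧸ G1 S s)
  obtain ⟨y, hy⟩ : ∃ y : G ⧸ G1 S s, y ∉ commutator (G ⧸ G1 S s) := by
    by_contra hcon
    push Not at hcon
    exact hlt.ne ((Subgroup.eq_top_iff' _).mpr hcon)
  have hy' : (Abelianization.of y : Abelianization (G ⧸ G1 S s)) ≠ 1 := by
    intro h0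
    exact hy ((QuotientGroup.eq_one_iff y).mp h0)
  haveI : Finite (Abelianization (G ⧸ G1 S s)) := Quotient.finite _
  obtain ⟨φ, hφ⟩ := CommGroup.exists_apply_ne_one_of_hasEnoughRootsOfUnity
    (Abelianization (G ⧸ G1 S s)) ℂ hy'
  let lam : G →* ℂˣ := (φ.comp Abelianization.of).comp (QuotientGroup.mk' (G1 S s))
  have hlam1 : ∀ x ∈ G1 S s, lam x = 1 := by
    intro x hx
    show φ (Abelianization.of (QuotientGroup.mk x)) = 1
    rw [(QuotientGroup.eq_one_iff x).mpr hx, map_one, map_one]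
  have hlamo : ∀ x : G, lam x ^ (G1 S s).index = 1 := by
    intro x
    rw [← map_pow]
    apply hlam1
    exact Subgroup.pow_index_mem (G1 S s) x
  obtain ⟨y, rfl⟩ := QuotientGroup.mk_surjective y
  have hlamy : lam y ≠ 1 := hφ
  have hmem : ∀ μ : G →* ℂˣ, (∀ x ∈ G1 S s, μ x = 1) → BlkInd.linIrr μ ∈ PBlk M G := by
    intro μ hμ
    refine mem_PBlk.mpr fun g => ?_
    have hval : ((BlkInd.linIrr μ : IrrCharacter G) : G → ℂ) = fun x => ((μ x : ℂˣ) : ℂ) := rfl
    rw [hval]
    unfold centralChar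
    simp only [map_one, Units.val_one, mul_one, div_one]
    by_cases hg : 2 ∣ (Subgroup.centralizer ({g} : Set G)).index
    · have e : (((Subgroup.centralizer ({g} : Set G)).index : ℕ) : ℂ) -
          (((Subgroup.centralizer ({g} : Set G)).index : ℕ) : ℂ) * ((μ g : ℂˣ) : ℂ) =
          (((Subgroup.centralizer ({g} : Set G)).index : ℕ) : ℂ) * (1 - ((μ g : ℂˣ) : ℂ)) := by ring
      rw [e]
      refine mli_mul_right ((mli_natCast_iff hM _).mpr hg) (mlr_sub mlr_one ?_)
      exact Cfsg.Agent.Char.MP.mlr_char (irr_isCharacter (BlkInd.linIrr μ)) g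
    · obtain ⟨x, hx⟩ := exists_conj_cent h.two hg
      have h1 : μ g = 1 := by
        have h2 : μ (x * g * x⁻¹) = 1 := hμ _ (Subgroup.mem_sup_right hx)
        rw [map_mul, map_mul, mul_comm (μ x), mul_assoc, ← map_mul, mul_inv_cancel, map_one,
          mul_one] at h2
        exact h2
      rw [h1, Units.val_one, mul_one, sub_self]
      exact mli_zero
  have hsq : lam * lam ≠ 1 := by
    intro h0
    apply hlamy
    have h1 : lam y * lam y = 1 := DFunLike.congr_fun h0 y
    have h2 := hlamo y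
    obtain ⟨j, hj⟩ := Nat.odd_iff.mpr (show (G1 S s).index % 2 = 1 by omega)
    rw [hj, pow_succ, pow_mul, pow_two, h1, one_pow, one_mul] at h2
    exact h2
  have hlne : lam ≠ 1 := by
    intro h0
    exact hlamy (DFunLike.congr_fun h0 y)
  have hne1 : ∀ μ : G →* ℂˣ, μ ≠ 1 → BlkInd.linIrr μ ≠ oneIrr G := by
    intro μ hμ h0
    apply hμ
    apply MonoidHom.ext
    intro x
    have h1 : ((BlkInd.linIrr μ : IrrCharacter G) : G → ℂ) x = 1 := by rw [h0]; rfl
    exact Units.ext h1
  have e1 := h.hk _ (hmem lam hlam1) (hne1 _ hlne)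
  have e2 := h.hk _ (hmem (lam * lam) (fun x hx => by
    rw [MonoidHom.mul_apply, hlam1 x hx, one_mul])) (hne1 _ hsq)
  have hval : ∀ μ : G →* ℂˣ, ∀ x, ((BlkInd.linIrr μ : IrrCharacter G) : G → ℂ) x = ((μ x : ℂˣ) : ℂ) :=
    fun _ _ => rfl
  rw [hval, hval, map_one, Units.val_one] at e1
  rw [hval, hval, map_one, Units.val_one, MonoidHom.mul_apply, Units.val_mul] at e2
  have h3 : ((lam (s * v) : ℂˣ) : ℂ) ≠ 0 := Units.ne_zero _
  have h4 : ((lam (s * v) : ℂˣ) : ℂ) = 1 := by
    apply mul_right_cancel₀ h3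
    linear_combination e1 - e2
  rw [h4, sub_self] at e1
  exact h.kne e1.symm

theorem Con2.faithful (hM : IsPModular 2 M) (h : Con2 M S s v k) {χ : IrrCharacter G}
    (hχ : χ ∈ PBlk M G) (hne : χ ≠ oneIrr G) : (χ : G → ℂ) s ≠ (χ : G → ℂ) 1 := by
  classical
  haveI := Fact.mk hM.1
  haveI := isPrime_of_isPModular hM
  haveI := Fintype.ofFinite G
  intro hs
  set N := Subgroup.normalClosure ({s} : Set G) with hN
  haveI := Fintype.ofFinite (G ⧸ N)
  have hle : N ≤ H4.charKer χ := by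
    refine Subgroup.normalClosure_le_normal ?_
    intro y hy
    rw [Set.mem_singleton_iff.mp hy]
    exact hs
  obtain ⟨ψ, hψ, hψ2⟩ := H75.exists_deflate_irr N χ.2 (fun n hn => hle hn)
  have hidx : ¬ 2 ∣ N.index := by
    intro h2
    exact h.idx (h2.trans (Subgroup.index_dvd_of_le h.le_closure))
  have hψ1 : ψ 1 = (χ : G → ℂ) 1 := by rw [← hψ2 1]; rfl
  have hcong : ∀ g : G, MemLocalIdeal M ((χ : G → ℂ) g / (χ : G → ℂ) 1 - 1) := by
    intro g
    have hg : g ∈ G1 S s := by rw [h.G1_top hM]; exact Subgroup.mem_top g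
    obtain ⟨n, hn, c, hc, rfl⟩ := Subgroup.mem_sup_of_normal_left.mp hg
    have h1 : (χ : G → ℂ) (n * c) = (χ : G → ℂ) c := by
      rw [← hψ2, ← hψ2]
      congr 1
      rw [QuotientGroup.mk_mul, (QuotientGroup.eq_one_iff n).mpr hn, one_mul]
    rw [h1]
    exact cong_of_index hM hχ (index_cent_odd h.idx hc)
  have hsum : ∑ x : G ⧸ N, ψ x = 0 := by
    have h1 : ψ ≠ fun _ => 1 := by
      intro h0
      apply hne
      apply Subtype.ext
      funext g
      rw [← hψ2, h0]
      rfl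
    have h2 : classInner ψ (fun _ => 1) = 0 :=
      classInner_irr_of_ne (χ := ⟨ψ, hψ⟩) (ψ := oneIrr (G ⧸ N))
        (fun h0 => h1 (congrArg Subtype.val h0))
    unfold classInner at h2
    simp only [map_one, mul_one] at h2
    rcases mul_eq_zero.mp h2 with h3 | h3
    · exact absurd h3 (inv_ne_zero (card_ne _))
    · exact h3
  have h2 : MemLocalIdeal M (∑ x : G ⧸ N, (ψ x / ψ 1 - 1)) := by
    refine mli_sum _ _ fun x _ => ?_
    obtain ⟨g, rfl⟩ := QuotientGroup.mk_surjective x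
    rw [hψ2, hψ1]
    exact hcong g
  rw [Finset.sum_sub_distrib, ← Finset.sum_div, hsum, zero_div, zero_sub, Finset.sum_const,
    Finset.card_univ, nsmul_eq_mul, mul_one, ← Nat.card_eq_fintype_card] at h2
  have h3 := mli_neg h2
  rw [neg_neg, mli_natCast_iff hM] at h3
  exact hidx h3

end faith

end Cfsg.Agent.H70.PB
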